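import Groth.Agent.GLinFree.Coideal
import Groth.Agent.Comod.LineStab
import Groth.Agent.GModLib.Inv
import Groth.Agent.HopfPoint.Basic
import Groth.Agent.Comod.DualModule
import Mathlib.RingTheory.Spectrum.Prime.Chevalley
import Mathlib.RingTheory.HopfAlgebra.Convolution

/-!
Coset rings of subgroups of unipotent groups.
-/

set_option autoImplicit false
set_option linter.unusedSectionVars false
set_option linter.style.haveILetI false
set_option maxHeartbeats 1000000
set_option synthInstance.maxHeartbeats 200000

universe u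

open TensorProduct Coalgebra WithConv

noncomputable section

namespace Groth.Agent.WeilAff.Unip

open Groth.Agent.GModLib (cf)
open Groth.Agent.FlatSub (incl lft incl_injective)

variable {k : Type u} [Field k] {C : Type u} [CommRing C] [HopfAlgebra k C]
variable {V : Type u} [AddCommGroup V] [Module k V] [HopfRep.Comod k C V]
variable {n : ℕ} (b : Module.Basis (Fin n) k V)

theorem sum_decomp {M : Type u} [AddCommGroup M] [Module k M] (t : V ⊗[k] M) :
    t = ∑ j, b j ⊗ₜ[k] TensorProduct.lid k M ((b.coord j).rTensor M t) := by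
  induction t using TensorProduct.induction_on with
  | zero => simp
  | add x y hx hy => simp only [map_add, TensorProduct.tmul_add, Finset.sum_add_distrib, ← hx, ← hy]
  | tmul x m =>
    simp only [LinearMap.rTensor_tmul, TensorProduct.lid_tmul, TensorProduct.tmul_smul, TensorProduct.smul_tmul']
    rw [← TensorProduct.sum_tmul]
    simp

theorem coact_eq_sum (v : V) :
    HopfRep.Comod.coact (k := k) (A := C) v = ∑ j, b j ⊗ₜ[k] cf (C := C) (b.coord j) v :=
  sum_decomp b _

theorem comul_cf (l : V →ₗ[k] k) (v : V) :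
    comul (R := k) (cf (C := C) l v) = ∑ j, cf (C := C) l (b j) ⊗ₜ[k] cf (C := C) (b.coord j) v := by
  have h := LinearMap.congr_fun (HopfRep.Comod.coassoc (k := k) (A := C) (V := V)) v
  simp only [LinearMap.comp_apply] at h
  let Φ : V ⊗[k] (C ⊗[k] C) →ₗ[k] C ⊗[k] C := (TensorProduct.lid k _).toLinearMap ∘ₗ l.rTensor _
  have hR : Φ ((CoalgebraStruct.comul (R := k) (A := C)).lTensor V (HopfRep.Comod.coact (k := k) (A := C) v)) =
      comul (R := k) (cf (C := C) l v) := by
    show Φ _ = comul (R := k) (TensorProduct.lid k C (l.rTensor C _))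
    generalize HopfRep.Comod.coact (k := k) (A := C) v = t
    induction t using TensorProduct.induction_on with
    | zero => simp
    | tmul x c => simp [Φ]
    | add x y hx hy => simp only [map_add, hx, hy]
  rw [← hR, ← h, coact_eq_sum b v, map_sum, map_sum, map_sum]
  refine Finset.sum_congr rfl fun j _ => ?_
  simp only [LinearMap.rTensor_tmul, cf]
  generalize HopfRep.Comod.coact (k := k) (A := C) (b j) = t
  induction t using TensorProduct.induction_on with
  | zero => simp
  | tmul x c => simp [Φ, TensorProduct.smul_tmul']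
  | add x y hx hy =>
    simp only [map_add, TensorProduct.add_tmul] at hx hy ⊢
    rw [hx, hy]

theorem counit_cf (l : V →ₗ[k] k) (v : V) : counit (R := k) (cf (C := C) l v) = l v := by
  have h := LinearMap.congr_fun (HopfRep.Comod.counit_comp (k := k) (A := C) (V := V)) v
  simp only [LinearMap.comp_apply, LinearMap.flip_apply, TensorProduct.mk_apply] at h
  have h2 := congrArg (fun t => TensorProduct.lid k k (l.rTensor k t)) h
  simp only [LinearMap.rTensor_tmul, TensorProduct.lid_tmul, smul_eq_mul, mul_one] at h2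
  rw [← h2]
  show counit (R := k) (TensorProduct.lid k C (l.rTensor C _)) = _
  generalize HopfRep.Comod.coact (k := k) (A := C) v = t
  induction t using TensorProduct.induction_on with
  | zero => simp
  | tmul x c => simp
  | add x y hx hy => simp only [map_add, hx, hy]

variable {B : Type u} [CommRing B] [Algebra k B]

include b in
theorem mul_apply_cf (φ ψ : WithConv (C →ₐ[k] B)) (l : V →ₗ[k] k) (v : V) :
    (φ * ψ).ofConv (cf l v) = ∑ j, φ.ofConv (cf l (b j)) * ψ.ofConv (cf (b.coord j) v) := by
  show (φ * ψ) (cf (C := C) l v) = _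
  rw [AlgHom.convMul_apply, comul_cf b, map_sum]
  exact Finset.sum_congr rfl fun j _ => by simp

theorem one_apply_cf (l : V →ₗ[k] k) (v : V) :
    (1 : WithConv (C →ₐ[k] B)).ofConv (cf l v) = algebraMap k B (l v) := by
  rw [← counit_cf (C := C) l v]
  rfl

theorem inv_apply (φ : WithConv (C →ₐ[k] B)) (c : C) :
    (φ⁻¹).ofConv c = φ.ofConv (HopfAlgebra.antipodeAlgHom k C c) := rfl

include b in
theorem cf_linear (φ : WithConv (C →ₐ[k] B)) (l : V →ₗ[k] k) (v : V) :
    φ.ofConv (cf (C := C) l v) = ∑ i, algebraMap k B (b.coord i v) * φ.ofConv (cf l (b i)) := by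
  conv_lhs => rw [← b.sum_repr v]
  simp only [cf, map_sum, map_smul, Algebra.smul_def, map_mul, AlgHom.commutes, Module.Basis.coord_apply]

/-- the functions `l(g⁻¹ v)` -/
def gen (v : V) (l : V →ₗ[k] k) : C := HopfAlgebra.antipodeAlgHom k C (cf l v)

/-- the ring they generate -/
def ring (v : V) : Subalgebra k C := Algebra.adjoin k (Set.range fun i => gen (C := C) v (b.coord i))

variable (v : V)

include b in
theorem gen_mem (l : V →ₗ[k] k) : gen (C := C) v l ∈ ring (C := C) b v := by
  have h : gen (C := C) v l = ∑ i, l (b i) • gen (C := C) v (b.coord i) := by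
    simp only [gen, ← map_smul, ← map_sum]
    congr 1
    simp only [cf]
    generalize HopfRep.Comod.coact (k := k) (A := C) v = t
    induction t using TensorProduct.induction_on with
    | zero => simp
    | add x y hx hy => simp only [map_add, smul_add, Finset.sum_add_distrib, hx, hy]
    | tmul x c =>
      simp only [LinearMap.rTensor_tmul, TensorProduct.lid_tmul, smul_smul, ← Finset.sum_smul]
      congr 1
      conv_lhs => rw [← b.sum_repr x]
      simp only [map_sum, map_smul, smul_eq_mul, Module.Basis.coord_apply]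
      exact Finset.sum_congr rfl fun i _ => mul_comm _ _
  rw [h]
  exact Subalgebra.sum_mem _ fun i _ => Subalgebra.smul_mem _ (Algebra.subset_adjoin (Set.mem_range_self i)) _

/-- the generators, as elements of the ring -/
def genR (l : V →ₗ[k] k) : ring (C := C) b v := ⟨gen v l, gen_mem b v l⟩

theorem comul_gen (l : V →ₗ[k] k) :
    comul (R := k) (gen (C := C) v l) =
      ∑ j, gen (C := C) v (b.coord j) ⊗ₜ[k] HopfAlgebra.antipodeAlgHom k C (cf l (b j)) := by
  let L : WithConv (C →ₐ[k] C ⊗[k] C) := toConv Algebra.TensorProduct.includeLeft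
  let R' : WithConv (C →ₐ[k] C ⊗[k] C) := toConv Algebra.TensorProduct.includeRight
  have hcomul : ∀ c, (L * R').ofConv c = comul (R := k) c := fun c => by
    show (L * R') c = _
    rw [AlgHom.convMul_apply]
    generalize comul (R := k) c = t
    induction t using TensorProduct.induction_on with
    | zero => simp
    | tmul x y => simp [L, R']
    | add x y hx hy => simp only [map_add, hx, hy]
  rw [gen, ← hcomul, ← inv_apply, _root_.mul_inv_rev, mul_apply_cf b]
  refine Finset.sum_congr rfl fun j _ => ?_
  rw [inv_apply, inv_apply]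
  simp [L, R', gen]

theorem exists_coideal : ∃ δ : ring (C := C) b v →ₐ[k] ring (C := C) b v ⊗[k] C,
    ∀ x, incl (ring (C := C) b v) (δ x) = comul (R := k) (x : C) := by
  have h : ∀ x : ring (C := C) b v, Bialgebra.comulAlgHom k C (x : C) ∈ (incl (ring (C := C) b v)).range := by
    rintro ⟨x, hx⟩
    have hle : ring (C := C) b v ≤ (incl (ring (C := C) b v)).range.comap (Bialgebra.comulAlgHom k C) := by
      refine Algebra.adjoin_le ?_
      rintro _ ⟨i, rfl⟩
      show comul (R := k) (gen (C := C) v (b.coord i)) ∈ (incl (ring (C := C) b v)).range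
      rw [comul_gen b v]
      exact sum_mem fun j _ => ⟨(genR (C := C) b v (b.coord j)) ⊗ₜ[k] _, rfl⟩
    exact hle hx
  refine ⟨(AlgEquiv.ofInjective _ (incl_injective (B := ring (C := C) b v))).symm.toAlgHom.comp
    (((Bialgebra.comulAlgHom k C).comp (ring (C := C) b v).val).codRestrict _ h), fun x => ?_⟩
  exact congr_arg Subtype.val
    ((AlgEquiv.ofInjective _ (incl_injective (B := ring (C := C) b v))).apply_symm_apply ⟨_, h x⟩)

variable {b v}

theorem delta_gen {δ : ring (C := C) b v →ₐ[k] ring (C := C) b v ⊗[k] C}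
    (hδ : ∀ x, incl (ring (C := C) b v) (δ x) = comul (R := k) (x : C)) (l : V →ₗ[k] k) :
    δ (genR b v l) = ∑ j, (genR b v (b.coord j)) ⊗ₜ[k]
      HopfAlgebra.antipodeAlgHom k C (cf l (b j)) := by
  refine incl_injective (B := ring (C := C) b v) ?_
  rw [hδ, map_sum, show ((genR (C := C) b v l : ring (C := C) b v) : C) = gen (C := C) v l from rfl, comul_gen b v]
  rfl

theorem algHom_ext' {P : Type u} [Semiring P] [Algebra k P] {f g : ring (C := C) b v →ₐ[k] P}
    (h : ∀ l, f (genR b v l) = g (genR b v l)) : f = g :=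
  AlgHom.adjoin_ext fun x hx => by
    obtain ⟨i, rfl⟩ := hx
    exact h (b.coord i)

variable (b v)

/-- two points agree on the ring iff their quotient fixes the vector -/
theorem agree_iff (φ φ' : WithConv (C →ₐ[k] B)) :
    (φ.ofConv.comp (ring (C := C) b v).val = φ'.ofConv.comp (ring (C := C) b v).val) ↔
      ∀ l, (φ' * φ⁻¹).ofConv (cf l v) = algebraMap k B (l v) := by
  constructor
  · intro h l
    have h' : ∀ l, φ⁻¹.ofConv (cf l v) = φ'⁻¹.ofConv (cf l v) := fun l =>
      AlgHom.congr_fun h (genR b v l)
    rw [mul_apply_cf b, Finset.sum_congr rfl (fun j _ => by rw [h']), ← mul_apply_cf b φ' φ'⁻¹, mul_inv_cancel,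
      one_apply_cf]
  · intro h
    refine algHom_ext' fun l => ?_
    show φ⁻¹.ofConv (cf l v) = φ'⁻¹.ofConv (cf l v)
    conv_lhs => rw [show φ⁻¹ = φ'⁻¹ * (φ' * φ⁻¹) by rw [inv_mul_cancel_left]]
    rw [mul_apply_cf b, cf_linear b φ'⁻¹ l v]
    exact Finset.sum_congr rfl fun i _ => by rw [h, mul_comm]

variable [IsAlgClosed k] [Algebra.FiniteType k C] [_root_.IsReduced C] (hU : HopfRep.IsUnipotent k C)

include hU in
theorem simple {R : Subalgebra k C} (δ : R →ₐ[k] R ⊗[k] C) (hδ : ∀ x, incl R (δ x) = comul (R := k) (x : C))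
    (F : Ideal R) (hF : ∀ f ∈ F, δ f ∈ Ideal.span (lft R '' (F : Set R))) : F = ⊥ ∨ F = ⊤ := by
  classical
  refine or_iff_not_imp_left.2 fun hF0 => ?_
  obtain ⟨f, hf, hf0⟩ := (Submodule.ne_bot_iff F).1 hF0
  let Fc : Submodule k C := (F.restrictScalars k).map R.val.toLinearMap
  have hFc : HopfRep.IsSubcomod (k := k) (A := C) Fc := by
    rintro _ ⟨x, hx, rfl⟩
    show comul (R := k) (x : C) ∈ _
    rw [← hδ]
    let M : Submodule k (C ⊗[k] C) := LinearMap.range (Fc.subtype.rTensor C)
    have key : ∀ t ∈ Ideal.span (lft R '' (F : Set R)), incl R t ∈ M := by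
      intro t ht
      induction ht using Submodule.span_induction with
      | mem t ht =>
        obtain ⟨y, hy, rfl⟩ := ht
        exact ⟨(⟨(y : C), y, hy, rfl⟩ : Fc) ⊗ₜ[k] 1, rfl⟩
      | zero => simp
      | add x y _ _ hx hy => rw [map_add]; exact add_mem hx hy
      | smul a x _ hx =>
        rw [smul_eq_mul, map_mul]
        obtain ⟨s, hs⟩ := hx
        rw [← hs]
        clear hs
        induction a using TensorProduct.induction_on with
        | zero => simp
        | add a a' ha ha' => rw [map_add, add_mul]; exact add_mem ha ha'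
        | tmul r c =>
          induction s using TensorProduct.induction_on with
          | zero => simp
          | add s s' hs hs' => rw [map_add, mul_add]; exact add_mem hs hs'
          | tmul y c' =>
            obtain ⟨y₀, hy₀, hy₁⟩ := y.2
            refine ⟨(⟨(r : C) * y, r * y₀, F.mul_mem_left r hy₀, ?_⟩ : Fc) ⊗ₜ[k] (c * c'), by simp⟩
            show ((r * y₀ : R) : C) = _
            rw [← hy₁]; rfl
    exact key _ (hF x hx)
  obtain ⟨S, hS, hfin⟩ := Comod.exists_finite_subcomod_finset (K := k) (C := C) ({(f : C)} : Finset C)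
  let U := Comod.subEquiv k C C ⟨Fc, hFc⟩
  let W : Submodule k C := Comod.ofDSub (S ⊓ U)
  have hW : HopfRep.IsSubcomod (k := k) (A := C) W := Comod.isSubcomod_ofDSub _
  haveI := hfin
  haveI : Module.Finite k W := Submodule.finiteDimensional_of_le
    (show W ≤ Comod.ofDSub S by simp only [W, Comod.ofDSub_inf]; exact inf_le_left)
  have hfW : (f : C) ∈ W := ⟨hS _ (Finset.mem_singleton_self _), ⟨f, hf, rfl⟩⟩
  haveI : Nontrivial W := ⟨⟨⟨f, hfW⟩, 0, fun h => hf0 (Subtype.ext congr($(h).1))⟩⟩
  let cC : HopfRep.Comod k C C := inferInstance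
  letI cW : HopfRep.Comod k C W := ComodSub.Comod.restr cC W hW
  obtain ⟨w, hw, hw0⟩ := (Submodule.ne_bot_iff _).1 (hU W inferInstance inferInstance)
  have h3 := LinearMap.congr_fun (ComodSub.isComodHom_subtype cC W hW) w
  simp only [LinearMap.comp_apply] at h3
  rw [show cW.coact w = w ⊗ₜ[k] (1 : C) from hw] at h3
  have h4 : comul (R := k) (w : C) = (w : C) ⊗ₜ[k] (1 : C) := by simp at h3; exact h3
  have h5 : (w : C) = algebraMap k C (counit (R := k) (w : C)) := by
    have h6 := congrArg (fun t => TensorProduct.lid k C ((counit (R := k) (A := C)).rTensor C t)) h4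
    simp only [Coalgebra.rTensor_counit_comul, LinearMap.rTensor_tmul, TensorProduct.lid_tmul, one_smul] at h6
    rw [Algebra.algebraMap_eq_smul_one]
    exact h6
  obtain ⟨w₀, hw₀, hw₁⟩ := (w.2.2 : (w : C) ∈ Fc)
  have hc0 : counit (R := k) (w : C) ≠ 0 := fun h0 => hw0 (Subtype.ext (by rw [h5, h0, map_zero]; rfl))
  rw [Ideal.eq_top_iff_one]
  have : w₀ = algebraMap k R (counit (R := k) (w : C)) := Subtype.ext (hw₁.trans h5)
  have h7 := F.mul_mem_left (algebraMap k R (counit (R := k) (w : C))⁻¹) hw₀
  rwa [this, ← map_mul, inv_mul_cancel₀ hc0, map_one] at h7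

include hU in
/-- **the group is faithfully flat over the coset ring** -/
theorem faithfullyFlat_ring : Module.FaithfullyFlat (ring (C := C) b v) C := by
  classical
  obtain ⟨δ, hδ⟩ := exists_coideal (C := C) b v
  haveI := GLinFree.flat_of_simple δ hδ fun F hF => simple hU δ hδ F hF
  let R := ring (C := C) b v
  haveI : Algebra.FiniteType k R := (Subalgebra.fg_iff_finiteType _).1
    ⟨Finset.univ.image fun i => gen (C := C) v (b.coord i), by simp [R, ring]⟩
  haveI : IsNoetherianRing R := Algebra.FiniteType.isNoetherianRing k R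
  haveI : Algebra.FiniteType R C := Algebra.FiniteType.of_restrictScalars_finiteType k R C
  haveI : Algebra.FinitePresentation R C := Algebra.FinitePresentation.of_finiteType.1 inferInstance
  haveI : _root_.IsReduced R := isReduced_of_injective R.val Subtype.val_injective
  haveI : Nontrivial C := (Bialgebra.counitAlgHom k C).toRingHom.domain_nontrivial
  have hopen : IsOpen (Set.range (PrimeSpectrum.comap (algebraMap R C))) :=
    (PrimeSpectrum.isOpenMap_comap_of_hasGoingDown_of_finitePresentation (R := R) (S := C)).isOpen_range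
  refine Module.FaithfullyFlat.of_comap_surjective fun q => ?_
  -- rational points are in the image
  have hpts : ∀ x : R →ₐ[k] k, ∃ h : C →ₐ[k] k, h.comp R.val = x := by
    intro x
    let Φ : R →ₐ[k] C :=
      (Algebra.TensorProduct.lift ((Algebra.ofId k C).comp x) (AlgHom.id k C) fun _ _ => Commute.all _ _).comp δ
    have hΦ : ∀ l, Φ (genR b v l) =
        ∑ j, algebraMap k C (x (genR b v (b.coord j))) * HopfAlgebra.antipodeAlgHom k C (cf l (b j)) := fun l => by
      show Algebra.TensorProduct.lift ((Algebra.ofId k C).comp x) (AlgHom.id k C) (fun _ _ => Commute.all _ _) (δ _) = _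
      rw [delta_gen hδ, map_sum]
      exact Finset.sum_congr rfl fun j _ => by simp [Algebra.ofId_apply]
    have hequiv : (Algebra.TensorProduct.map Φ (AlgHom.id k C)).comp δ = (Bialgebra.comulAlgHom k C).comp Φ := by
      refine algHom_ext' fun l => ?_
      show Algebra.TensorProduct.map Φ _ (δ _) = comul (R := k) (Φ _)
      rw [delta_gen hδ, hΦ, map_sum]
      simp only [Algebra.TensorProduct.map_tmul, AlgHom.coe_id, id_eq, hΦ, TensorProduct.sum_tmul, ← Algebra.smul_def,
        map_sum, map_smul, ← TensorProduct.smul_tmul']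
      rw [Finset.sum_comm]
      refine Finset.sum_congr rfl fun j _ => ?_
      rw [← Finset.smul_sum]
      congr 1
      exact (comul_gen b (b j) l).symm
    have hker : RingHom.ker Φ.toRingHom = ⊥ := by
      refine (simple hU δ hδ _ fun f hf => ?_).resolve_right (RingHom.ker_ne_top _)
      have hz : Φ.rangeRestrict.toLinearMap.rTensor C (δ f) = 0 := by
        have hinj : Function.Injective (Φ.range.val.toLinearMap.rTensor C) :=
          Module.Flat.rTensor_preserves_injective_linearMap _ Subtype.val_injective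
        refine hinj ?_
        rw [← LinearMap.rTensor_comp_apply, map_zero]
        refine Eq.trans (AlgHom.congr_fun hequiv f) ?_
        show comul (R := k) (Φ f) = 0
        rw [show Φ f = 0 from hf, map_zero]
      have hex : Function.Exact ((RingHom.ker Φ.toRingHom).restrictScalars k).subtype Φ.rangeRestrict.toLinearMap := by
        intro y
        refine ⟨fun h => ⟨⟨y, congrArg Subtype.val h⟩, rfl⟩, ?_⟩
        rintro ⟨z, rfl⟩
        exact Subtype.ext z.2
      obtain ⟨t, ht⟩ := ((rTensor_exact C hex Φ.rangeRestrict_surjective) (δ f)).1 hz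
      rw [← ht]
      clear ht
      induction t using TensorProduct.induction_on with
      | zero => rw [map_zero]; exact zero_mem _
      | add a a' ha ha' => rw [map_add]; exact add_mem ha ha'
      | tmul z c =>
        have : ((z : R) ⊗ₜ[k] c : R ⊗[k] C) = ((1 : R) ⊗ₜ[k] c) * lft R (z : R) := by
          simp
        rw [LinearMap.rTensor_tmul, Submodule.subtype_apply, this]
        exact Ideal.mul_mem_left _ _ (Ideal.subset_span ⟨z, z.2, rfl⟩)
    obtain ⟨r, hr0, hyU⟩ : ∃ r : R, r ≠ 0 ∧ (PrimeSpectrum.basicOpen r : Set (PrimeSpectrum R)) ⊆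
        Set.range (PrimeSpectrum.comap (algebraMap R C)) := by
      obtain ⟨p₀⟩ : Nonempty (PrimeSpectrum C) := inferInstance
      obtain ⟨_, ⟨r, rfl⟩, hpr, hr⟩ := PrimeSpectrum.isTopologicalBasis_basic_opens.exists_subset_of_mem_open
        (Set.mem_range_self p₀) hopen
      exact ⟨r, fun h => by subst h; simp at hpr, hr⟩
    have hΦr : ¬ IsNilpotent (Φ r) := fun h =>
      hr0 ((injective_iff_map_eq_zero Φ.toRingHom).1 ((RingHom.injective_iff_ker_eq_bot _).2 hker) r h.eq_zero)
    obtain ⟨g, hg⟩ := HopfPoint.exists_point_ne_zero (k := k) hΦr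
    let x' : R →ₐ[k] k := g.comp Φ
    obtain ⟨p, hp⟩ := hyU (show (⟨RingHom.ker x'.toRingHom, RingHom.ker_isPrime _⟩ : PrimeSpectrum R) ∈
      PrimeSpectrum.basicOpen r from hg)
    obtain ⟨M, hM, hpM⟩ := Ideal.exists_le_maximal p.asIdeal p.2.ne_top
    obtain ⟨h, hh⟩ := HopfRedSq.exists_point (k := k) M
    have hx' : x' = h.ofConv.comp R.val := by
      refine AlgHom.ext fun y => ?_
      have hmem : y - algebraMap k R (x' y) ∈ RingHom.ker x'.toRingHom := by simp
      have h1 : ((y - algebraMap k R (x' y) : R) : C) ∈ M := hpM (by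
        have := congrArg PrimeSpectrum.asIdeal hp
        exact this.ge hmem)
      rw [← hh, RingHom.mem_ker] at h1
      simp only [AddSubgroupClass.coe_sub, Subalgebra.coe_algebraMap, map_sub,
        AlgHom.commutes, Algebra.algebraMap_self, RingHom.id_apply] at h1
      exact (sub_eq_zero.1 h1).symm
    refine ⟨(h * (toConv g)⁻¹).ofConv, algHom_ext' fun l => ?_⟩
    show (h * (toConv g)⁻¹)⁻¹.ofConv (cf l v) = _
    rw [_root_.mul_inv_rev, inv_inv, mul_apply_cf b]
    have h' : ∀ i, h⁻¹.ofConv (cf (C := C) (b.coord i) v) =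
        ∑ j, x (genR b v (b.coord j)) * (toConv g)⁻¹.ofConv (cf (C := C) (b.coord i) (b j)) := fun i => by
      refine (AlgHom.congr_fun hx' (genR b v (b.coord i))).symm.trans ?_
      show g (Φ _) = _
      rw [hΦ, map_sum]
      exact Finset.sum_congr rfl fun j _ => by simp [inv_apply]
    simp only [h', Finset.mul_sum]
    rw [Finset.sum_comm]
    rw [Finset.sum_congr rfl fun j _ => (Finset.sum_congr rfl fun i _ => mul_left_comm _ _ _).trans
      (Finset.mul_sum _ _ _).symm]
    simp only [← mul_apply_cf b, mul_inv_cancel, one_apply_cf, Algebra.algebraMap_self, RingHom.id_apply]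
    have hl : (genR (C := C) b v l) = ∑ j, l (b j) • (genR (C := C) b v (b.coord j)) := by
      refine Subtype.ext ?_
      rw [AddSubmonoidClass.coe_finsetSum]
      simp only [genR, Subalgebra.coe_smul, gen, ← map_smul, ← map_sum]
      congr 1
      simp only [cf]
      generalize HopfRep.Comod.coact (k := k) (A := C) v = t
      induction t using TensorProduct.induction_on with
      | zero => simp
      | add x y hx hy => simp only [map_add, smul_add, Finset.sum_add_distrib, ← hx, ← hy]
      | tmul x c =>
        simp only [LinearMap.rTensor_tmul, TensorProduct.lid_tmul, smul_smul, ← Finset.sum_smul]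
        congr 1
        conv_lhs => rw [← b.sum_repr x]
        simp only [map_sum, map_smul, smul_eq_mul, Module.Basis.coord_apply]
        exact Finset.sum_congr rfl fun i _ => mul_comm _ _
    rw [hl, map_sum]
    exact Finset.sum_congr rfl fun j _ => by rw [map_smul, smul_eq_mul, mul_comm]
  -- all maximal ideals
  have hmax : ∀ m : Ideal R, m.IsMaximal → ∃ p : PrimeSpectrum C, (PrimeSpectrum.comap (algebraMap R C) p).asIdeal = m := by
    intro m hm
    letI := Ideal.Quotient.field m
    haveI : Algebra.FiniteType k (R ⧸ m) :=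
      Algebra.FiniteType.of_surjective (Ideal.Quotient.mkₐ k m) Ideal.Quotient.mk_surjective
    haveI : Module.Finite k (R ⧸ m) := finite_of_finite_type_of_isJacobsonRing k _
    let x : R →ₐ[k] k := (AlgEquiv.ofBijective (Algebra.ofId k (R ⧸ m))
      IsAlgClosed.algebraMap_bijective_of_isIntegral).symm.toAlgHom.comp (Ideal.Quotient.mkₐ k m)
    obtain ⟨h, hh⟩ := hpts x
    refine ⟨⟨RingHom.ker h.toRingHom, RingHom.ker_isPrime _⟩, ?_⟩
    ext y
    show h (y : C) = 0 ↔ _
    rw [show h (y : C) = x y from AlgHom.congr_fun hh y]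
    simp [x, Ideal.Quotient.eq_zero_iff_mem]
  obtain ⟨m, hm, hqm⟩ := Ideal.exists_le_maximal q.asIdeal q.2.ne_top
  obtain ⟨p, hp⟩ := hmax m hm
  haveI := p.isPrime
  haveI : p.asIdeal.LiesOver m := ⟨hp.symm⟩
  obtain ⟨p', _, hp', hp''⟩ := Ideal.exists_ideal_le_liesOver_of_le (R := R) (S := C) (p := q.asIdeal) (q := m) p.asIdeal hqm
  exact ⟨⟨p', hp'⟩, PrimeSpectrum.ext hp''.over.symm⟩

end Groth.Agent.WeilAff.Unip
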