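import Groth.Agent.GrpField.Range
import Groth.Agent.MTSplit.Basic
import Groth.Agent.SubGen.SpreadBase
import Groth.Agent.SubGen.SeriesField
import Groth.Agent.GrpField.QAAffine
import Groth.Agent.GrpField.SchImg
import Groth.Agent.Chev.AffImage
import Groth.Agent.NilAffine.Main
import Groth.Agent.SubGen.Spread
import Groth.Agent.GrpBasic.Perfect
import Groth.Agent.FpqcDescent.Affine
import Groth.Agent.S3026

/-!
A homomorphic image of an affine group is affine.
-/

set_option autoImplicit false
set_option backward.isDefEq.respectTransparency false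
set_option maxHeartbeats 1000000
set_option synthInstance.maxHeartbeats 200000
set_option linter.unusedSectionVars false
set_option linter.style.haveILetI false

universe u

open CategoryTheory CategoryTheory.Limits MonoidalCategory CartesianMonoidalCategory MonObj GrpObj AlgebraicGeometry

noncomputable section

namespace Groth.Agent.WeilAff

attribute [local instance] Functor.grpObjObj

variable {k : Type u} [Field k]

/-- the reduced subgroup of a group over a perfect field -/
theorem exists_redSubgroup [IsAlgClosed k] (G : Over (Spec (CommRingCat.of k))) [GrpObj G] [LocallyOfFiniteType G.hom] :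
    ∃ (F : Over (Spec (CommRingCat.of k))) (_ : GrpObj F) (i : F ⟶ G),
      IsMonHom i ∧ IsClosedImmersion i.left ∧ Surjective i.left ∧ IsReduced F.left := by
  let J := Scheme.IdealSheafData.vanishingIdeal (⟨Set.univ, isClosed_univ⟩ : TopologicalSpace.Closeds G.left)
  let F : Over (Spec (CommRingCat.of k)) := Over.mk (J.subschemeι ≫ G.hom)
  let i : F ⟶ G := Over.homMk J.subschemeι rfl
  haveI : IsReduced F.left := GrpField.isReduced_vanishingIdeal (H := G) _
  haveI : IsClosedImmersion i.left := inferInstanceAs (IsClosedImmersion J.subschemeι)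
  have hr : Set.range i.left = Set.univ := by
    show Set.range J.subschemeι = _
    rw [Scheme.IdealSheafData.range_subschemeι]
    rfl
  haveI : Surjective i.left := ⟨Set.range_eq_univ.1 hr⟩
  haveI : LocallyOfFiniteType F.hom := inferInstanceAs (LocallyOfFiniteType (J.subschemeι ≫ G.hom))
  haveI : GeometricallyReduced F.hom := Rigid.geometricallyReduced_of_perfect F.hom
  haveI : IsReduced (F ⊗ F).left := by
    haveI : GeometricallyReduced (F ⊗ F).hom := GeomRedPull.geometricallyReduced_pullback F.hom F.hom
    exact SubGen.isReduced_left (F ⊗ F)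
  haveI : Mono i := Over.mono_of_mono_left i
  obtain ⟨hF, hi⟩ := SubGen.Spread.exists_grpObj_of_div i
    (by
      haveI : IsReduced (𝟙_ (Over (Spec (CommRingCat.of k)))).left := inferInstanceAs (IsReduced (Spec (CommRingCat.of k)))
      exact SubGen.Spread.exists_lift_reduced η[G] i (by rw [hr]; exact Set.subset_univ _))
    (SubGen.Spread.exists_lift_reduced _ i (by rw [hr]; exact Set.subset_univ _))
  exact ⟨F, hF, i, hi, inferInstance, inferInstance, inferInstance⟩

/-- **A homomorphic image of an affine group is affine.** -/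
theorem isAffine_of_surjective_hom {G H : Over (Spec (CommRingCat.of k))} [GrpObj G] [GrpObj H] [IsAffine G.left]
    [LocallyOfFiniteType G.hom] [LocallyOfFiniteType H.hom] (p : G ⟶ H) [IsMonHom p] [Surjective p.left] :
    IsAffine H.left := by
  let L := AlgebraicClosure k
  let φ := Spec.map (CommRingCat.ofHom (algebraMap k L))
  let F := Over.pullback φ
  haveI : LocallyOfFiniteType (F.obj G).hom := inferInstanceAs (LocallyOfFiniteType (pullback.snd G.hom φ))
  haveI : LocallyOfFiniteType (F.obj H).hom := inferInstanceAs (LocallyOfFiniteType (pullback.snd H.hom φ))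
  haveI : IsAffineHom G.hom := isAffineHom_of_isAffine _
  haveI : IsAffineHom (F.obj G).hom := inferInstanceAs (IsAffineHom (pullback.snd G.hom φ))
  haveI : IsAffine (F.obj G).left := isAffine_of_isAffineHom (F.obj G).hom
  haveI : Surjective (F.map p).left := MorphismProperty.overPullbackMap (P := @Surjective) _ p ‹_›
  obtain ⟨G₀, _, iG, hiGm, hiGc, hiGs, hG₀⟩ := exists_redSubgroup (F.obj G)
  obtain ⟨H₀, _, iH, hiHm, hiHc, hiHs, hH₀⟩ := exists_redSubgroup (F.obj H)
  haveI := hiGm; haveI := hiGc; haveI := hiGs; haveI := hG₀; haveI := hiHm; haveI := hiHc; haveI := hiHs; haveI := hH₀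
  haveI : Mono iH := Over.mono_of_mono_left iH
  obtain ⟨p₀, hp₀⟩ := SubGen.Spread.exists_lift_reduced (iG ≫ F.map p) iH (by
    intro z _
    exact iH.left.surjective z)
  haveI : IsMonHom p₀ := MTSplit.isMonHom_of_comp_mono p₀ iH _ hp₀
  haveI : Surjective (p₀.left ≫ iH.left) := by
    rw [← Over.comp_left, hp₀, Over.comp_left]; infer_instance
  haveI : Surjective p₀.left := ⟨fun z => by
    obtain ⟨x, hx⟩ := (p₀.left ≫ iH.left).surjective (iH.left z)
    exact ⟨x, iH.left.isClosedEmbedding.injective hx⟩⟩
  haveI : LocallyOfFiniteType G₀.hom := by rw [← Over.w iG]; infer_instance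
  haveI : LocallyOfFiniteType H₀.hom := by rw [← Over.w iH]; infer_instance
  haveI : IsAffine G₀.left := isAffine_of_isAffineHom iG.left
  haveI : IsSeparated H₀.hom := GrpField.isSeparated_hom H₀
  haveI : IsAffine H₀.left := Chev.isAffine_of_surjective p₀
  haveI : IsAffine (F.obj H).left := NilAffine.isAffine_of_surjective iH.left
  haveI : IsAffineHom (F.obj H).hom := isAffineHom_of_isAffine _
  haveI : IsAffineHom H.hom := by
    refine MorphismProperty.of_pullback_snd_of_descendsAlong (P := @IsAffineHom)
      (Q := @Surjective ⊓ @Flat ⊓ @QuasiCompact) (f := H.hom) (g := φ) ?_ ‹IsAffineHom (F.obj H).hom›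
    exact ⟨⟨⟨fun x => ⟨IsLocalRing.closedPoint L, @Subsingleton.elim _ (inferInstanceAs (Subsingleton (PrimeSpectrum k))) _ _⟩⟩,
      inferInstance⟩, inferInstance⟩
  exact isAffine_of_isAffineHom H.hom

end Groth.Agent.WeilAff
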