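import Groth.Agent.WeilAff.UnipAlg
import Groth.Agent.WeilAff.RedAffine
import Groth.Agent.GrpAct.Stabilizer
import Groth.Agent.FinHopf.GrpScheme
import Groth.Agent.GModLib.OfComod
import Groth.Agent.MTBridge.Hom
import Groth.Agent.MTBridge.Centralizer
import Groth.Agent.AVEuler.Smooth
import Groth.Agent.S5423
import Mathlib.AlgebraicGeometry.Sites.Fpqc

/-!
Homogeneous spaces of unipotent groups are affine.
-/

set_option autoImplicit false
set_option backward.isDefEq.respectTransparency false
set_option maxHeartbeats 1000000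
set_option synthInstance.maxHeartbeats 200000
set_option linter.unusedSectionVars false
set_option linter.style.haveILetI false

universe u

open CategoryTheory CategoryTheory.Limits MonoidalCategory CartesianMonoidalCategory MonObj GrpObj AlgebraicGeometry
open WithConv TensorProduct

noncomputable section

namespace Groth.Agent.WeilAff

variable {k : Type u} [Field k]

theorem exists_desc_of_points {G Y Z : Over (Spec (CommRingCat.of k))} (c : G ⟶ Z) (p : G ⟶ Y) [EffectiveEpi c.left]
    (h : ∀ (B : Type u) [CommRing B] [Algebra k B] (g g' : VecGrp.pt k B ⟶ G), g ≫ c = g' ≫ c → g ≫ p = g' ≫ p) :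
    ∃ d : Z.left ⟶ Y.left, c.left ≫ d = p.left := by
  refine ⟨EffectiveEpi.desc c.left p.left fun {T} g₁ g₂ hg => ?_, EffectiveEpi.fac _ _ _⟩
  refine T.affineCover.hom_ext _ _ fun i => ?_
  rw [← cancel_epi (T.affineCover.X i).isoSpec.inv]
  let w := (T.affineCover.X i).isoSpec.inv ≫ T.affineCover.f i
  letI : Algebra k Γ(T.affineCover.X i, ⊤) := (Spec.preimage (w ≫ g₁ ≫ G.hom)).hom.toAlgebra
  have h₁ : w ≫ g₁ ≫ G.hom = Spec.map (CommRingCat.ofHom (algebraMap k Γ(T.affineCover.X i, ⊤))) :=
    (Spec.map_preimage (w ≫ g₁ ≫ G.hom)).symm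
  have h₂ : w ≫ g₂ ≫ G.hom = Spec.map (CommRingCat.ofHom (algebraMap k Γ(T.affineCover.X i, ⊤))) := by
    rw [← h₁, ← Over.w c, reassoc_of% hg]
  let g : VecGrp.pt k Γ(T.affineCover.X i, ⊤) ⟶ G := Over.homMk (w ≫ g₁) (by
    rw [Category.assoc]; exact h₁)
  let g' : VecGrp.pt k Γ(T.affineCover.X i, ⊤) ⟶ G := Over.homMk (w ≫ g₂) (by
    rw [Category.assoc]; exact h₂)
  have := congrArg CommaMorphism.left (h _ g g' (Over.OverMorphism.ext (by
    show (w ≫ g₁) ≫ c.left = (w ≫ g₂) ≫ c.left
    simp only [Category.assoc, hg])))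
  change (w ≫ g₁) ≫ p.left = (w ≫ g₂) ≫ p.left at this
  simpa only [w, Category.assoc] using this

theorem nonempty_iso_of_points {G Y Z : Over (Spec (CommRingCat.of k))} (c : G ⟶ Z) (p : G ⟶ Y)
    [EffectiveEpi c.left] [EffectiveEpi p.left]
    (h : ∀ (B : Type u) [CommRing B] [Algebra k B] (g g' : VecGrp.pt k B ⟶ G), g ≫ c = g' ≫ c ↔ g ≫ p = g' ≫ p) :
    Nonempty (Y.left ≅ Z.left) := by
  obtain ⟨d, hd⟩ := exists_desc_of_points c p fun B _ _ g g' => (h B g g').1
  obtain ⟨e, he⟩ := exists_desc_of_points p c fun B _ _ g g' => (h B g g').2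
  exact ⟨⟨e, d, by rw [← cancel_epi p.left, reassoc_of% he, hd, Category.comp_id],
    by rw [← cancel_epi c.left, reassoc_of% hd, he, Category.comp_id]⟩⟩

theorem unip_of_exponent [IsAlgClosed k] {C : Type u} [CommRing C] [HopfAlgebra k C] [Algebra.FiniteType k C]
    [_root_.IsReduced C] {p : ℕ} [ExpChar k p] (M : ℕ)
    (hpts : ∀ φ : WithConv (C →ₐ[k] k), φ ^ (p ^ M) = 1) : HopfRep.IsUnipotent k C := by
  refine (S5423.result k C).2 fun g V _ _ _ hV => ?_
  rcases subsingleton_or_nontrivial V with _ | _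
  · exact ⟨1, LinearMap.ext fun _ => Subsingleton.elim _ _⟩
  haveI : Nontrivial (Module.End k V) := inferInstance
  haveI : ExpChar (Module.End k V) p := expChar_of_injective_algebraMap (algebraMap k (Module.End k V)).injective p
  refine ⟨p ^ M, ?_⟩
  have h : HopfRep.Comod.act k C V g = RedLR.ptAct V (toConv g) := rfl
  rw [h]
  show (RedLR.ptAct V (toConv g) - 1) ^ (p ^ M) = 0
  rw [sub_pow_expChar_pow_of_commute p M (Commute.one_right _), one_pow, ← map_pow, hpts, map_one, sub_self]

variable [IsAlgClosed k]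

theorem character_pow_eq_one {C D : Type u} [CommRing C] [HopfAlgebra k C] [Algebra.FiniteType k C]
    [_root_.IsReduced C] [CommRing D] [HopfAlgebra k D] (π : C →ₐc[k] D) (hπ : Function.Surjective π)
    {p : ℕ} [ExpChar k p] (M : ℕ) (hpts : ∀ φ : WithConv (C →ₐ[k] k), φ ^ (p ^ M) = 1)
    (χ : D) (hχ : IsGroupLikeElem k χ) : ∃ N : ℕ, χ ^ (p ^ N) = 1 := by
  haveI : Algebra.FiniteType k D := Algebra.FiniteType.of_surjective (π : C →ₐ[k] D) hπ
  haveI : Nontrivial D := (Bialgebra.counitAlgHom k D).toRingHom.domain_nontrivial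
  rcases ‹ExpChar k p› with _ | ⟨hprime⟩
  · refine ⟨0, ?_⟩
    have hC : ∀ c : C, c = algebraMap k C (Coalgebra.counit (R := k) c) := fun c => GModLib.ext_pt fun x => by
      have hx : x = 1 := by simpa using hpts x
      rw [AlgHom.commutes, hx]
      rfl
    obtain ⟨c, rfl⟩ := hπ χ
    rw [pow_zero, pow_one, hC c]
    have h1 : Coalgebra.counit (R := k) c = 1 := by
      rw [← CoalgHomClass.counit_comp_apply π c]
      exact hχ.counit_eq_one
    rw [h1, map_one, map_one]
  haveI : ExpChar D p := expChar_of_injective_algebraMap (algebraMap k D).injective p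
  have hnil : IsNilpotent (χ - 1) := by
    by_contra hne
    obtain ⟨x, hx⟩ := HopfPoint.exists_point_ne_zero (k := k) hne
    apply hx
    have hpow : (toConv x) ^ (p ^ M) = 1 := by
      have h0 := hpts (toConv (x.comp (π : C →ₐ[k] D)))
      let f : WithConv (D →ₐ[k] k) →* WithConv (C →ₐ[k] k) :=
        { toFun := fun y => toConv (y.ofConv.comp (π : C →ₐ[k] D))
          map_one' := WithConv.ext (AlgHom.ext fun c => by
            show algebraMap k k (Coalgebra.counit (R := k) (π c)) = _
            rw [CoalgHomClass.counit_comp_apply π c]; rfl)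
          map_mul' := fun y y' => WithConv.ext (AlgHom.ext fun c => by
            show (y * y') (π c) = (toConv (y.ofConv.comp (π : C →ₐ[k] D)) * toConv (y'.ofConv.comp (π : C →ₐ[k] D))) c
            rw [AlgHom.convMul_apply, AlgHom.convMul_apply, ← CoalgHomClass.map_comp_comul_apply π c]
            generalize CoalgebraStruct.comul (R := k) c = t
            induction t using TensorProduct.induction_on with
            | zero => simp
            | tmul a b => simp
            | add a b ha hb => simp only [map_add, ha, hb]) }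
      refine WithConv.ext (AlgHom.ext fun d => ?_)
      obtain ⟨c, rfl⟩ := hπ d
      have h1 : f ((toConv x) ^ (p ^ M)) = f 1 := by rw [map_pow, map_one]; exact h0
      exact AlgHom.congr_fun (congrArg WithConv.ofConv h1) c
    have hch : ∀ n : ℕ, ((toConv x) ^ n).ofConv χ = x χ ^ n := by
      intro n
      induction n with
      | zero =>
        rw [pow_zero, pow_zero]
        show algebraMap k k (Coalgebra.counit (R := k) χ) = 1
        rw [hχ.counit_eq_one, map_one]
      | succ n ih =>
        rw [pow_succ, pow_succ]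
        show (toConv x ^ n * toConv x) χ = _
        rw [AlgHom.convMul_apply, hχ.comul_eq_tmul_self]
        simp [ih]
    have h2 : x χ ^ (p ^ M) = 1 := by
      rw [← hch, hpow]
      show algebraMap k k (Coalgebra.counit (R := k) χ) = 1
      rw [hχ.counit_eq_one, map_one]
    have h3 : (x χ - 1) ^ (p ^ M) = 0 := by rw [sub_pow_expChar_pow, one_pow, h2, sub_self]
    rw [map_sub, map_one]
    exact eq_zero_of_pow_eq_zero h3
  obtain ⟨N, hN⟩ := hnil
  refine ⟨N, ?_⟩
  have h4 : (χ - 1) ^ (p ^ N) = 0 := pow_eq_zero_of_le (Nat.lt_pow_self hprime.one_lt).le hN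
  rwa [sub_pow_expChar_pow, one_pow, sub_eq_zero] at h4

/-- **Homogeneous spaces of unipotent groups are affine.** -/
theorem isAffine_orbit {G Y : Over (Spec (CommRingCat.of k))} [GrpObj G] [IsAffine G.left]
    [LocallyOfFiniteType G.hom] [IsReduced G.left] [IsReduced Y.left] [LocallyOfFiniteType Y.hom]
    (a : AlgGrp.Action G Y) (o : 𝟙_ (Over (Spec (CommRingCat.of k))) ⟶ Y) [Surjective (a.orbitMap o).left]
    {p : ℕ} [ExpChar k p] (M : ℕ) (hpts : ∀ g : VecGrp.pt k k ⟶ G, g ^ (p ^ M) = 1) :
    IsAffine Y.left := by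
  classical
  haveI : Subsingleton ↥(Spec (CommRingCat.of k)) := inferInstanceAs (Subsingleton (PrimeSpectrum k))
  haveI : IsAffineHom G.hom := isAffineHom_of_isAffine _
  haveI : GeometricallyReduced G.hom := Rigid.geometricallyReduced_of_perfect G.hom
  haveI : Smooth G.hom := AVEuler.smooth_of_geometricallyReduced G
  haveI : IsLocallyNoetherian Y.left := LocallyOfFiniteType.isLocallyNoetherian Y.hom
  haveI : IsImmersion (𝟙 Y : Y ⟶ Y).left := inferInstanceAs (IsImmersion (𝟙 Y.left))
  obtain ⟨φ, hφ, hφf, hφs, -, hφq⟩ := GrpAct.exists_flat_orbitMap a o (𝟙 Y) (by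
    rw [GrpAct.orbit]
    exact (Set.range_eq_univ.2 (fun y => ⟨y, rfl⟩)).trans (a.orbitMap o).left.surjective.range_eq.symm)
  rw [Category.comp_id] at hφ
  subst hφ
  haveI := hφf; haveI := hφs; haveI := hφq
  -- the isotropy group
  haveI : IsClosedImmersion o.left := isClosedImmersion_of_comp_eq_id Y.hom o.left (Over.w o)
  let S := pullback (a.orbitMap o) o
  let iS : S ⟶ G := pullback.fst (a.orbitMap o) o
  have hS : IsPullback iS (toUnit S) (a.orbitMap o) o := by
    have h := IsPullback.of_hasPullback (a.orbitMap o) o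
    rwa [toUnit_unique (toUnit S) (pullback.snd (a.orbitMap o) o)]
  haveI : IsClosedImmersion iS.left :=
    MorphismProperty.of_isPullback (P := @IsClosedImmersion) (hS.map (Over.forget _)).flip ‹_›
  haveI : Mono iS := Over.mono_of_mono_left iS
  have hmem : ∀ {T : Over (Spec (CommRingCat.of k))} (g : T ⟶ G),
      (∃ s : T ⟶ S, s ≫ iS = g) ↔ lift g (toUnit T ≫ o) ≫ a.act = toUnit T ≫ o := fun {T} g => by
    rw [← GrpAct.comp_orbitMap]
    constructor
    · rintro ⟨s, rfl⟩
      rw [Category.assoc, hS.w, comp_toUnit_assoc]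
    · exact fun h => ⟨hS.lift g (toUnit T) h, hS.lift_fst _ _ _⟩
  obtain ⟨hSg, hSm⟩ := MTBridge.exists_grpObj_of_div iS
    ((hmem _).2 (by rw [show (η[G] : 𝟙_ _ ⟶ G) = 1 by rw [Hom.one_def, toUnit_unique (toUnit _) (𝟙 _), Category.id_comp],
      GrpAct.one_smul']))
    (fun T k₁ k₂ => (hmem _).2 (by
      have h1 := (hmem (k₁ ≫ iS)).1 ⟨k₁, rfl⟩
      have h2 := (hmem (k₂ ≫ iS)).1 ⟨k₂, rfl⟩
      rw [GrpAct.mul_smul, h2]
      conv_lhs => rw [← h1]
      rw [← GrpAct.mul_smul, inv_mul_cancel, GrpAct.one_smul']))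
  haveI := hSm
  haveI : IsAffine S.left := isAffine_of_isAffineHom iS.left
  -- Hopf algebras
  obtain ⟨C, _, e, he⟩ := FinHopf.exists_hopf (R := CommRingCat.of k) G
  obtain ⟨D, _, e', he'⟩ := FinHopf.exists_hopf (R := CommRingCat.of k) S
  haveI := he; haveI := he'
  haveI : IsIso e.hom.left := inferInstanceAs (IsIso ((Over.forget _).map e.hom))
  haveI : IsIso e.inv.left := inferInstanceAs (IsIso ((Over.forget _).map e.inv))
  haveI : Algebra.FiniteType k C := by
    have h0 : LocallyOfFiniteType (e.hom.left ≫ G.hom) := inferInstance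
    rw [Over.w e.hom] at h0
    exact RingHom.finiteType_algebraMap.1 ((HasRingHomProperty.Spec_iff (P := @LocallyOfFiniteType)).1 h0)
  haveI : _root_.IsReduced C := by
    haveI : IsReduced (Spec C) := isReduced_of_isOpenImmersion e.hom.left
    exact affine_isReduced_iff C |>.1 inferInstance
  let w : (MTBridge.specGrp k D).X ⟶ (MTBridge.specGrp k C).X := e'.hom ≫ iS ≫ e.inv
  haveI : IsMonHom w := by dsimp [w]; infer_instance
  obtain ⟨π, hπ⟩ := MTBridge.exists_bialgHom w
  have hsurj : Function.Surjective (π : C →ₐ[k] D) := by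
    haveI : IsIso e'.hom.left := inferInstanceAs (IsIso ((Over.forget _).map e'.hom))
    haveI : IsClosedImmersion (Spec.map (CommRingCat.ofHom (π : C →ₐ[k] D).toRingHom)) := by
      have h1 : IsClosedImmersion (e'.hom.left ≫ iS.left ≫ e.inv.left) := inferInstance
      have h2 : w.left = e'.hom.left ≫ iS.left ≫ e.inv.left := rfl
      rw [← h2, hπ] at h1
      exact h1
    intro d
    obtain ⟨y, hy⟩ := (IsClosedImmersion.isAffine_surjective_of_isAffine
      (f := Spec.map (CommRingCat.ofHom (π : C →ₐ[k] D).toRingHom))).2 ((Scheme.ΓSpecIso (CommRingCat.of D)).inv d)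
    refine ⟨(Scheme.ΓSpecIso (CommRingCat.of C)).hom y, ?_⟩
    have h3 := congr($(Scheme.ΓSpecIso_naturality (CommRingCat.ofHom (π : C →ₐ[k] D).toRingHom)) y)
    simp only [CommRingCat.comp_apply] at h3
    exact h3.symm.trans ((congrArg _ hy).trans (congr($((Scheme.ΓSpecIso (CommRingCat.of D)).inv_hom_id) d)))
  have hcomp : ∀ (B : Type u) [CommRing B] [Algebra k B] (ψ : D →ₐ[k] B),
      GModLib.pnt e' ψ ≫ iS = GModLib.pnt e (ψ.comp (π : C →ₐ[k] D)) := by
    intro B _ _ ψ
    refine Over.OverMorphism.ext ?_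
    show (Spec.map (CommRingCat.ofHom ψ.toRingHom) ≫ e'.hom.left) ≫ iS.left =
      Spec.map (CommRingCat.ofHom (ψ.comp (π : C →ₐ[k] D)).toRingHom) ≫ e.hom.left
    have h2 : e'.hom.left ≫ iS.left = w.left ≫ e.hom.left := by
      rw [← Over.comp_left, ← Over.comp_left]
      simp [w]
    rw [Category.assoc, h2, hπ, ← Spec.map_comp_assoc]
    rfl
  -- unipotence
  have hpts' : ∀ φ : WithConv (C →ₐ[k] k), φ ^ (p ^ M) = 1 := fun φ => by
    refine (GModLib.pntEquiv e).injective ?_
    rw [map_pow, map_one]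
    exact hpts _
  have hU : HopfRep.IsUnipotent k C := unip_of_exponent M hpts'
  -- the vector
  obtain ⟨V, _, _, _, _, v, -, hrep, hfix⟩ := Comod.LineStab.exists_line_trivial (k := k) π
    (fun χ hgl _ => by
      obtain ⟨N, hN⟩ := character_pow_eq_one π hsurj M hpts' χ hgl
      refine ⟨p ^ N, pow_pos (expChar_pos k p) N, 1, IsGroupLikeElem.one, by rw [hN, _root_.mul_one],
        k, inferInstance, inferInstance, HopfRep.Comod.trivial k C k, inferInstance, 1, one_ne_zero, ?_⟩
      show LinearMap.lTensor k π.toLinearMap ((1 : k) ⊗ₜ[k] (1 : C)) = _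
      rw [LinearMap.lTensor_tmul]
      congr 1
      exact map_one π)
  let b := Module.finBasis k V
  let R := Unip.ring (C := C) b v
  haveI : Module.FaithfullyFlat R C := Unip.faithfullyFlat_ring b v hU
  -- the map to the coset ring
  let c : G ⟶ VecGrp.pt k R := e.inv ≫ VecGrp.ptMap R.val
  haveI : Flat (Spec.map (CommRingCat.ofHom R.val.toRingHom)) :=
    Flat.SpecMap_iff.2 ((RingHom.flat_algebraMap_iff (R := R) (S := C)).2 inferInstance)
  haveI : Surjective (Spec.map (CommRingCat.ofHom R.val.toRingHom)) :=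
    ⟨PrimeSpectrum.comap_surjective_of_faithfullyFlat (A := R) (B := C)⟩
  haveI : Flat c.left := inferInstanceAs (Flat (e.inv.left ≫ Spec.map (CommRingCat.ofHom R.val.toRingHom)))
  haveI : Surjective c.left := inferInstanceAs (Surjective (e.inv.left ≫ Spec.map (CommRingCat.ofHom R.val.toRingHom)))
  haveI : QuasiCompact c.left := inferInstanceAs (QuasiCompact (e.inv.left ≫ Spec.map (CommRingCat.ofHom R.val.toRingHom)))
  let q : G ⟶ Y := (𝟙 G)⁻¹ ≫ a.orbitMap o
  haveI : IsIso ((𝟙 G : G ⟶ G)⁻¹).left := by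
    haveI : IsIso ((𝟙 G : G ⟶ G)⁻¹) := ⟨(𝟙 G)⁻¹, by rw [GrpObj.comp_inv, Category.comp_id, _root_.inv_inv],
      by rw [GrpObj.comp_inv, Category.comp_id, _root_.inv_inv]⟩
    exact inferInstanceAs (IsIso ((Over.forget _).map ((𝟙 G : G ⟶ G)⁻¹)))
  haveI : Flat q.left := by rw [Over.comp_left]; infer_instance
  haveI : Surjective q.left := by rw [Over.comp_left]; infer_instance
  haveI : QuasiCompact q.left := by rw [Over.comp_left]; infer_instance
  obtain ⟨iso⟩ := nonempty_iso_of_points c q (fun B _ _ g g' => by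
    obtain ⟨φ, rfl⟩ := GModLib.exists_eq_pnt e g
    obtain ⟨φ', rfl⟩ := GModLib.exists_eq_pnt e g'
    have hc : ∀ φ : C →ₐ[k] B, GModLib.pnt e φ ≫ c = VecGrp.ptMap (φ.comp R.val) := fun φ => by
      refine Over.OverMorphism.ext ?_
      show (Spec.map (CommRingCat.ofHom φ.toRingHom) ≫ e.hom.left) ≫ e.inv.left ≫
        Spec.map (CommRingCat.ofHom R.val.toRingHom) = Spec.map (CommRingCat.ofHom (φ.comp R.val).toRingHom)
      rw [Category.assoc, ← Category.assoc e.hom.left, ← Over.comp_left, e.hom_inv_id, Over.id_left, Category.id_comp,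
        ← Spec.map_comp]
      rfl
    have hcc : (GModLib.pnt e φ ≫ c = GModLib.pnt e φ' ≫ c) ↔ φ.comp R.val = φ'.comp R.val := by
      rw [hc, hc]
      refine ⟨fun h => ?_, fun h => by rw [h]⟩
      have := Spec.map_injective (congrArg CommaMorphism.left h)
      exact AlgHom.coe_ringHom_injective (congrArg CommRingCat.Hom.hom this)
    have hq : ∀ g : VecGrp.pt k B ⟶ G, g ≫ q = lift g⁻¹ (toUnit _ ≫ o) ≫ a.act := fun g => by
      rw [← GrpAct.comp_orbitMap, ← Category.assoc, GrpObj.comp_inv, Category.comp_id]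
    let g₀ := GModLib.pnt e φ
    let g₁ := GModLib.pnt e φ'
    have hqq : g₀ ≫ q = g₁ ≫ q ↔ lift (g₁ * g₀⁻¹) (toUnit _ ≫ o) ≫ a.act = toUnit _ ≫ o := by
      rw [hq, hq, GrpAct.mul_smul]
      refine ⟨fun h => ?_, fun h => ?_⟩
      · rw [h, ← GrpAct.mul_smul, mul_inv_cancel, GrpAct.one_smul']
      · conv_rhs => rw [← h]
        rw [← GrpAct.mul_smul, inv_mul_cancel, GrpAct.one_smul']
    rw [hcc, hqq, ← hmem]
    have hmul : g₁ * g₀⁻¹ = GModLib.pnt e (toConv φ' * (toConv φ)⁻¹).ofConv := by
      show GModLib.pntEquiv e (toConv φ') * (GModLib.pntEquiv e (toConv φ))⁻¹ =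
        GModLib.pntEquiv e (toConv φ' * (toConv φ)⁻¹)
      rw [map_mul, map_inv]
    rw [hmul, Unip.agree_iff b v (toConv φ) (toConv φ')]
    generalize hθ : (toConv φ' * (toConv φ)⁻¹).ofConv = θ
    constructor
    · intro hl
      have hker : ∀ x ∈ RingHom.ker (π : C →+* D), θ x = 0 := (hrep B θ).2 ⟨1, by
        rw [Unip.coact_eq_sum (C := C) b v, map_sum]
        conv_rhs => rw [← b.sum_repr v, TensorProduct.sum_tmul]
        refine Finset.sum_congr rfl fun j _ => ?_
        rw [LinearMap.lTensor_tmul, AlgHom.toLinearMap_apply, hl, Algebra.algebraMap_eq_smul_one,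
          TensorProduct.tmul_smul, TensorProduct.smul_tmul']
        rfl⟩
      let L := Ideal.Quotient.liftₐ (RingHom.ker (π : C →ₐ[k] D)) θ fun a ha => hker a ha
      let e2 := Ideal.quotientKerAlgEquivOfSurjective hsurj
      refine ⟨GModLib.pnt e' (L.comp e2.symm.toAlgHom), ?_⟩
      rw [hcomp]
      congr 1
      refine AlgHom.ext fun x => ?_
      show L (e2.symm ((π : C →ₐ[k] D) x)) = θ x
      rw [show (π : C →ₐ[k] D) x = e2 (Ideal.Quotient.mk _ x) from rfl, AlgEquiv.symm_apply_apply]
      rfl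
    · rintro ⟨s, hs⟩ l
      obtain ⟨ψ, rfl⟩ := GModLib.exists_eq_pnt e' s
      rw [hcomp] at hs
      obtain rfl := GModLib.pnt_injective e hs
      show ψ (π (GModLib.cf l v)) = algebraMap k B (l v)
      have h1 : π (GModLib.cf (C := C) l v) = algebraMap k D (l v) := by
        have h2 := congrArg (fun t => TensorProduct.lid k D (l.rTensor D t)) hfix
        simp only [LinearMap.rTensor_tmul, TensorProduct.lid_tmul] at h2
        rw [Algebra.algebraMap_eq_smul_one, ← h2, GModLib.cf]
        generalize HopfRep.Comod.coact (k := k) (A := C) v = t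
        induction t using TensorProduct.induction_on with
        | zero => simp
        | tmul x y =>
          simp only [LinearMap.rTensor_tmul, LinearMap.lTensor_tmul, TensorProduct.lid_tmul]
          exact map_smul π _ _
        | add x y hx hy => simp only [map_add, hx, hy]
      rw [h1, AlgHom.commutes])
  haveI : IsAffine (VecGrp.pt k R).left := inferInstanceAs (IsAffine (Spec (CommRingCat.of R)))
  exact IsAffine.of_isIso iso.hom

end Groth.Agent.WeilAff
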