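import Groth.Agent.WeilAff.KerLft
import Groth.Agent.WeilAff.RedAffine
import Groth.Agent.AdjRep.KerObj
import Groth.Agent.FppfSource.Scheme
import Groth.Prelude.Def_RedSub
import Mathlib.AlgebraicGeometry.AlgClosed.Basic

/-!
The quotient of a purely inseparable Weil restriction by the image of the comparison map.
-/

set_option autoImplicit false
set_option backward.isDefEq.respectTransparency false
set_option maxHeartbeats 1000000
set_option synthInstance.maxHeartbeats 200000
set_option linter.unusedSectionVars false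
set_option linter.style.haveILetI false

universe u

open CategoryTheory CategoryTheory.Limits MonoidalCategory CartesianMonoidalCategory MonObj GrpObj AlgebraicGeometry TensorProduct

noncomputable section

namespace Groth.Agent.WeilAff

attribute [local instance] Functor.grpObjObj

/-- geometric points lift along surjections -/
theorem exists_point_lift {S : Scheme.{u}} {X Y : Over S} (f : X ⟶ Y) [Surjective f.left]
    [LocallyOfFiniteType f.left] {L : Type u} [Field L] [IsAlgClosed L] {φ : Spec (CommRingCat.of L) ⟶ S}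
    (z : Over.mk φ ⟶ Y) : ∃ y : Over.mk φ ⟶ X, y ≫ f = z := by
  let P := pullback f.left z.left
  let pr : P ⟶ Spec (CommRingCat.of L) := pullback.snd f.left z.left
  haveI : Surjective pr := inferInstanceAs (Surjective (pullback.snd f.left z.left))
  haveI : LocallyOfFiniteType pr := inferInstanceAs (LocallyOfFiniteType (pullback.snd f.left z.left))
  haveI : Nonempty P := ⟨(pr.surjective (IsLocalRing.closedPoint L)).choose⟩
  haveI : JacobsonSpace P := LocallyOfFiniteType.jacobsonSpace pr
  obtain ⟨x, hx⟩ : (closedPoints P).Nonempty := by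
    rw [Set.nonempty_iff_ne_empty]
    intro h
    have h2 := closure_closedPoints (X := P)
    rw [h, closure_empty] at h2
    exact Set.empty_ne_univ h2
  let p := pointOfClosedPoint pr x hx
  have hp : p ≫ pr = 𝟙 _ := pointOfClosedPoint_comp pr x hx
  have h1 : (p ≫ pullback.fst f.left z.left) ≫ f.left = z.left := by
    rw [Category.assoc, pullback.condition, ← Category.assoc]
    exact (congrArg (· ≫ z.left) hp).trans (Category.id_comp _)
  refine ⟨Over.homMk (p ≫ pullback.fst f.left z.left) ?_, Over.OverMorphism.ext h1⟩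
  rw [← Over.w f, ← Category.assoc, h1, Over.w]

variable {k k' : Type u} [Field k] [Field k'] [Algebra k k'] [Module.Finite k k'] [IsPurelyInseparable k k']

/-- a purely inseparable Weil restriction of a scheme locally of finite type is locally of finite type -/
theorem locallyOfFiniteType_res {G' : Over (Spec (CommRingCat.of k'))} [LocallyOfFiniteType G'.hom]
    {R : Over (Spec (CommRingCat.of k))} (q : (bc k k').obj R ⟶ G')
    (hR : WeilRes.IsWeilRes (Spec.map (CommRingCat.ofHom (algebraMap k k'))) G' R q) :
    LocallyOfFiniteType R.hom := by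
  have hz : ∀ z : R.left, ∃ U : R.left.Opens, z ∈ U ∧ LocallyOfFiniteType (U.ι ≫ R.hom) := by
    intro z
    obtain ⟨z', hz'⟩ := (isClosedMap_bijective_fst (k' := k') R).2.2 z
    obtain ⟨U, hU, hmem, -⟩ := exists_isAffineOpen_mem_and_subset (U := (⊤ : G'.left.Opens)) (x := q.left z') trivial
    let X' : Over (Spec (CommRingCat.of k')) := Over.mk (U.ι ≫ G'.hom)
    let c : X' ⟶ G' := Over.homMk U.ι rfl
    haveI : IsOpenImmersion c.left := inferInstanceAs (IsOpenImmersion U.ι)
    haveI : IsAffine X'.left := hU
    haveI : LocallyOfFiniteType X'.hom := inferInstanceAs (LocallyOfFiniteType (U.ι ≫ G'.hom))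
    obtain ⟨RU, j, eU, hj, heU, -, hlift⟩ := exists_openRes q hR c
    haveI := hj
    obtain ⟨D, _, _, _, _, _, ⟨iX⟩, -, -⟩ := exists_iso_SpA (B := k) X'
    obtain ⟨W, _, _, F, hW⟩ := exists_wres (R := k) (A := k') D
    obtain ⟨i, -⟩ := exists_rep hW iX eU heU
    haveI : LocallyOfFiniteType RU.hom := by
      rw [← Over.w i.hom]
      haveI : LocallyOfFiniteType (SpR k W).hom :=
        (HasRingHomProperty.Spec_iff (P := @LocallyOfFiniteType)).2 (RingHom.finiteType_algebraMap.2 hW.finiteType)
      haveI : IsIso i.hom.left := inferInstanceAs (IsIso ((Over.forget _).map i.hom))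
      infer_instance
    refine ⟨j.left.opensRange, ?_, ?_⟩
    · let Zb : Over (Spec (CommRingCat.of k')) :=
        Over.mk (((bc k k').obj R).left.fromSpecResidueField z' ≫ ((bc k k').obj R).hom)
      let zb : Zb ⟶ (bc k k').obj R := Over.homMk (((bc k k').obj R).left.fromSpecResidueField z') rfl
      have hzb : ∀ w, zb.left w = z' := fun w => by
        show ((bc k k').obj R).left.fromSpecResidueField z' w = z'
        exact Scheme.fromSpecResidueField_apply _ _
      obtain ⟨l, hl⟩ := hlift Zb zb (by
        rintro _ ⟨w, rfl⟩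
        rw [Over.comp_left, Scheme.Hom.comp_apply, hzb]
        exact ⟨⟨q.left z', hmem⟩, rfl⟩)
      let w₀ : Zb.left := IsLocalRing.closedPoint (((bc k k').obj R).left.residueField z')
      refine ⟨pullback.fst RU.hom (Spec.map (CommRingCat.ofHom (algebraMap k k'))) (l.left w₀), ?_⟩
      have h1 : ((bc k k').map j).left ≫ pullback.fst R.hom (Spec.map (CommRingCat.ofHom (algebraMap k k'))) =
          pullback.fst RU.hom (Spec.map (CommRingCat.ofHom (algebraMap k k'))) ≫ j.left := pullback.lift_fst _ _ _
      have h2 : ((bc k k').map j).left (l.left w₀) = z' := by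
        show (l ≫ (bc k k').map j).left w₀ = z'
        rw [hl, hzb]
      show (pullback.fst RU.hom _ ≫ j.left) (l.left w₀) = z
      rw [← h1, Scheme.Hom.comp_apply]
      exact (congrArg _ h2).trans hz'
    · rw [show j.left.opensRange.ι = j.left.isoOpensRange.inv ≫ j.left by
        rw [Iso.eq_inv_comp, Scheme.Hom.isoOpensRange_hom_ι], Category.assoc, Over.w j]
      infer_instance
  choose U hU hUf using hz
  exact IsZariskiLocalAtSource.of_iSup_eq_top U (TopologicalSpace.Opens.ext (Set.eq_univ_of_forall fun z =>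
    TopologicalSpace.Opens.mem_iSup.2 ⟨z, hU z⟩)) hUf

variable {G : Over (Spec (CommRingCat.of k))} [GrpObj G] [LocallyOfFiniteType G.hom]
  {Gbar : Over (Spec (CommRingCat.of k'))} [GrpObj Gbar] [LocallyOfFiniteType Gbar.hom]
  (q : (bc k k').obj G ⟶ Gbar) [Surjective q.left]
  {R : Over (Spec (CommRingCat.of k))} [GrpObj R] (qR : (bc k k').obj R ⟶ Gbar) [IsMonHom qR]
  (hR : WeilRes.IsWeilRes (Spec.map (CommRingCat.ofHom (algebraMap k k'))) Gbar R qR)
  {H : Over (Spec (CommRingCat.of k))} [GrpObj H] {j : H ⟶ R} (p : G ⟶ H) (hfac : p ≫ j = hR.lift G q)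
  {Q : Over (Spec (CommRingCat.of k))} [GrpObj Q] (π : R ⟶ Q) [IsMonHom π] (hjπ : j ≫ π = 1)

include hfac hjπ in
/-- points of the quotient come from the kernel -/
theorem exists_kernel_lift [Surjective π.left] [LocallyOfFiniteType π.left] {L : Type u} [Field L] [IsAlgClosed L]
    [Algebra k L] [Algebra k' L] [IsScalarTower k k' L] (z : SpR k L ⟶ Q) :
    ∃ y : SpR k L ⟶ R, y ≫ π = z ∧ (graph L ≫ (bc k k').map y) ≫ qR = 1 := by
  obtain ⟨y, hy⟩ := exists_point_lift π (φ := Spec.map (CommRingCat.ofHom (algebraMap k L))) z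
  haveI : LocallyOfFiniteType ((bc k k').obj G).hom := inferInstanceAs (LocallyOfFiniteType (pullback.snd G.hom _))
  haveI : LocallyOfFiniteType q.left := by
    haveI : LocallyOfFiniteType (q.left ≫ Gbar.hom) := by rw [Over.w]; infer_instance
    exact locallyOfFiniteType_of_comp q.left Gbar.hom
  obtain ⟨g', hg'⟩ := exists_point_lift q (φ := Spec.map (CommRingCat.ofHom (algebraMap k' L)))
    ((graph L ≫ (bc k k').map y) ≫ qR)
  obtain ⟨g, hg⟩ := exists_eq_graph g'
  have hi : (bc k k').map (hR.lift G q) ≫ qR = q :=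
    WeilRes.IsWeilRes.restr_lift hR G q
  let h : SpR k L ⟶ R := g ≫ p ≫ j
  have hh : (graph L ≫ (bc k k').map h) ≫ qR = (graph L ≫ (bc k k').map y) ≫ qR := by
    rw [← hg', hg]
    simp only [h, hfac, Functor.map_comp, Category.assoc, hi]
  refine ⟨y * h⁻¹, ?_, ?_⟩
  · have hπ : h ≫ π = 1 := by rw [show h ≫ π = g ≫ p ≫ (j ≫ π) by simp only [h, Category.assoc], hjπ, MonObj.comp_one, MonObj.comp_one]
    rw [MonObj.mul_comp, GrpObj.inv_comp, hπ, inv_one, _root_.mul_one, hy]
  · rw [Functor.map_mul, Functor.map_inv', MonObj.comp_mul, GrpObj.comp_inv, MonObj.mul_comp, GrpObj.inv_comp, hh,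
      mul_inv_cancel]

theorem graph_map_injective {L : Type u} [CommRing L] [Algebra k L] [Algebra k' L] [IsScalarTower k k' L]
    {Y : Over (Spec (CommRingCat.of k))} {a b : SpR k L ⟶ Y}
    (h : graph L ≫ (bc k k').map a = graph L ≫ (bc k k').map b) : a = b := by
  have key : ∀ a : SpR k L ⟶ Y, (graph (k := k) (k' := k') L ≫ (bc k k').map a).left ≫
      pullback.fst Y.hom (Spec.map (CommRingCat.ofHom (algebraMap k k'))) = a.left := fun a => by
    rw [Over.comp_left, Category.assoc]
    erw [pullback.lift_fst]
    erw [pullback.lift_fst_assoc]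
    exact Category.id_comp _
  refine Over.OverMorphism.ext ?_
  rw [← key a, ← key b, h]

include hR hfac hjπ in
/-- the quotient is affine without geometric subtori -/
theorem quot_affine_noSubtorus [Surjective π.left] [Flat π.left] [LocallyOfFinitePresentation π.left] :
    IsAffine Q.left ∧ ∀ s : ↥(Spec (CommRingCat.of k)),
      Red.HasNoSubtorus (AlgebraicClosure ((Spec (CommRingCat.of k)).residueField s)) (Red.geomFibre s Q) := by
  haveI := locallyOfFiniteType_res qR hR
  haveI : LocallyOfFiniteType (π.left ≫ Q.hom) := by rw [Over.w]; infer_instance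
  haveI : LocallyOfFiniteType Q.hom := FppfSource.lft π.left Q.hom
  refine ⟨?_, fun s => ?_⟩
  · obtain ⟨K, _, iK, hiK, hiKc, -, hK⟩ := AdjRep.exists_kernel qR
    haveI := hiK; haveI := hiKc
    haveI := (kernel_lft qR hR iK hK).1
    let a : K ⟶ (bc k k').obj Q := iK ≫ (bc k k').map π
    haveI : IsMonHom a := inferInstanceAs (IsMonHom (iK ≫ (bc k k').map π))
    haveI : Surjective a.left := by
      refine ⟨fun z => ?_⟩
      let L := AlgebraicClosure (((bc k k').obj Q).left.residueField z)
      let ξ : Spec (CommRingCat.of L) ⟶ ((bc k k').obj Q).left :=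
        Spec.map (CommRingCat.ofHom (algebraMap (((bc k k').obj Q).left.residueField z) L)) ≫
          ((bc k k').obj Q).left.fromSpecResidueField z
      letI : Algebra k' L := (Spec.preimage (ξ ≫ ((bc k k').obj Q).hom)).hom.toAlgebra
      letI : Algebra k L := ((algebraMap k' L).comp (algebraMap k k')).toAlgebra
      haveI : IsScalarTower k k' L := IsScalarTower.of_algebraMap_eq fun _ => rfl
      let ξ' : SpA k' L ⟶ (bc k k').obj Q := Over.homMk ξ (by
        show _ = Spec.map _
        exact (Spec.map_preimage _).symm)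
      obtain ⟨w, hw⟩ := exists_eq_graph ξ'
      obtain ⟨y, hyπ, hy⟩ := exists_kernel_lift q qR hR p hfac π hjπ w
      let x : SpA k' L ⟶ K := hK.lift (graph L ≫ (bc k k').map y) (toUnit _) (by rw [hy, Hom.one_def])
      refine ⟨x.left (IsLocalRing.closedPoint L), ?_⟩
      rw [← Scheme.Hom.comp_apply, ← Over.comp_left, show x ≫ a = ξ' by
        show x ≫ iK ≫ _ = _
        rw [← Category.assoc, show x ≫ iK = graph L ≫ (bc k k').map y from hK.lift_fst _ _ _, Category.assoc,
          ← Functor.map_comp, hyπ, ← hw]]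
      show (Spec.map _ ≫ ((bc k k').obj Q).left.fromSpecResidueField z) _ = z
      rw [Scheme.Hom.comp_apply]
      exact Scheme.fromSpecResidueField_apply _ _
    haveI : LocallyOfFiniteType ((bc k k').obj Q).hom := inferInstanceAs (LocallyOfFiniteType (pullback.snd Q.hom _))
    haveI : LocallyOfFiniteType ((bc k k').obj R).hom := inferInstanceAs (LocallyOfFiniteType (pullback.snd R.hom _))
    haveI : LocallyOfFiniteType K.hom := by rw [← Over.w iK]; infer_instance
    haveI : IsAffine ((bc k k').obj Q).left := isAffine_of_surjective_hom a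
    let f := Spec.map (CommRingCat.ofHom (algebraMap k k'))
    haveI : IsAffineHom ((bc k k').obj Q).hom := isAffineHom_of_isAffine _
    haveI : IsAffineHom Q.hom := by
      refine MorphismProperty.of_pullback_snd_of_descendsAlong (P := @IsAffineHom)
        (Q := @Surjective ⊓ @Flat ⊓ @QuasiCompact) (f := Q.hom) (g := f) ?_ ‹IsAffineHom ((bc k k').obj Q).hom›
      exact ⟨⟨⟨fun x => ⟨IsLocalRing.closedPoint k', @Subsingleton.elim _ (inferInstanceAs (Subsingleton (PrimeSpectrum k))) _ _⟩⟩,
        inferInstance⟩, inferInstance⟩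
    exact isAffine_of_isAffineHom Q.hom
  · obtain ⟨alg, -, hpt⟩ := PerfRad.exists_algebra_geomPt s
    let L := AlgebraicClosure ((Spec (CommRingCat.of k)).residueField s)
    letI := alg
    let σ : k' →ₐ[k] L := IsAlgClosed.lift
    letI : Algebra k' L := σ.toRingHom.toAlgebra
    haveI : IsScalarTower k k' L := IsScalarTower.of_algebraMap_eq fun a => (σ.commutes a).symm
    obtain ⟨n, hn0, hn⟩ := exists_exponent_lft qR hR L
    intro T _ t _ _ hT
    haveI := Chev.smooth_of_isTorus hT
    haveI : IsReduced T.left := SmoothRed.isReduced_of_smooth_scheme T.hom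
    haveI : IsSeparated T.hom := GrpField.isSeparated_hom T
    haveI : IsMonHom π := inferInstance
    have hpts : ∀ z : 𝟙_ (Over (Spec (CommRingCat.of L))) ⟶ T, z ^ n = 1 := fun z => by
      let E := SubGen.ratEquiv (Red.geomPt s) Q
      obtain ⟨x, hx⟩ : ∃ x, E x = z ≫ t := E.surjective _
      have h1 : x ^ n = 1 := by
        have hrel : ∀ (φ : Spec (CommRingCat.of L) ⟶ Spec (CommRingCat.of k)) (x' : Over.mk φ ⟶ Q),
            φ = Spec.map (CommRingCat.ofHom (algebraMap k L)) → x' ^ n = 1 := by
          rintro _ x' rfl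
          obtain ⟨y, hyπ, hy⟩ := exists_kernel_lift q qR hR p hfac π hjπ x'
          have h2 := hn _ hy
          rw [← MonObj.comp_pow] at h2
          have h3 : y ^ n = 1 := graph_map_injective (k' := k') (by
            rw [Functor.map_one, MonObj.comp_one, ← h2]
            congr 1
            exact map_pow ((bc k k').homMonoidHom) y n)
          rw [← hyπ, ← MonObj.pow_comp, h3, MonObj.one_comp]
        exact hrel _ x hpt
      rw [← cancel_mono t, MonObj.pow_comp, ← hx, ← map_pow, h1, map_one, MonObj.one_comp]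
    refine TorusKilled.isTrivial T hT hn0 (Chev.BorelFixed.hom_ext_rp fun z => ?_)
    rw [MonObj.comp_pow, Category.comp_id, hpts, MonObj.comp_one]

end Groth.Agent.WeilAff
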