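import Groth.Agent.WeilAff.Apps
import Mathlib.Algebra.TrivSqZeroExt.Basic
import Mathlib.RingTheory.Ideal.Quotient.Operations

/-!
Points of a group scheme congruent to the unit modulo a nilpotent ideal are killed by a power of `p`.
-/

set_option autoImplicit false
set_option backward.isDefEq.respectTransparency false
set_option maxHeartbeats 1000000
set_option synthInstance.maxHeartbeats 200000
set_option linter.unusedSectionVars false
set_option linter.style.haveILetI false

universe u

open CategoryTheory MonoidalCategory CartesianMonoidalCategory MonObj GrpObj AlgebraicGeometry TrivSqZeroExt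

noncomputable section

namespace Groth.Agent.WeilAff

variable {R : Type u} [CommRing R]

theorem saHom_comp {A B C : Type u} [CommRing A] [Algebra R A] [CommRing B] [Algebra R B] [CommRing C] [Algebra R C]
    (f : A →ₐ[R] B) (g : B →ₐ[R] C) : saHom (g.comp f) = saHom g ≫ saHom f := by
  refine Over.OverMorphism.ext ?_
  show Spec.map _ = Spec.map _ ≫ Spec.map _
  rw [← Spec.map_comp]
  rfl

theorem saHom_id (A : Type u) [CommRing A] [Algebra R A] : saHom (AlgHom.id R A) = 𝟙 (SpA R A) := by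
  refine Over.OverMorphism.ext ?_
  show Spec.map _ = 𝟙 _
  exact Spec.map_id _

/-- an affine neighbourhood of the unit: a chart containing the unit point -/
structure Chart (G' : Over (Spec (CommRingCat.of R))) [GrpObj G'] where
  /-- coordinate ring -/
  D : Type u
  [ring : CommRing D]
  [alg : Algebra R D]
  /-- the chart -/
  c : SpA R D ⟶ G'
  isOpen : IsOpenImmersion c.left
  unit_mem : Set.range (η[G'] : 𝟙_ (Over (Spec (CommRingCat.of R))) ⟶ G').left ⊆ Set.range c.left

attribute [instance] Chart.ring Chart.alg Chart.isOpen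

variable {G' : Over (Spec (CommRingCat.of R))} [GrpObj G'] (𝒰 : Chart G')

theorem Chart.range_one (P : Type u) [CommRing P] [Algebra R P] :
    Set.range (1 : SpA R P ⟶ G').left ⊆ Set.range 𝒰.c.left := by
  rintro _ ⟨y, rfl⟩
  rw [Hom.one_def, Over.comp_left, Scheme.Hom.comp_apply]
  exact 𝒰.unit_mem ⟨_, rfl⟩

/-- a point congruent to the unit along a nilpotent thickening lies in the chart -/
theorem Chart.exists_coord {P Q : Type u} [CommRing P] [Algebra R P] [CommRing Q] [Algebra R Q] (π : P →ₐ[R] Q)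
    (hπ : Function.Surjective π) (hk : IsNilpotent (RingHom.ker π.toRingHom)) (y : SpA R P ⟶ G')
    (hy : saHom π ≫ y = 1) : ∃ φ : 𝒰.D →ₐ[R] P, saHom φ ≫ 𝒰.c = y := by
  have hsurj : Function.Surjective (saHom π).left := by
    intro p
    obtain ⟨n, hn⟩ := hk
    have hle : RingHom.ker π.toRingHom ≤ (p : PrimeSpectrum P).asIdeal :=
      fun a ha => (p : PrimeSpectrum P).isPrime.mem_of_pow_mem n (by
        have := Ideal.pow_mem_pow ha n
        rw [hn] at this
        rw [show a ^ n = 0 from this]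
        exact zero_mem _)
    have h : (p : PrimeSpectrum P) ∈ Set.range (PrimeSpectrum.comap π.toRingHom) := by
      rw [range_comap_of_surjective _ π.toRingHom hπ, PrimeSpectrum.mem_zeroLocus]
      exact hle
    exact h
  have hr : Set.range y.left ⊆ Set.range 𝒰.c.left := by
    rintro _ ⟨p, rfl⟩
    obtain ⟨x, rfl⟩ := hsurj p
    rw [← Scheme.Hom.comp_apply, ← Over.comp_left, hy]
    exact 𝒰.range_one Q ⟨x, rfl⟩
  let y' : SpA R P ⟶ SpA R 𝒰.D := Over.homMk (IsOpenImmersion.lift 𝒰.c.left y.left hr) (by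
    rw [← Over.w 𝒰.c, IsOpenImmersion.lift_fac_assoc, Over.w])
  obtain ⟨φ, hφ⟩ := saHom_surjective y'
  exact ⟨φ, by rw [hφ]; exact Over.OverMorphism.ext (IsOpenImmersion.lift_fac _ _ _)⟩

theorem Chart.coord_unique {P : Type u} [CommRing P] [Algebra R P] {φ φ' : 𝒰.D →ₐ[R] P}
    (h : saHom φ ≫ 𝒰.c = saHom φ' ≫ 𝒰.c) : φ = φ' := by
  have h1 : (saHom φ).left ≫ 𝒰.c.left = (saHom φ').left ≫ 𝒰.c.left := congrArg CommaMorphism.left h
  rw [cancel_mono] at h1
  exact AlgHom.coe_ringHom_injective (congrArg CommRingCat.Hom.hom (Spec.map_injective h1))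

/-- the coordinates of the unit -/
theorem Chart.exists_counit : ∃ ε : 𝒰.D →ₐ[R] R, ∀ (P : Type u) [CommRing P] [Algebra R P],
    saHom ((Algebra.ofId R P).comp ε) ≫ 𝒰.c = 1 := by
  obtain ⟨ε, hε⟩ := 𝒰.exists_coord (AlgHom.id R R) Function.surjective_id ⟨1, by
    rw [pow_one, show RingHom.ker (AlgHom.id R R).toRingHom = ⊥ from (RingHom.injective_iff_ker_eq_bot _).1 Function.injective_id]
    rfl⟩ 1 (MonObj.comp_one _)
  exact ⟨ε, fun P _ _ => by rw [saHom_comp, Category.assoc, hε, MonObj.comp_one]⟩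

section Module

variable {I J : Type u} [AddCommGroup I] [Module R I] [Module Rᵐᵒᵖ I] [IsCentralScalar R I]
  [AddCommGroup J] [Module R J] [Module Rᵐᵒᵖ J] [IsCentralScalar R J]

theorem isNilpotent_ker_fst : IsNilpotent (RingHom.ker (fstHom R R I).toRingHom) := by
  refine ⟨2, ?_⟩
  rw [pow_two, Submodule.zero_eq_bot, ← le_bot_iff, Ideal.mul_le]
  intro a ha b hb
  have ha' : a.fst = 0 := ha
  have hb' : b.fst = 0 := hb
  rw [Ideal.mem_bot]
  ext
  · rw [fst_mul, ha', zero_mul, fst_zero]
  · rw [snd_mul, ha', hb', zero_smul, MulOpposite.op_zero, zero_smul, add_zero, snd_zero]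

theorem map_fst' (f : I →ₗ[R] J) : (fstHom R R J).comp (TrivSqZeroExt.map f) = fstHom R R I :=
  TrivSqZeroExt.algHom_ext fun x => by simp

theorem map_zero' : TrivSqZeroExt.map (0 : I →ₗ[R] J) = (Algebra.ofId R _).comp (fstHom R R I) :=
  TrivSqZeroExt.algHom_ext fun x => by simp

variable {x : SpA R (TrivSqZeroExt R I) ⟶ G'} (hx : saHom (fstHom R R I) ≫ x = 1)

include hx in
theorem red_map (f : I →ₗ[R] J) : saHom (fstHom R R J) ≫ saHom (TrivSqZeroExt.map f) ≫ x = 1 := by
  rw [← Category.assoc, ← saHom_comp, map_fst', hx]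

include hx in
theorem map_zero_comp : saHom (TrivSqZeroExt.map (0 : I →ₗ[R] J)) ≫ x = 1 := by
  rw [map_zero', saHom_comp, Category.assoc, hx, MonObj.comp_one]

include 𝒰 hx in
/-- the group law on infinitesimal points is addition -/
theorem map_add_pts (f g : I →ₗ[R] J) :
    saHom (TrivSqZeroExt.map (f + g)) ≫ x = (saHom (TrivSqZeroExt.map f) ≫ x) * (saHom (TrivSqZeroExt.map g) ≫ x) := by
  let a : I →ₗ[R] J × J := (LinearMap.inl R J J).comp f
  let b : I →ₗ[R] J × J := (LinearMap.inr R J J).comp g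
  let X := (saHom (TrivSqZeroExt.map a) ≫ x) * (saHom (TrivSqZeroExt.map b) ≫ x)
  let Y := saHom (TrivSqZeroExt.map (f.prod g)) ≫ x
  have hc : ∀ {K : Type u} [AddCommGroup K] [Module R K] [Module Rᵐᵒᵖ K] [IsCentralScalar R K] {L : Type u}
      [AddCommGroup L] [Module R L] [Module Rᵐᵒᵖ L] [IsCentralScalar R L] (u : I →ₗ[R] K) (v : K →ₗ[R] L),
      saHom (TrivSqZeroExt.map v) ≫ saHom (TrivSqZeroExt.map u) ≫ x = saHom (TrivSqZeroExt.map (v.comp u)) ≫ x := by
    intros
    rw [← Category.assoc, ← saHom_comp, ← TrivSqZeroExt.map_comp_map]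
  have hX : saHom (fstHom R R (J × J)) ≫ X = 1 := by
    simp only [X, MonObj.comp_mul, red_map hx, _root_.one_mul]
  obtain ⟨φ, hφ⟩ := 𝒰.exists_coord (fstHom R R (J × J)) (fun r : R => ⟨(inl r : TrivSqZeroExt R (J × J)), rfl⟩) isNilpotent_ker_fst X hX
  obtain ⟨ψ, hψ⟩ := 𝒰.exists_coord (fstHom R R (J × J)) (fun r : R => ⟨(inl r : TrivSqZeroExt R (J × J)), rfl⟩) isNilpotent_ker_fst Y
    (red_map hx _)
  have e1 : (TrivSqZeroExt.map (LinearMap.fst R J J)).comp φ = (TrivSqZeroExt.map (LinearMap.fst R J J)).comp ψ := by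
    refine 𝒰.coord_unique ?_
    simp only [saHom_comp, Category.assoc, hφ, hψ, X, Y, MonObj.comp_mul, hc, a, b]
    rw [← LinearMap.comp_assoc, ← LinearMap.comp_assoc, LinearMap.fst_comp_inl, LinearMap.fst_comp_inr,
      LinearMap.fst_prod, LinearMap.id_comp, LinearMap.zero_comp, map_zero_comp hx, _root_.mul_one]
  have e2 : (TrivSqZeroExt.map (LinearMap.snd R J J)).comp φ = (TrivSqZeroExt.map (LinearMap.snd R J J)).comp ψ := by
    refine 𝒰.coord_unique ?_
    simp only [saHom_comp, Category.assoc, hφ, hψ, X, Y, MonObj.comp_mul, hc, a, b]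
    rw [← LinearMap.comp_assoc, ← LinearMap.comp_assoc, LinearMap.snd_comp_inl, LinearMap.snd_comp_inr,
      LinearMap.snd_prod, LinearMap.id_comp, LinearMap.zero_comp, map_zero_comp hx, _root_.one_mul]
  have hφψ : φ = ψ := by
    refine AlgHom.ext fun d => TrivSqZeroExt.ext ?_ (Prod.ext ?_ ?_)
    · simpa using congrArg TrivSqZeroExt.fst (AlgHom.congr_fun e1 d)
    · simpa using congrArg TrivSqZeroExt.snd (AlgHom.congr_fun e1 d)
    · simpa using congrArg TrivSqZeroExt.snd (AlgHom.congr_fun e2 d)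
  have h := congrArg (fun t => saHom (TrivSqZeroExt.map (LinearMap.fst R J J + LinearMap.snd R J J)) ≫ t)
    (hψ.symm.trans ((congrArg (fun t => saHom t ≫ 𝒰.c) hφψ).symm.trans hφ))
  simp only [X, Y, MonObj.comp_mul, hc, a, b] at h
  have ef : (LinearMap.fst R J J + LinearMap.snd R J J).comp ((LinearMap.inl R J J).comp f) = f := by ext; simp
  have eg : (LinearMap.fst R J J + LinearMap.snd R J J).comp ((LinearMap.inr R J J).comp g) = g := by ext; simp
  have efg : (LinearMap.fst R J J + LinearMap.snd R J J).comp (f.prod g) = f + g := by ext; simp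
  rwa [ef, eg, efg] at h

include 𝒰 hx in
theorem pow_map (n : ℕ) : x ^ n = saHom (TrivSqZeroExt.map (n • (LinearMap.id : I →ₗ[R] I))) ≫ x := by
  induction n with
  | zero => rw [pow_zero, zero_smul, map_zero_comp hx]
  | succ n ih => rw [pow_succ, ih, succ_nsmul, map_add_pts 𝒰 hx, TrivSqZeroExt.map_id, saHom_id, Category.id_comp]

end Module

include 𝒰 in
/-- **congruent to the unit modulo a square-zero ideal ⇒ killed by `p`** -/
theorem pow_eq_one_of_sq_zero {p : ℕ} (hp0 : (p : R) = 0) {P Q : Type u} [CommRing P] [Algebra R P] [CommRing Q]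
    [Algebra R Q] (π : P →ₐ[R] Q) (hπ : Function.Surjective π) (h2 : RingHom.ker π.toRingHom ^ 2 = ⊥)
    (y : SpA R P ⟶ G') (hy : saHom π ≫ y = 1) : y ^ p = 1 := by
  obtain ⟨φ, hφ⟩ := 𝒰.exists_coord π hπ ⟨2, h2⟩ y hy
  obtain ⟨ε, hε⟩ := 𝒰.exists_counit
  let I : Submodule R P := (RingHom.ker π.toRingHom).restrictScalars R
  letI : Module Rᵐᵒᵖ I := Module.compHom I ((RingHom.id R).fromOpposite fun _ _ => Commute.all _ _)
  haveI : IsCentralScalar R I := ⟨fun _ _ => rfl⟩
  have hmem : ∀ d, φ d - algebraMap R P (ε d) ∈ I := fun d => by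
    show π (φ d - algebraMap R P (ε d)) = 0
    rw [map_sub, AlgHom.commutes, sub_eq_zero]
    exact AlgHom.congr_fun (𝒰.coord_unique (φ := π.comp φ) (φ' := (Algebra.ofId R Q).comp ε)
      (by rw [saHom_comp, Category.assoc, hφ, hy, hε])) d
  have hz : ∀ a b : P, a ∈ I → b ∈ I → a * b = 0 := fun a b ha hb => by
    rw [← Ideal.mem_bot, ← h2, pow_two]; exact Ideal.mul_mem_mul ha hb
  let δ : 𝒰.D → TrivSqZeroExt R I := fun d => inl (ε d) + inr ⟨_, hmem d⟩
  let io : TrivSqZeroExt R I →ₐ[R] P := liftEquivOfComm ⟨I.subtype, fun a b => hz _ _ a.2 b.2⟩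
  have hio : ∀ (r : R) (a : I), io (inl r + inr a) = algebraMap R P r + a := fun r a => by
    simp [io, liftEquivOfComm_apply, Algebra.ofId_apply]
  let φ' : 𝒰.D →ₐ[R] TrivSqZeroExt R I :=
    { toFun := δ
      map_one' := by
        ext
        · simp [δ]
        · simp [δ]
      map_mul' := fun a b => by
        ext
        · simp [δ]
        · have h0 := hz _ _ (hmem a) (hmem b)
          simp only [δ, snd_add, snd_inl, snd_inr, zero_add, snd_mul, fst_add, fst_inl, fst_inr, add_zero,
            op_smul_eq_smul, map_mul, Submodule.coe_add, Submodule.coe_smul, Algebra.smul_def]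
          linear_combination h0
      map_zero' := by
        ext
        · simp [δ]
        · simp [δ]
      map_add' := fun a b => by
        ext
        · simp [δ]
        · simp [δ]; abel
      commutes' := fun r => by
        ext
        · simp [δ, algebraMap_eq_inl]
        · simp [δ, algebraMap_eq_inl] }
  have hfac : φ = io.comp φ' := AlgHom.ext fun d => ((hio (ε d) ⟨_, hmem d⟩).trans (add_sub_cancel _ _)).symm
  let x := saHom φ' ≫ 𝒰.c
  have hx : saHom (fstHom R R I) ≫ x = 1 := by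
    rw [← hε R, ← Category.assoc, ← saHom_comp]
    congr 2
    exact AlgHom.ext fun d => by simp [φ', δ]
  have hy' : y = saHom io ≫ x := by
    rw [← hφ, hfac, saHom_comp, Category.assoc]
  rw [hy', ← MonObj.comp_pow, pow_map 𝒰 hx, ← Category.assoc (saHom io)]
  rw [show (p • LinearMap.id : I →ₗ[R] I) = 0 from by
    rw [← Nat.cast_smul_eq_nsmul R, hp0, zero_smul]]
  rw [Category.assoc, map_zero_comp hx, MonObj.comp_one]

include 𝒰 in
/-- **congruent to the unit modulo a nilpotent ideal ⇒ killed by a power of `p`** -/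
theorem pow_eq_one_of_nilpotent {p : ℕ} (hp0 : (p : R) = 0) :
    ∀ (n : ℕ) {P Q : Type u} [CommRing P] [Algebra R P] [CommRing Q] [Algebra R Q] (π : P →ₐ[R] Q),
      Function.Surjective π → RingHom.ker π.toRingHom ^ (n + 1) = ⊥ →
      ∀ y : SpA R P ⟶ G', saHom π ≫ y = 1 → y ^ (p ^ n) = 1 := by
  intro n
  induction n with
  | zero =>
    intro P Q _ _ _ _ π hπ hk y hy
    rw [pow_one] at hk
    let e : P ≃ₐ[R] Q := AlgEquiv.ofBijective π ⟨(RingHom.injective_iff_ker_eq_bot _).2 hk, hπ⟩
    have h : saHom e.symm.toAlgHom ≫ saHom π ≫ y = saHom e.symm.toAlgHom ≫ 1 := congrArg _ hy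
    rw [← Category.assoc, ← saHom_comp, MonObj.comp_one,
      show e.symm.toAlgHom.comp π = AlgHom.id R P from AlgHom.ext fun a => e.symm_apply_apply a, saHom_id,
      Category.id_comp] at h
    rw [pow_zero, pow_one, h]
  | succ n ih =>
    intro P Q _ _ _ _ π hπ hk y hy
    let N := RingHom.ker π.toRingHom
    let q := Ideal.Quotient.mkₐ R (N ^ (n + 1))
    let π' : P ⧸ N ^ (n + 1) →ₐ[R] Q := Ideal.Quotient.liftₐ _ π fun a ha => Ideal.pow_le_self (by omega) ha
    have hπ' : π'.comp q = π := AlgHom.ext fun a => rfl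
    have hk' : RingHom.ker π'.toRingHom ^ (n + 1) = ⊥ := by
      have hkk : RingHom.ker π'.toRingHom = N.map (Ideal.Quotient.mk (N ^ (n + 1))) := by
        ext a
        obtain ⟨a, rfl⟩ := Ideal.Quotient.mk_surjective a
        rw [Ideal.mem_quotient_iff_mem_sup, sup_eq_left.2 (Ideal.pow_le_self (by omega))]
        rfl
      rw [hkk, ← Ideal.map_pow, Ideal.map_quotient_self]
    have h1 := ih π' (fun a => (hπ a).elim fun b hb => ⟨q b, hb⟩) hk' (saHom q ≫ y)
      (by rw [← Category.assoc, ← saHom_comp, hπ', hy])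
    rw [← MonObj.comp_pow] at h1
    have h2 := pow_eq_one_of_sq_zero 𝒰 hp0 q Ideal.Quotient.mk_surjective (by
      rw [show RingHom.ker q.toRingHom = N ^ (n + 1) from Ideal.mk_ker, ← pow_mul, ← le_bot_iff, ← hk]
      exact Ideal.pow_le_pow_right (by omega)) (y ^ (p ^ n)) h1
    rw [pow_succ p, pow_mul]
    exact h2

end Groth.Agent.WeilAff
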