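import Groth.Agent.WeilAff.Geom
import Groth.Prelude.Def_WeilRes
import Mathlib.AlgebraicGeometry.Morphisms.UniversallyInjective
import Mathlib.AlgebraicGeometry.Morphisms.Finite

/-!
Open subschemes of a purely inseparable Weil restriction.
-/

set_option autoImplicit false
set_option backward.isDefEq.respectTransparency false
set_option maxHeartbeats 1000000
set_option synthInstance.maxHeartbeats 200000
set_option linter.unusedSectionVars false
set_option linter.style.haveILetI false

universe u

open CategoryTheory CategoryTheory.Limits AlgebraicGeometry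

noncomputable section

namespace Groth.Agent.WeilAff

variable {k k' : Type u} [Field k] [Field k'] [Algebra k k'] [Module.Finite k k'] [IsPurelyInseparable k k']

omit [Module.Finite k k'] in
theorem universallyInjective_purelyInseparable :
    UniversallyInjective (Spec.map (CommRingCat.ofHom (algebraMap k k'))) := by
  refine ((tfae_universallyInjective _).out 0 1).2 ?_
  intro K _ a b h
  obtain ⟨α, rfl⟩ := Spec.map_surjective a
  obtain ⟨β, rfl⟩ := Spec.map_surjective b
  simp only [← Spec.map_comp] at h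
  have h' := congrArg CommRingCat.Hom.hom (Spec.map_injective h)
  exact congrArg Spec.map (CommRingCat.hom_ext (by exact IsPurelyInseparable.injective_comp_algebraMap _ _ _ h'))

theorem isClosedMap_bijective_fst (Y : Over (Spec (CommRingCat.of k))) :
    IsClosedMap (pullback.fst Y.hom (Spec.map (CommRingCat.ofHom (algebraMap k k')))) ∧
      Function.Bijective (pullback.fst Y.hom (Spec.map (CommRingCat.ofHom (algebraMap k k')))) := by
  let f := Spec.map (CommRingCat.ofHom (algebraMap k k'))
  haveI : UniversallyInjective f := universallyInjective_purelyInseparable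
  haveI : IsFinite f := (IsFinite.SpecMap_iff _).2 (RingHom.finite_algebraMap.2 inferInstance)
  haveI : Surjective f := ⟨fun x => ⟨IsLocalRing.closedPoint k', @Subsingleton.elim _ (inferInstanceAs (Subsingleton (PrimeSpectrum k))) _ _⟩⟩
  haveI : IsFinite (pullback.fst Y.hom f) := inferInstance
  haveI : Surjective (pullback.fst Y.hom f) := inferInstance
  haveI : UniversallyInjective (pullback.fst Y.hom f) := MorphismProperty.pullback_fst _ _ inferInstance
  exact ⟨Scheme.Hom.isClosedMap _, (pullback.fst Y.hom f).injective, (pullback.fst Y.hom f).surjective⟩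

variable {G' : Over (Spec (CommRingCat.of k'))} {R : Over (Spec (CommRingCat.of k))}
  (q : (bc k k').obj R ⟶ G') (hR : WeilRes.IsWeilRes (Spec.map (CommRingCat.ofHom (algebraMap k k'))) G' R q)
  {X' : Over (Spec (CommRingCat.of k'))} (c : X' ⟶ G') [IsOpenImmersion c.left]

include hR in
/-- the part of a purely inseparable Weil restriction over an open subscheme -/
theorem exists_openRes :
    ∃ (RU : Over (Spec (CommRingCat.of k))) (j : RU ⟶ R)
      (eU : ∀ Y : Over (Spec (CommRingCat.of k)), (Y ⟶ RU) ≃ ((bc k k').obj Y ⟶ X')),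
      IsOpenImmersion j.left ∧
      (∀ (Y Z : Over (Spec (CommRingCat.of k))) (h : Y ⟶ Z) (g : Z ⟶ RU), eU Y (h ≫ g) = (bc k k').map h ≫ eU Z g) ∧
      eU RU (𝟙 RU) ≫ c = (bc k k').map j ≫ q ∧
      ∀ (Z : Over (Spec (CommRingCat.of k'))) (z : Z ⟶ (bc k k').obj R),
        Set.range (z ≫ q).left ⊆ Set.range c.left → ∃ z' : Z ⟶ (bc k k').obj RU, z' ≫ (bc k k').map j = z := by
  let f := Spec.map (CommRingCat.ofHom (algebraMap k k'))
  obtain ⟨hcl, hbij⟩ := isClosedMap_bijective_fst (k' := k') R
  let p := pullback.fst R.hom f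
  let Ω : Set ↥(pullback R.hom f) := q.left ⁻¹' Set.range c.left
  have hΩ : IsOpen Ω := c.left.isOpenEmbedding.isOpen_range.preimage q.left.continuous
  let O : R.left.Opens := ⟨(p '' Ωᶜ)ᶜ, (hcl _ hΩ.isClosed_compl).isOpen_compl⟩
  have hO : ∀ z, p z ∈ O ↔ z ∈ Ω := fun z => by
    show p z ∉ p '' Ωᶜ ↔ z ∈ Ω
    rw [hbij.1.mem_set_image, Set.mem_compl_iff, not_not]
  let RU : Over (Spec (CommRingCat.of k)) := Over.mk (O.ι ≫ R.hom)
  let j : RU ⟶ R := Over.homMk O.ι rfl
  haveI : IsOpenImmersion j.left := inferInstanceAs (IsOpenImmersion O.ι)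
  haveI : Mono j := (Over.forget _).mono_of_mono_map (inferInstanceAs (Mono j.left))
  haveI : Mono c := (Over.forget _).mono_of_mono_map (inferInstanceAs (Mono c.left))
  have hmem : ∀ {Y : Over (Spec (CommRingCat.of k))} (g : Y ⟶ RU) (y : ((bc k k').obj Y).left),
      ((bc k k').map (g ≫ j) ≫ q).left y ∈ Set.range c.left := fun {Y} g y => by
    refine (hO _).1 ?_
    have h : ((bc k k').map (g ≫ j)).left ≫ p = pullback.fst Y.hom f ≫ g.left ≫ O.ι :=
      pullback.lift_fst _ _ _
    show (((bc k k').map (g ≫ j)).left ≫ p) y ∈ O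
    rw [h]
    exact (g.left (pullback.fst Y.hom f y)).2
  have hex : ∀ {Y : Over (Spec (CommRingCat.of k))} (g : Y ⟶ RU),
      ∃ v : (bc k k').obj Y ⟶ X', v ≫ c = (bc k k').map (g ≫ j) ≫ q := fun {Y} g => by
    refine ⟨Over.homMk (IsOpenImmersion.lift c.left ((bc k k').map (g ≫ j) ≫ q).left ?_) ?_,
      Over.OverMorphism.ext (IsOpenImmersion.lift_fac _ _ _)⟩
    · rintro _ ⟨y, rfl⟩; exact hmem g y
    · rw [← Over.w c, IsOpenImmersion.lift_fac_assoc, Over.w]
  let φ : ∀ Y : Over (Spec (CommRingCat.of k)), (Y ⟶ RU) → ((bc k k').obj Y ⟶ X') := fun Y g => (hex g).choose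
  have hφ : ∀ (Y : Over (Spec (CommRingCat.of k))) (g : Y ⟶ RU), φ Y g ≫ c = (bc k k').map (g ≫ j) ≫ q :=
    fun Y g => (hex g).choose_spec
  have hb : ∀ Y, Function.Bijective (φ Y) := fun Y => by
    refine ⟨fun a b h => (cancel_mono j).1 ((hR Y).1 ?_), fun v => ?_⟩
    · show (bc k k').map (a ≫ j) ≫ q = (bc k k').map (b ≫ j) ≫ q
      rw [← hφ, ← hφ, h]
    · obtain ⟨g₀, hg₀⟩ := (hR Y).2 (v ≫ c)
      replace hg₀ : (bc k k').map g₀ ≫ q = v ≫ c := hg₀
      have hr : Set.range g₀.left ⊆ Set.range O.ι := by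
        rw [Scheme.Opens.range_ι]
        rintro _ ⟨y, rfl⟩
        obtain ⟨y', rfl⟩ := (isClosedMap_bijective_fst (k' := k') Y).2.2 y
        have h : ((bc k k').map g₀).left ≫ p = pullback.fst Y.hom f ≫ g₀.left := pullback.lift_fst _ _ _
        rw [← Scheme.Hom.comp_apply, ← h, Scheme.Hom.comp_apply]
        refine (hO _).2 ⟨v.left y', ?_⟩
        exact (congrArg (fun t => t.left y') hg₀).symm
      let g : Y ⟶ RU := Over.homMk (IsOpenImmersion.lift O.ι g₀.left hr) (by
        show _ ≫ O.ι ≫ R.hom = _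
        rw [IsOpenImmersion.lift_fac_assoc, Over.w])
      have hg : g ≫ j = g₀ := Over.OverMorphism.ext (IsOpenImmersion.lift_fac _ _ _)
      exact ⟨g, (cancel_mono c).1 (by rw [hφ, hg, hg₀])⟩
  refine ⟨RU, j, fun Y => Equiv.ofBijective _ (hb Y), inferInstance, fun Y Z h g => (cancel_mono c).1 ?_, ?_,
    fun Z z hz => ?_⟩
  · show φ Y (h ≫ g) ≫ c = ((bc k k').map h ≫ φ Z g) ≫ c
    rw [hφ, Category.assoc ((bc k k').map h), hφ, Category.assoc h g j, Functor.map_comp, Category.assoc]
  · show φ RU (𝟙 RU) ≫ c = _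
    rw [hφ, Category.id_comp]
  · have hr : Set.range (z.left ≫ p) ⊆ Set.range O.ι := by
      rw [Scheme.Opens.range_ι]
      rintro _ ⟨w, rfl⟩
      exact (hO _).2 (hz ⟨w, rfl⟩)
    let z₁ := IsOpenImmersion.lift O.ι (z.left ≫ p) hr
    have hz₁ : z₁ ≫ O.ι = z.left ≫ p := IsOpenImmersion.lift_fac _ _ _
    have hw : z.left ≫ pullback.snd R.hom f = Z.hom := Over.w z
    refine ⟨Over.homMk (pullback.lift z₁ Z.hom ?_) (pullback.lift_snd _ _ _), Over.OverMorphism.ext ?_⟩
    · show z₁ ≫ O.ι ≫ R.hom = _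
      rw [reassoc_of% hz₁, ← hw, Category.assoc, pullback.condition]
    · apply pullback.hom_ext
      · refine (Category.assoc _ _ _).trans ?_
        rw [show ((bc k k').map j).left ≫ p = pullback.fst RU.hom f ≫ O.ι from pullback.lift_fst _ _ _]
        erw [pullback.lift_fst_assoc]
        exact hz₁
      · refine (Category.assoc _ _ _).trans ?_
        rw [show ((bc k k').map j).left ≫ pullback.snd R.hom f = pullback.snd RU.hom f from pullback.lift_snd _ _ _]
        erw [pullback.lift_snd]
        exact hw.symm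

end Groth.Agent.WeilAff
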