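import Groth.Agent.WeilAff.KerUnip
import Groth.Agent.WeilAff.Infinit
import Groth.Agent.WeilAff.OpenRes

/-!
The kernel of the counit of a purely inseparable Weil restriction of a group locally of finite type.
-/

set_option autoImplicit false
set_option backward.isDefEq.respectTransparency false
set_option maxHeartbeats 1000000
set_option synthInstance.maxHeartbeats 200000
set_option linter.unusedSectionVars false
set_option linter.style.haveILetI false

universe u

open CategoryTheory MonoidalCategory CartesianMonoidalCategory MonObj GrpObj AlgebraicGeometry TensorProduct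

noncomputable section

namespace Groth.Agent.WeilAff

attribute [local instance] Functor.grpObjObj

variable {k k' : Type u} [Field k] [Field k'] [Algebra k k'] [Module.Finite k k'] [IsPurelyInseparable k k']
  {G' : Over (Spec (CommRingCat.of k'))} [GrpObj G'] {R : Over (Spec (CommRingCat.of k))} [GrpObj R]
  (q : (bc k k').obj R ⟶ G') [IsMonHom q]
  (hR : WeilRes.IsWeilRes (Spec.map (CommRingCat.ofHom (algebraMap k k'))) G' R q)

/-- an affine chart around the unit -/
theorem exists_unitChart [LocallyOfFiniteType G'.hom] :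
    ∃ (X' : Over (Spec (CommRingCat.of k'))) (c : X' ⟶ G') (η' : 𝟙_ (Over (Spec (CommRingCat.of k'))) ⟶ X'),
      IsOpenImmersion c.left ∧ IsAffine X'.left ∧ LocallyOfFiniteType X'.hom ∧ η' ≫ c = η[G'] ∧
      Surjective X'.hom ∧ (Smooth G'.hom → Smooth X'.hom) := by
  haveI : Subsingleton ↥(Spec (CommRingCat.of k')) := inferInstanceAs (Subsingleton (PrimeSpectrum k'))
  let x₀ : ↥(𝟙_ (Over (Spec (CommRingCat.of k')))).left := IsLocalRing.closedPoint k'
  let pt₀ : G'.left := (η[G'] : 𝟙_ (Over (Spec (CommRingCat.of k'))) ⟶ G').left x₀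
  obtain ⟨U, hU, hmem, -⟩ := exists_isAffineOpen_mem_and_subset (U := (⊤ : G'.left.Opens)) (x := pt₀) trivial
  haveI : IsAffine (Over.mk (U.ι ≫ G'.hom)).left := hU
  have hr : Set.range (η[G'] : 𝟙_ (Over (Spec (CommRingCat.of k'))) ⟶ G').left ⊆ Set.range U.ι := by
    rw [Scheme.Opens.range_ι]
    rintro _ ⟨y, rfl⟩
    haveI : Subsingleton ↥(𝟙_ (Over (Spec (CommRingCat.of k')))).left := inferInstanceAs (Subsingleton (PrimeSpectrum k'))
    rw [Subsingleton.elim y x₀]
    exact hmem
  refine ⟨Over.mk (U.ι ≫ G'.hom), Over.homMk U.ι rfl, Over.homMk (IsOpenImmersion.lift U.ι _ hr) ?_,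
    inferInstanceAs (IsOpenImmersion U.ι), hU, inferInstanceAs (LocallyOfFiniteType (U.ι ≫ G'.hom)),
    Over.OverMorphism.ext (IsOpenImmersion.lift_fac _ _ _), ?_, fun _ => inferInstanceAs (Smooth (U.ι ≫ G'.hom))⟩
  · show _ ≫ U.ι ≫ G'.hom = _
    rw [IsOpenImmersion.lift_fac_assoc]
    exact Over.w _
  · exact ⟨fun y => ⟨IsOpenImmersion.lift U.ι _ hr x₀, Subsingleton.elim _ _⟩⟩

include hR in
/-- geometric points of the kernel are killed by a power of the exponential characteristic -/
theorem exists_exponent_pow [LocallyOfFiniteType G'.hom] (L : Type u) [Field L] [IsAlgClosed L] [Algebra k L]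
    [Algebra k' L] [IsScalarTower k k' L] (p : ℕ) [hp : ExpChar k p] :
    ∃ M : ℕ, ∀ y₀ : SpA k' L ⟶ (bc k k').obj R, y₀ ≫ q = 1 → y₀ ^ (p ^ M) = 1 := by
  letI : Algebra k' (L ⊗[k] k') := (Algebra.TensorProduct.includeRight : k' →ₐ[k] L ⊗[k] k').toRingHom.toAlgebra
  let f : L ⊗[k] k' →ₐ[k'] L :=
    { (mu (IsScalarTower.toAlgHom k k' L)).toRingHom with
      commutes' := fun a => by
        show mu (IsScalarTower.toAlgHom k k' L) ((1 : L) ⊗ₜ[k] a) = _
        rw [mu_tmul, _root_.one_mul]; rfl }
  have hf : f.toRingHom = (mu (IsScalarTower.toAlgHom k k' L)).toRingHom := rfl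
  let j : SpA k' (L ⊗[k] k') ≅ (bc k k').obj (SpR k L) := Over.isoMk (bcSpIso k' L).symm (by
    exact pullbackSpecIso_inv_snd k L k')
  have hj : saHom f ≫ j.hom = graph L := Over.OverMorphism.ext (by
    rw [graph_left (k := k) (k' := k') L, ← hf]; rfl)
  obtain ⟨m, hm⟩ := isNilpotent_ker_mu (k := k) (k' := k') L
  rw [← hf] at hm
  have hsur : Function.Surjective f := fun c => ⟨c ⊗ₜ[k] 1, by
    show f.toRingHom _ = c
    rw [hf]
    show mu (IsScalarTower.toAlgHom k k' L) (c ⊗ₜ[k] 1) = c
    rw [mu_tmul, map_one, _root_.mul_one]⟩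
  obtain ⟨n, hn⟩ : ∃ n : ℕ, ∀ x : SpA k' (L ⊗[k] k') ⟶ G', saHom f ≫ x = 1 → x ^ (p ^ n) = 1 := by
    rcases hp with _ | ⟨hp⟩
    · refine ⟨0, fun x hx => ?_⟩
      haveI : Algebra.IsSeparable k k' := inferInstance
      have hsk : Function.Surjective (algebraMap k k') :=
        IsPurelyInseparable.surjective_algebraMap_of_isSeparable k k'
      have hz : ∀ z : L ⊗[k] k', z = (mu (IsScalarTower.toAlgHom k k' L) z) ⊗ₜ[k] 1 := fun z => by
        induction z with
        | zero => simp
        | tmul c a =>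
          obtain ⟨r, rfl⟩ := hsk a
          rw [mu_tmul, AlgHom.commutes, ← Algebra.commutes, ← Algebra.smul_def, Algebra.algebraMap_eq_smul_one,
            TensorProduct.tmul_smul, TensorProduct.smul_tmul']
        | add a b ha hb => rw [map_add, TensorProduct.add_tmul, ← ha, ← hb]
      have hinj : Function.Injective f := fun a b hab => by
        have hab' : f.toRingHom a = f.toRingHom b := hab
        rw [hf] at hab'
        rw [hz a, hz b]
        exact congrArg (fun c => c ⊗ₜ[k] (1 : k')) hab'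
      haveI : IsIso (CommRingCat.ofHom f.toRingHom) := (ConcreteCategory.isIso_iff_bijective _).2 ⟨hinj, hsur⟩
      haveI : IsIso (saHom f).left := inferInstanceAs (IsIso (Spec.map (CommRingCat.ofHom f.toRingHom)))
      haveI : IsIso (saHom f) := (Over.isoMk (asIso (saHom f).left) (Over.w _)).isIso_hom
      rw [pow_zero, pow_one, ← cancel_epi (saHom f), hx, MonObj.comp_one]
    · obtain ⟨X', c, η', hc, hXa, hXl, hη', -, -⟩ := exists_unitChart (G' := G')
      haveI := hc; haveI := hXa; haveI := hXl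
      obtain ⟨D, _, _, _, _, _, ⟨iX⟩, -, -⟩ := exists_iso_SpA (B := k) X'
      let 𝒰 : Chart G' :=
        { D := D
          c := iX.inv ≫ c
          isOpen := by
            haveI : IsIso iX.inv.left := inferInstanceAs (IsIso ((Over.forget _).map iX.inv))
            rw [Over.comp_left]; infer_instance
          unit_mem := by
            rintro _ ⟨y, rfl⟩
            refine ⟨(η' ≫ iX.hom).left y, ?_⟩
            rw [← Scheme.Hom.comp_apply, ← Over.comp_left, Category.assoc, Iso.hom_inv_id_assoc, hη'] }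
      refine ⟨m, fun x hx => pow_eq_one_of_nilpotent 𝒰 ?_ m f hsur ?_ x hx⟩
      · rw [← map_natCast (algebraMap k k'), CharP.cast_eq_zero, map_zero]
      · exact le_bot_iff.1 ((Ideal.pow_le_pow_right (Nat.le_succ m)).trans hm.le)
  refine ⟨n, fun y₀ hy₀ => ?_⟩
  obtain ⟨y, rfl⟩ := exists_eq_graph y₀
  have h1 : (j.hom ≫ (bc k k').map y ≫ q) ^ (p ^ n) = 1 := hn _ (by
    rw [← Category.assoc, hj, ← Category.assoc]; exact hy₀)
  have hmp : ∀ N : ℕ, (bc k k').map (y ^ N) = ((bc k k').map y) ^ N := by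
    intro N
    induction N with
    | zero => rw [pow_zero, pow_zero, Functor.map_one]
    | succ N ih => rw [pow_succ, pow_succ, Functor.map_mul, ih]
  rw [← MonObj.comp_pow, ← MonObj.pow_comp, ← hmp] at h1
  have h2 : y ^ (p ^ n) = 1 := by
    refine (hR (SpR k L)).1 ?_
    show (bc k k').map (y ^ (p ^ n)) ≫ q = (bc k k').map 1 ≫ q
    rw [Functor.map_one, MonObj.one_comp, ← cancel_epi j.hom, h1, MonObj.comp_one]
  rw [← MonObj.comp_pow, ← hmp, h2, Functor.map_one, MonObj.comp_one]

include hR in
/-- geometric points of the kernel have bounded order -/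
theorem exists_exponent_lft [LocallyOfFiniteType G'.hom] (L : Type u) [Field L] [IsAlgClosed L] [Algebra k L]
    [Algebra k' L] [IsScalarTower k k' L] :
    ∃ n : ℕ, 0 < n ∧ ∀ y₀ : SpA k' L ⟶ (bc k k').obj R, y₀ ≫ q = 1 → y₀ ^ n = 1 := by
  obtain ⟨p, hp⟩ := ExpChar.exists k
  obtain ⟨M, hM⟩ := exists_exponent_pow q hR L p
  exact ⟨p ^ M, pow_pos (expChar_pos k p) M, hM⟩

include hR in
/-- the kernel has no subtori -/
theorem hasNoSubtorus_kernel_lft [LocallyOfFiniteType G'.hom] {K : Over (Spec (CommRingCat.of k'))} [GrpObj K]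
    (iK : K ⟶ (bc k k').obj R) [IsMonHom iK] (hK : AlgGrp.IsKernel iK q) (s : Spec (CommRingCat.of k')) :
    Red.HasNoSubtorus (AlgebraicClosure ((Spec (CommRingCat.of k')).residueField s)) (Red.geomFibre s K) := by
  obtain ⟨alg, -, hpt⟩ := PerfRad.exists_algebra_geomPt s
  let L := AlgebraicClosure ((Spec (CommRingCat.of k')).residueField s)
  letI := alg
  letI : Algebra k L := ((algebraMap k' L).comp (algebraMap k k')).toAlgebra
  haveI : IsScalarTower k k' L := IsScalarTower.of_algebraMap_eq fun _ => rfl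
  haveI : Mono iK := ⟨fun a b h => hK.hom_ext h (toUnit_unique _ _)⟩
  obtain ⟨n, hn0, hn⟩ := exists_exponent_lft q hR L
  intro T _ t _ _ hT
  haveI := Chev.smooth_of_isTorus hT
  haveI : IsReduced T.left := SmoothRed.isReduced_of_smooth_scheme T.hom
  haveI : IsSeparated T.hom := GrpField.isSeparated_hom T
  have hpts : ∀ z : 𝟙_ (Over (Spec (CommRingCat.of L))) ⟶ T, z ^ n = 1 := fun z => by
    let E := SubGen.ratEquiv (Red.geomPt s) K
    obtain ⟨x, hx⟩ : ∃ x, E x = z ≫ t := E.surjective _
    have h1 : (x ≫ iK) ^ n = 1 := by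
      have hrel : ∀ (φ : Spec (CommRingCat.of L) ⟶ Spec (CommRingCat.of k')) (x' : Over.mk φ ⟶ K),
          φ = Spec.map (CommRingCat.ofHom (algebraMap k' L)) → (x' ≫ iK) ^ n = 1 := by
        rintro _ x' rfl
        refine hn (x' ≫ iK) ?_
        rw [Category.assoc, hK.w, ← Category.assoc, toUnit_unique (x' ≫ toUnit K) (toUnit _), Hom.one_def]
      exact hrel _ x hpt
    have h2 : x ^ n = 1 := by rw [← cancel_mono iK, MonObj.pow_comp, h1, MonObj.one_comp]
    rw [← cancel_mono t, MonObj.pow_comp, ← hx, ← map_pow, h2, map_one, MonObj.one_comp]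
  refine TorusKilled.isTrivial T hT hn0 (Chev.BorelFixed.hom_ext_rp fun z => ?_)
  rw [MonObj.comp_pow, Category.comp_id, hpts, MonObj.comp_one]

include hR in
/-- the kernel is affine, and smooth and connected for a smooth group -/
theorem kernel_lft [LocallyOfFiniteType G'.hom] {K : Over (Spec (CommRingCat.of k'))} [GrpObj K]
    (iK : K ⟶ (bc k k').obj R) [IsMonHom iK] (hK : AlgGrp.IsKernel iK q) :
    IsAffine K.left ∧ (Smooth G'.hom → Smooth K.hom ∧ ConnectedSpace K.left) := by
  haveI : Mono iK := ⟨fun a b h => hK.hom_ext h (toUnit_unique _ _)⟩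
  obtain ⟨X', c, η', hc, hXa, hXl, hη', hXs, hXsm⟩ := exists_unitChart (G' := G')
  haveI := hc; haveI := hXa; haveI := hXl; haveI := hXs
  obtain ⟨RU, j, eU, hj, heU, hqU, hlift⟩ := exists_openRes q hR c
  haveI := hj
  let qU := eU RU (𝟙 RU)
  haveI : Mono c := (Over.forget _).mono_of_mono_map (inferInstanceAs (Mono c.left))
  haveI : Mono j := (Over.forget _).mono_of_mono_map (inferInstanceAs (Mono j.left))
  haveI hjb : IsOpenImmersion ((bc k k').map j).left := MorphismProperty.overPullbackMap (P := @IsOpenImmersion) _ j hj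
  haveI : Mono ((bc k k').map j) := (Over.forget _).mono_of_mono_map (inferInstanceAs (Mono ((bc k k').map j).left))
  obtain ⟨iK', hiK'⟩ := hlift K iK (by
    rw [show iK ≫ q = toUnit K ≫ η[G'] from hK.w, ← hη', Over.comp_left, Over.comp_left]
    rintro _ ⟨y, rfl⟩
    exact ⟨η'.left ((toUnit K).left y), rfl⟩)
  haveI : Mono iK' := by haveI : Mono (iK' ≫ (bc k k').map j) := by rw [hiK']; infer_instance
                         exact mono_of_mono iK' ((bc k k').map j)
  have hqUK : iK' ≫ qU = toUnit K ≫ η' := by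
    rw [← cancel_mono c, Category.assoc, hqU, reassoc_of% hiK', Category.assoc, hη']
    exact hK.w
  haveI : IsClosedImmersion iK.left := MorphismProperty.of_isPullback
    ((hK.map (Over.forget _))).flip (GrpField.isClosedImmersion_eta G')
  haveI : IsClosedImmersion iK'.left := by
    haveI : IsClosedImmersion (iK'.left ≫ ((bc k k').map j).left) := by
      rw [← Over.comp_left, hiK']; infer_instance
    exact IsClosedImmersion.of_comp iK'.left ((bc k k').map j).left
  have hsq : IsPullback iK' (toUnit K) qU η' := by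
    refine IsPullback.mk' hqUK (fun T a b h _ => (cancel_mono iK').1 h) fun T a b h => ?_
    have h1 : (a ≫ (bc k k').map j) ≫ q = b ≫ η[G'] := by
      rw [Category.assoc, ← hqU, reassoc_of% h, hη']
    refine ⟨hK.lift (a ≫ (bc k k').map j) b h1, ?_, toUnit_unique _ _⟩
    rw [← cancel_mono ((bc k k').map j), Category.assoc, hiK']
    exact hK.lift_fst _ _ _
  obtain ⟨D, _, _, _, _, _, ⟨iX⟩, hs, -⟩ := exists_iso_SpA (B := k) X'
  obtain ⟨W, _, _, F, hW⟩ := exists_wres (R := k) (A := k') D
  obtain ⟨i, hi⟩ := exists_rep hW iX eU heU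
  haveI : IsAffine RU.left := by
    haveI : IsAffine (SpR k W).left := inferInstanceAs (IsAffine (Spec (CommRingCat.of W)))
    haveI : IsIso i.hom.left := inferInstanceAs (IsIso ((Over.forget _).map i.hom))
    exact IsAffine.of_isIso i.hom.left
  haveI : IsAffine ((bc k k').obj RU).left := by
    haveI : IsAffineHom RU.hom := isAffineHom_of_isAffine RU.hom
    haveI : IsAffineHom ((bc k k').obj RU).hom := inferInstanceAs (IsAffineHom (Limits.pullback.snd RU.hom _))
    exact isAffine_of_isAffineHom ((bc k k').obj RU).hom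
  haveI : IsAffine K.left := isAffine_of_isAffineHom iK'.left
  refine ⟨inferInstance, fun hG' => ?_⟩
  haveI := hXsm hG'
  haveI := hs inferInstance
  refine ⟨MorphismProperty.of_isPullback (P := @Smooth) (hsq.map (Over.forget _))
    (counit_smooth_surjective X' RU eU heU).1, ?_⟩
  -- a normalised section of the counit
  obtain ⟨s₀, hs₀⟩ := exists_lift_point X' RU eU heU D iX.inv
  let s₁ : X' ⟶ (bc k k').obj R := iX.hom ≫ s₀ ≫ (bc k k').map j
  have hs₁ : s₁ ≫ q = c := by
    simp only [s₁, Category.assoc, ← hqU]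
    rw [reassoc_of% hs₀, Iso.hom_inv_id_assoc]
  let s : X' ⟶ (bc k k').obj R := s₁ * (toUnit X' ≫ η' ≫ s₁)⁻¹
  have hsq' : s ≫ q = c := by
    simp only [s, MonObj.mul_comp, GrpObj.inv_comp, Category.assoc, hs₁, hη', ← Hom.one_def, inv_one, _root_.mul_one]
  have hs1 : η' ≫ s = 1 := by
    simp only [s, MonObj.comp_mul, GrpObj.comp_inv]
    rw [← Category.assoc _ (toUnit X'), toUnit_unique (η' ≫ toUnit X') (𝟙 _), Category.id_comp, mul_inv_cancel]
  let ρ : (bc k k').obj RU ⟶ (bc k k').obj R := (bc k k').map j * (qU ≫ s)⁻¹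
  let r : (bc k k').obj RU ⟶ K := hK.lift ρ (toUnit _) (by
    show ρ ≫ q = toUnit _ ≫ η[G']
    simp only [ρ, MonObj.mul_comp, GrpObj.inv_comp, Category.assoc, hsq', qU, hqU, mul_inv_cancel, Hom.one_def])
  have hr : iK' ≫ r = 𝟙 K := by
    rw [← cancel_mono iK, Category.assoc, Category.id_comp]
    erw [hK.lift_fst]
    simp only [ρ, MonObj.comp_mul, GrpObj.comp_inv, hiK']
    rw [← Category.assoc, hqUK, Category.assoc, hs1, MonObj.comp_one, inv_one, _root_.mul_one]
  haveI : Surjective r.left :=
    ⟨fun z => ⟨iK'.left z, by rw [← Scheme.Hom.comp_apply, ← Over.comp_left, hr]; rfl⟩⟩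
  -- geometry
  let L := AlgebraicClosure k'
  haveI : IsScalarTower k k' L := inferInstance
  haveI : IsScalarTower k k' (L ⊗[k] W) := inferInstance
  let M : SpA k' (L ⊗[k] W) ⟶ (bc k k').obj RU :=
    graph (k := k) (L ⊗[k] W) ≫ (bc k k').map (spMap Algebra.TensorProduct.includeRight ≫ i.inv)
  let m : SpA k' (L ⊗[k] W) ⟶ K := M ≫ r
  -- points
  have hpt : ∀ x : SpA k' L ⟶ K, ∃ ψ : W →ₐ[k] L,
      (∀ d σ, red (K := L) L (bcMap ψ (F d)) σ = mu (IsScalarTower.toAlgHom k k' L) (bcMap ψ (F d))) ∧
      saHom (D' := D) (B' := k') (D := L)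
        { ((mu (IsScalarTower.toAlgHom k k' L)).comp ((bcMap ψ).comp F)).toRingHom with
          commutes' := fun a => by
            show mu _ (bcMap ψ (F (algebraMap k' D a))) = _
            rw [show F (algebraMap k' D a) = (1 : W) ⊗ₜ[k] a from hW.isPt a]
            simp [mu_tmul] } = (toUnit (SpA k' L) ≫ η') ≫ iX.hom ∧
      x.left (IsLocalRing.closedPoint L) = m.left (pt L ψ) := by
    intro x
    obtain ⟨y, hy⟩ := exists_eq_graph (x ≫ iK')
    obtain ⟨ψ, hψ⟩ := (spMap_bijective W L).2 (y ≫ i.hom)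
    have hψ' : (x ≫ iK') = graph L ≫ (bc k k').map (spMap ψ ≫ i.inv) := by
      rw [hy, hψ, Category.assoc, Iso.hom_inv_id, Category.comp_id]
    refine ⟨ψ, fun d σ => ?_, ?_, ?_⟩
    · rw [show red (K := L) L (bcMap ψ (F d)) σ = mu ((IsScalarTower.toAlgHom k L L).comp σ) (bcMap ψ (F d)) from rfl,
        Subsingleton.elim ((IsScalarTower.toAlgHom k L L).comp σ) (IsScalarTower.toAlgHom k k' L)]
    · have h1 : (x ≫ iK') ≫ qU = toUnit (SpA k' L) ≫ η' := by
        rw [Category.assoc, hqUK, ← Category.assoc, toUnit_unique (x ≫ toUnit K) (toUnit _)]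
      rw [hψ'] at h1
      have h2 := congrArg (fun t => t ≫ iX.hom) h1
      simp only [qU, hi, Category.assoc, Iso.inv_hom_id, Category.comp_id, ← Functor.map_comp_assoc,
        Iso.inv_hom_id_assoc, map_spMap_toMor] at h2
      rw [Category.assoc, ← h2]
      refine Over.OverMorphism.ext ?_
      rw [Over.comp_left, toMor_left, graph_left, Category.assoc, Iso.inv_hom_id_assoc]
      show Spec.map _ = Spec.map _ ≫ Spec.map _
      rw [← Spec.map_comp]
      rfl
    · let f : L ⊗[k] W →ₐ[k'] L :=
        { (Algebra.TensorProduct.lift (AlgHom.id k L) ψ fun _ _ => Commute.all _ _).toRingHom with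
          commutes' := fun a => by
            show Algebra.TensorProduct.lift (AlgHom.id k L) ψ (fun _ _ => Commute.all _ _) (algebraMap k' L a ⊗ₜ[k] 1) = _
            rw [Algebra.TensorProduct.lift_tmul, map_one, _root_.mul_one]; rfl }
      have h3 : saHom f ≫ M = x ≫ iK' := by
        rw [hψ']
        simp only [M]
        rw [← Category.assoc, graph_natural, Category.assoc, ← Functor.map_comp, ← Category.assoc (spMap _)]
        congr 3
        refine Over.OverMorphism.ext ?_
        show Spec.map _ ≫ Spec.map _ = Spec.map _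
        rw [← Spec.map_comp]
        congr 1
        ext w
        show Algebra.TensorProduct.lift (AlgHom.id k L) ψ (fun _ _ => Commute.all _ _) ((1 : L) ⊗ₜ[k] w) = ψ w
        rw [Algebra.TensorProduct.lift_tmul, map_one, _root_.one_mul]
      have h4 : saHom f ≫ m = x := by
        simp only [m]
        rw [← Category.assoc, h3, Category.assoc, hr, Category.comp_id]
      conv_lhs => rw [← h4, Over.comp_left, Scheme.Hom.comp_apply]
      congr 1
      refine PrimeSpectrum.ext ?_
      show Ideal.comap f.toRingHom (IsLocalRing.maximalIdeal L) = RingHom.ker _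
      rw [IsLocalRing.maximalIdeal_eq_bot]
      rfl
  have hjoin : ∀ x x' : SpA k' L ⟶ K, connectedComponent (x.left (IsLocalRing.closedPoint L)) =
      connectedComponent (x'.left (IsLocalRing.closedPoint L)) := by
    intro x x'
    obtain ⟨ψ, h1, h2, h3⟩ := hpt x
    obtain ⟨ψ', h1', h2', h3'⟩ := hpt x'
    have hJ : Joined ψ ψ' := joined_of_red hW ψ ψ' fun d σ => by
      rw [h1, h1']
      have h5 := congrArg CommaMorphism.left (h2.trans h2'.symm)
      exact RingHom.congr_fun (congrArg CommRingCat.Hom.hom (Spec.map_injective h5)) d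
    rw [h3, h3']
    refine connectedComponent_eq ?_
    have h6 : pt L ψ' ∈ connectedComponent (pt L ψ) := by rw [hJ]; exact mem_connectedComponent
    exact m.left.continuous.image_connectedComponent_subset _ ⟨_, h6, rfl⟩
  haveI : LocallyOfFiniteType RU.hom := by
    haveI := hW.finiteType
    rw [← Over.w i.hom]
    haveI : LocallyOfFiniteType (SpR k W).hom :=
      (HasRingHomProperty.Spec_iff (P := @LocallyOfFiniteType)).2 (RingHom.finiteType_algebraMap.2 hW.finiteType)
    haveI : IsIso i.hom.left := inferInstanceAs (IsIso ((Over.forget _).map i.hom))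
    infer_instance
  haveI : LocallyOfFiniteType ((bc k k').obj RU).hom := inferInstanceAs (LocallyOfFiniteType (Limits.pullback.snd RU.hom _))
  haveI : LocallyOfFiniteType K.hom := by rw [← Over.w iK']; infer_instance
  haveI : JacobsonSpace K.left := LocallyOfFiniteType.jacobsonSpace K.hom
  have hclosed : ∀ z : K.left, IsClosed ({z} : Set K.left) → ∃ x : SpA k' L ⟶ K, x.left (IsLocalRing.closedPoint L) = z := by
    intro z hz
    obtain ⟨A, _, _, _, _, _, ⟨iA⟩, -, -⟩ := exists_iso_SpA (B := k) K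
    haveI : IsIso iA.hom.left := inferInstanceAs (IsIso ((Over.forget _).map iA.hom))
    let w : PrimeSpectrum A := iA.hom.left z
    have hw : IsClosed ({w} : Set (PrimeSpectrum A)) := by
      have := iA.hom.left.homeomorph.isClosedMap _ hz
      rwa [Set.image_singleton] at this
    haveI : w.asIdeal.IsMaximal := (PrimeSpectrum.isClosed_singleton_iff_isMaximal w).1 hw
    haveI : Algebra.FiniteType k' (A ⧸ w.asIdeal) :=
      Algebra.FiniteType.of_surjective (Ideal.Quotient.mkₐ k' w.asIdeal) Ideal.Quotient.mk_surjective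
    letI := Ideal.Quotient.field w.asIdeal
    haveI : Module.Finite k' (A ⧸ w.asIdeal) := finite_of_finite_type_of_isJacobsonRing k' _
    let g : A →ₐ[k'] L := (IsAlgClosed.lift : (A ⧸ w.asIdeal) →ₐ[k'] L).comp (Ideal.Quotient.mkₐ k' w.asIdeal)
    refine ⟨saHom g ≫ iA.inv, ?_⟩
    have hp : (saHom g).left (IsLocalRing.closedPoint L) = w := by
      refine PrimeSpectrum.ext ?_
      show Ideal.comap g.toRingHom (IsLocalRing.maximalIdeal L) = w.asIdeal
      rw [IsLocalRing.maximalIdeal_eq_bot]
      ext a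
      show g a = 0 ↔ _
      simp only [g, AlgHom.comp_apply, Ideal.Quotient.mkₐ_eq_mk]
      rw [map_eq_zero, Ideal.Quotient.eq_zero_iff_mem]
    rw [Over.comp_left, Scheme.Hom.comp_apply, hp]
    show (iA.hom.left ≫ iA.inv.left) z = z
    rw [← Over.comp_left, Iso.hom_inv_id]
    rfl
  let x₀ : SpA k' L ⟶ K := 1
  rw [connectedSpace_iff_connectedComponent]
  refine ⟨x₀.left (IsLocalRing.closedPoint L), Set.eq_univ_of_univ_subset ?_⟩
  rw [← closure_closedPoints]
  refine closure_minimal (fun z hz => ?_) isClosed_connectedComponent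
  obtain ⟨x, rfl⟩ := hclosed z hz
  rw [hjoin x₀ x]
  exact mem_connectedComponent

end Groth.Agent.WeilAff
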