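import Groth.Agent.WeilAff.Alg

/-!
The Weil restriction of an affine scheme and the counit.
-/

set_option autoImplicit false
set_option backward.isDefEq.respectTransparency false

universe u

open CategoryTheory AlgebraicGeometry TensorProduct

noncomputable section

namespace Groth.Agent.WeilAff

variable (B B' : Type u) [CommRing B] [CommRing B'] [Algebra B B']

/-- base change -/
abbrev bc : Over (Spec (CommRingCat.of B)) ⥤ Over (Spec (CommRingCat.of B')) :=
  Over.pullback (Spec.map (CommRingCat.ofHom (algebraMap B B')))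

/-- spectra over `B` -/
abbrev SpR (T : Type u) [CommRing T] [Algebra B T] : Over (Spec (CommRingCat.of B)) :=
  Over.mk (Spec.map (CommRingCat.ofHom (algebraMap B T)))

/-- spectra over `B'` -/
abbrev SpA (D : Type u) [CommRing D] [Algebra B' D] : Over (Spec (CommRingCat.of B')) :=
  Over.mk (Spec.map (CommRingCat.ofHom (algebraMap B' D)))

variable {B}

/-- the morphism of an algebra map -/
def spMap {T T' : Type u} [CommRing T] [Algebra B T] [CommRing T'] [Algebra B T'] (ψ : T →ₐ[B] T') :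
    SpR B T' ⟶ SpR B T :=
  Over.homMk (Spec.map (CommRingCat.ofHom ψ.toRingHom)) (by
    show Spec.map _ ≫ Spec.map _ = Spec.map _
    rw [← Spec.map_comp, ← CommRingCat.ofHom_comp]
    congr 2
    exact ψ.comp_algebraMap)

theorem spMap_bijective (T T' : Type u) [CommRing T] [Algebra B T] [CommRing T'] [Algebra B T'] :
    Function.Bijective (spMap : (T →ₐ[B] T') → _) := by
  refine ⟨fun a b h => ?_, fun v => ?_⟩
  · exact AlgHom.ext fun x => RingHom.congr_fun
      (congrArg CommRingCat.Hom.hom (Spec.map_injective (congrArg CommaMorphism.left h))) x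
  · obtain ⟨f, hf⟩ := Spec.map_surjective v.left
    have hw : Spec.map f ≫ Spec.map (CommRingCat.ofHom (algebraMap B T)) = Spec.map (CommRingCat.ofHom (algebraMap B T')) :=
      hf ▸ Over.w v
    rw [← Spec.map_comp] at hw
    have hc := congrArg CommRingCat.Hom.hom (Spec.map_injective hw)
    exact ⟨{ f.hom with commutes' := fun r => RingHom.congr_fun hc r }, Over.OverMorphism.ext hf⟩

/-- the base change of a spectrum -/
def bcSpIso (T : Type u) [CommRing T] [Algebra B T] :
    ((bc B B').obj (SpR B T)).left ≅ Spec (CommRingCat.of (T ⊗[B] B')) :=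
  pullbackSpecIso B T B'

variable {B'}

section
variable {D : Type u} [CommRing D] [Algebra B D] [Algebra B' D] [IsScalarTower B B' D]
  {T : Type u} [CommRing T] [Algebra B T]

/-- the morphism of a point -/
def toMor (φ : D →ₐ[B] T ⊗[B] B') (h : IsPt D T φ) : (bc B B').obj (SpR B T) ⟶ SpA B' D :=
  Over.homMk ((bcSpIso B' T).hom ≫ Spec.map (CommRingCat.ofHom φ.toRingHom)) (by
    show (_ ≫ _) ≫ Spec.map _ = Limits.pullback.snd _ _
    rw [Category.assoc, ← Spec.map_comp, ← CommRingCat.ofHom_comp]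
    refine Eq.trans ?_ (pullbackSpecIso_hom_snd B T B')
    congr 3
    exact RingHom.ext h)

theorem toMor_left (φ : D →ₐ[B] T ⊗[B] B') (h : IsPt D T φ) :
    (toMor φ h).left = (bcSpIso B' T).hom ≫ Spec.map (CommRingCat.ofHom φ.toRingHom) := rfl

theorem toMor_congr {φ φ' : D →ₐ[B] T ⊗[B] B'} (e : φ = φ') {h : IsPt D T φ} {h' : IsPt D T φ'} :
    toMor φ h = toMor φ' h' := by subst e; rfl

theorem toMor_injective {φ φ' : D →ₐ[B] T ⊗[B] B'} {h : IsPt D T φ} {h' : IsPt D T φ'}
    (e : toMor φ h = toMor φ' h') : φ = φ' := by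
  have e1 : (bcSpIso B' T).hom ≫ Spec.map (CommRingCat.ofHom φ.toRingHom) =
      (bcSpIso B' T).hom ≫ Spec.map (CommRingCat.ofHom φ'.toRingHom) := congrArg CommaMorphism.left e
  rw [Iso.cancel_iso_hom_left] at e1
  exact AlgHom.ext fun x => RingHom.congr_fun (congrArg CommRingCat.Hom.hom (Spec.map_injective e1)) x

theorem toMor_surjective (v : (bc B B').obj (SpR B T) ⟶ SpA B' D) : ∃ φ h, toMor φ h = v := by
  obtain ⟨f, hf⟩ := Spec.map_surjective ((bcSpIso B' T).inv ≫ v.left)
  have hA : ∀ a, f.hom (algebraMap B' D a) = (1 : T) ⊗ₜ[B] a := by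
    have hw : v.left ≫ Spec.map (CommRingCat.ofHom (algebraMap B' D)) = Limits.pullback.snd _ _ := Over.w v
    have h1 : Spec.map f ≫ Spec.map (CommRingCat.ofHom (algebraMap B' D)) =
        Spec.map (CommRingCat.ofHom (R := B') (S := T ⊗[B] B') Algebra.TensorProduct.includeRight.toRingHom) := by
      rw [hf, Category.assoc, hw]
      exact pullbackSpecIso_inv_snd B T B'
    rw [← Spec.map_comp] at h1
    exact fun a => RingHom.congr_fun (congrArg CommRingCat.Hom.hom (Spec.map_injective h1)) a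
  refine ⟨{ f.hom with commutes' := fun r => ?_ }, hA, Over.OverMorphism.ext ?_⟩
  · show f.hom (algebraMap B D r) = _
    rw [IsScalarTower.algebraMap_apply B B' D, hA]
    exact ((Algebra.TensorProduct.includeRight : B' →ₐ[B] T ⊗[B] B').commutes r)
  · rw [toMor_left]
    show _ ≫ Spec.map f = v.left
    rw [hf, Iso.hom_inv_id_assoc]

theorem map_spMap_left {T' : Type u} [CommRing T'] [Algebra B T'] (ψ : T →ₐ[B] T') :
    ((bc B B').map (spMap ψ)).left =
      (bcSpIso B' T').hom ≫ Spec.map (CommRingCat.ofHom (bcMap (A := B') ψ).toRingHom) ≫ (bcSpIso B' T).inv := by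
  rw [← Iso.inv_comp_eq]
  apply Limits.pullback.hom_ext
  · have e1 : ((bc B B').map (spMap ψ)).left ≫ Limits.pullback.fst (SpR B T).hom _ =
        Limits.pullback.fst (SpR B T').hom (Spec.map (CommRingCat.ofHom (algebraMap B B'))) ≫ (spMap ψ).left := by
      simp only [Over.pullback_map_left]
      exact Limits.pullback.lift_fst _ _ _
    rw [Category.assoc]
    erw [e1]
    show (bcSpIso B' T').inv ≫ _ = _
    rw [← Category.assoc, Category.assoc (Spec.map _)]
    erw [pullbackSpecIso_inv_fst B T' B', pullbackSpecIso_inv_fst B T B']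
    show Spec.map _ ≫ Spec.map _ = Spec.map _ ≫ Spec.map _
    rw [← Spec.map_comp, ← Spec.map_comp]
    congr 1
  · have e1 : ((bc B B').map (spMap ψ)).left ≫ Limits.pullback.snd (SpR B T).hom _ =
        Limits.pullback.snd (SpR B T').hom (Spec.map (CommRingCat.ofHom (algebraMap B B'))) := by
      simp only [Over.pullback_map_left]
      exact Limits.pullback.lift_snd _ _ _
    rw [Category.assoc]
    erw [e1]
    rw [Category.assoc (Spec.map _)]
    erw [pullbackSpecIso_inv_snd B T' B', pullbackSpecIso_inv_snd B T B']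
    rw [← Spec.map_comp]
    congr 1
    ext a
    show (1 : T') ⊗ₜ[B] a = bcMap ψ ((1 : T) ⊗ₜ[B] a)
    simp

theorem map_spMap_toMor {T' : Type u} [CommRing T'] [Algebra B T'] (ψ : T →ₐ[B] T') (φ : D →ₐ[B] T ⊗[B] B')
    (h : IsPt D T φ) : (bc B B').map (spMap ψ) ≫ toMor φ h = toMor ((bcMap ψ).comp φ) (h.map ψ) := by
  apply Over.OverMorphism.ext
  rw [Over.comp_left, map_spMap_left, toMor_left, toMor_left]
  simp only [Category.assoc, Iso.inv_hom_id_assoc, ← Spec.map_comp, ← CommRingCat.ofHom_comp]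
  rfl

end

theorem exists_iso_SpR (Z : Over (Spec (CommRingCat.of B))) [IsAffine Z.left] :
    ∃ (T : Type u) (_ : CommRing T) (_ : Algebra B T), Nonempty (Z ≅ SpR B T) := by
  obtain ⟨f, hf⟩ := Spec.map_surjective (Z.left.isoSpec.inv ≫ Z.hom)
  letI : Algebra B Γ(Z.left, ⊤) := f.hom.toAlgebra
  refine ⟨Γ(Z.left, ⊤), inferInstance, inferInstance, ⟨Over.isoMk Z.left.isoSpec ?_⟩⟩
  show Z.left.isoSpec.hom ≫ Spec.map f = Z.hom
  rw [hf, Iso.hom_inv_id_assoc]

section

variable {D : Type u} [CommRing D] [Algebra B D] [Algebra B' D] [IsScalarTower B B' D]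
  {W : Type u} [CommRing W] [Algebra B W] {F : D →ₐ[B] W ⊗[B] B'}

theorem rep_bijective (hW : IsWRes D W F) (Z : Over (Spec (CommRingCat.of B))) :
    Function.Bijective fun h : Z ⟶ SpR B W => (bc B B').map h ≫ toMor F hW.isPt := by
  have haff : ∀ (Z : Over (Spec (CommRingCat.of B))), IsAffine Z.left →
      Function.Bijective fun h : Z ⟶ SpR B W => (bc B B').map h ≫ toMor F hW.isPt := by
    intro Z hZ
    obtain ⟨T, _, _, ⟨i⟩⟩ := exists_iso_SpR Z
    have hT : Function.Bijective fun h : SpR B T ⟶ SpR B W => (bc B B').map h ≫ toMor F hW.isPt := by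
      refine ⟨fun a b e => ?_, fun v => ?_⟩
      · obtain ⟨ψa, rfl⟩ := (spMap_bijective W T).2 a
        obtain ⟨ψb, rfl⟩ := (spMap_bijective W T).2 b
        simp only [map_spMap_toMor] at e
        rw [hW.eq_of (toMor_injective e)]
      · obtain ⟨φ, hφ, rfl⟩ := toMor_surjective v
        obtain ⟨ψ, hψ, -⟩ := hW.existsUnique T φ hφ
        exact ⟨spMap ψ, (map_spMap_toMor ψ F hW.isPt).trans (toMor_congr hψ)⟩
    refine ⟨fun a b e => ?_, fun v => ?_⟩
    · rw [← cancel_epi i.inv]
      refine hT.1 ?_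
      simp only [Functor.map_comp, Category.assoc]
      exact congrArg ((bc B B').map i.inv ≫ ·) e
    · obtain ⟨h, hh⟩ := hT.2 ((bc B B').map i.inv ≫ v)
      refine ⟨i.hom ≫ h, ?_⟩
      simp only [Functor.map_comp, Category.assoc] at hh ⊢
      rw [hh, ← Category.assoc, ← Functor.map_comp, i.hom_inv_id, CategoryTheory.Functor.map_id, Category.id_comp]
  have hinj : ∀ (Z : Over (Spec (CommRingCat.of B))),
      Function.Injective fun h : Z ⟶ SpR B W => (bc B B').map h ≫ toMor F hW.isPt := by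
    intro Z a b e
    apply Over.OverMorphism.ext
    refine Scheme.Cover.hom_ext Z.left.affineCover _ _ fun i => ?_
    let j : Over.mk (Z.left.affineCover.f i ≫ Z.hom) ⟶ Z := Over.homMk (Z.left.affineCover.f i) rfl
    have := (haff (Over.mk (Z.left.affineCover.f i ≫ Z.hom)) (inferInstanceAs (IsAffine (Z.left.affineCover.X i)))).1
      (a₁ := j ≫ a) (a₂ := j ≫ b) (by simp only [Functor.map_comp, Category.assoc]; exact congrArg ((bc B B').map j ≫ ·) e)
    exact congrArg CommaMorphism.left this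
  refine ⟨hinj Z, fun g => ?_⟩
  let 𝒰 := Z.left.affineCover
  let U : ∀ i, Over (Spec (CommRingCat.of B)) := fun i => Over.mk (𝒰.f i ≫ Z.hom)
  let j : ∀ i, U i ⟶ Z := fun i => Over.homMk (𝒰.f i) rfl
  choose h hh using fun i => (haff (U i) (inferInstanceAs (IsAffine (𝒰.X i)))).2 ((bc B B').map (j i) ≫ g)
  have hglue : ∀ x y, Limits.pullback.fst (𝒰.f x) (𝒰.f y) ≫ (h x).left =
      Limits.pullback.snd (𝒰.f x) (𝒰.f y) ≫ (h y).left := by
    intro x y
    let V : Over (Spec (CommRingCat.of B)) := Over.mk (Limits.pullback.fst (𝒰.f x) (𝒰.f y) ≫ 𝒰.f x ≫ Z.hom)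
    let p : V ⟶ U x := Over.homMk (Limits.pullback.fst (𝒰.f x) (𝒰.f y)) rfl
    let q : V ⟶ U y := Over.homMk (Limits.pullback.snd (𝒰.f x) (𝒰.f y))
      (show _ ≫ 𝒰.f y ≫ Z.hom = _ ≫ 𝒰.f x ≫ Z.hom by rw [Limits.pullback.condition_assoc])
    have hpq : p ≫ j x = q ≫ j y := Over.OverMorphism.ext Limits.pullback.condition
    have := hinj V (a₁ := p ≫ h x) (a₂ := q ≫ h y) (by
      simp only [Functor.map_comp, Category.assoc] at hh ⊢
      rw [hh, hh, ← Category.assoc, ← Category.assoc, ← Functor.map_comp, ← Functor.map_comp, hpq])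
    exact congrArg CommaMorphism.left this
  let t : Z.left ⟶ Spec (CommRingCat.of W) := Scheme.Cover.glueMorphisms 𝒰 (fun i => (h i).left) hglue
  have ht : ∀ i, 𝒰.f i ≫ t = (h i).left := fun i => Scheme.Cover.ι_glueMorphisms 𝒰 _ hglue i
  have htw : t ≫ (SpR B W).hom = Z.hom := Scheme.Cover.hom_ext 𝒰 _ _ fun i => by
    rw [← Category.assoc, ht i]; exact Over.w (h i)
  refine ⟨Over.homMk t htw, ?_⟩
  have hcov : ∀ i, (bc B B').map (j i) ≫ (bc B B').map (Over.homMk t htw : Z ⟶ SpR B W) ≫ toMor F hW.isPt =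
      (bc B B').map (j i) ≫ g := fun i => by
    rw [← hh i, ← Category.assoc, ← Functor.map_comp]
    congr 2
    exact Over.OverMorphism.ext (ht i)
  apply Over.OverMorphism.ext
  refine Scheme.Cover.hom_ext (Scheme.Pullback.openCoverOfLeft 𝒰 Z.hom (Spec.map (CommRingCat.ofHom (algebraMap B B')))) _ _ fun i => ?_
  have e := congrArg CommaMorphism.left (hcov i)
  have ej : ((bc B B').map (j i)).left =
      (Scheme.Pullback.openCoverOfLeft 𝒰 Z.hom (Spec.map (CommRingCat.ofHom (algebraMap B B')))).f i := by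
    apply Limits.pullback.hom_ext <;> simp only [Over.pullback_map_left]
    · erw [Limits.pullback.lift_fst]
    · erw [Limits.pullback.lift_snd]
  simp only [Over.comp_left, ej] at e
  exact e

theorem exists_rep (hW : IsWRes D W F) {X' : Over (Spec (CommRingCat.of B'))} (iX : X' ≅ SpA B' D)
    {R : Over (Spec (CommRingCat.of B))} (e : ∀ Y : Over (Spec (CommRingCat.of B)), (Y ⟶ R) ≃ ((bc B B').obj Y ⟶ X'))
    (he : ∀ (Y Z : Over (Spec (CommRingCat.of B))) (h : Y ⟶ Z) (g : Z ⟶ R), e Y (h ≫ g) = (bc B B').map h ≫ e Z g) :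
    ∃ i : R ≅ SpR B W, e R (𝟙 R) = (bc B B').map i.hom ≫ toMor F hW.isPt ≫ iX.inv := by
  obtain ⟨t, ht⟩ := (rep_bijective hW R).2 (e R (𝟙 R) ≫ iX.hom)
  replace ht : (bc B B').map t ≫ toMor F hW.isPt = e R (𝟙 R) ≫ iX.hom := ht
  let s : SpR B W ⟶ R := (e _).symm (toMor F hW.isPt ≫ iX.inv)
  have hts : t ≫ s = 𝟙 R := (e R).injective (by
    rw [he, Equiv.apply_symm_apply, ← Category.assoc, ht, Category.assoc, iX.hom_inv_id, Category.comp_id])
  have hst : s ≫ t = 𝟙 _ := (rep_bijective hW _).1 (by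
    show (bc B B').map (s ≫ t) ≫ _ = (bc B B').map (𝟙 _) ≫ _
    rw [Functor.map_comp, Category.assoc, ht, ← Category.assoc, ← he, Category.comp_id, Equiv.apply_symm_apply,
      Category.assoc, iX.inv_hom_id, Category.comp_id, CategoryTheory.Functor.map_id, Category.id_comp])
  exact ⟨⟨t, s, hts, hst⟩, by rw [← Category.assoc, ht, Category.assoc, iX.hom_inv_id, Category.comp_id]⟩

end

theorem exists_iso_SpA (X' : Over (Spec (CommRingCat.of B'))) [IsAffine X'.left] [LocallyOfFiniteType X'.hom] :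
    ∃ (D : Type u) (_ : CommRing D) (_ : Algebra B' D) (_ : Algebra B D),
      IsScalarTower B B' D ∧ Algebra.FiniteType B' D ∧ Nonempty (X' ≅ SpA B' D) ∧
      (Smooth X'.hom → Algebra.Smooth B' D) ∧
      (Surjective X'.hom → Function.Surjective (PrimeSpectrum.comap (algebraMap B' D))) := by
  obtain ⟨f, hf⟩ := Spec.map_surjective (X'.left.isoSpec.inv ≫ X'.hom)
  letI : Algebra B' Γ(X'.left, ⊤) := f.hom.toAlgebra
  letI : Algebra B Γ(X'.left, ⊤) := (f.hom.comp (algebraMap B B')).toAlgebra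
  refine ⟨Γ(X'.left, ⊤), inferInstance, inferInstance, inferInstance, IsScalarTower.of_algebraMap_eq fun _ => rfl,
    RingHom.finiteType_algebraMap.1 ((HasRingHomProperty.Spec_iff (P := @LocallyOfFiniteType)).1 (hf ▸ inferInstance)),
    ⟨Over.isoMk X'.left.isoSpec (by show X'.left.isoSpec.hom ≫ Spec.map f = X'.hom; rw [hf, Iso.hom_inv_id_assoc])⟩,
    fun hs => RingHom.smooth_algebraMap.1 ((HasRingHomProperty.Spec_iff (P := @Smooth)).1 (hf ▸ inferInstance)),
    fun hs => ?_⟩
  have : Surjective (Spec.map f) := hf ▸ inferInstance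
  exact this.surj

theorem smooth_surjective_Spec_map {S T : Type u} [CommRing S] [CommRing T] (f : S →+* T) (h1 : f.FormallySmooth)
    (h2 : f.FinitePresentation) (h3 : Function.Surjective (PrimeSpectrum.comap f)) :
    Smooth (Spec.map (CommRingCat.ofHom f)) ∧ Surjective (Spec.map (CommRingCat.ofHom f)) :=
  ⟨(HasRingHomProperty.Spec_iff (P := @Smooth)).2 (RingHom.smooth_def.2 ⟨h1, h2⟩), ⟨h3⟩⟩

theorem counit_smooth_surjective [IsNoetherianRing B] [IsNoetherianRing B'] [Module.Finite B B'] [Module.Flat B B']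
    (X' : Over (Spec (CommRingCat.of B'))) [IsAffine X'.left] [LocallyOfFiniteType X'.hom] [Smooth X'.hom]
    [Surjective X'.hom] (R : Over (Spec (CommRingCat.of B)))
    (e : ∀ Y : Over (Spec (CommRingCat.of B)), (Y ⟶ R) ≃ ((bc B B').obj Y ⟶ X'))
    (he : ∀ (Y Z : Over (Spec (CommRingCat.of B))) (h : Y ⟶ Z) (g : Z ⟶ R), e Y (h ≫ g) = (bc B B').map h ≫ e Z g) :
    Smooth (e R (𝟙 R)).left ∧ Surjective (e R (𝟙 R)).left := by
  haveI : Module.FinitePresentation B B' := Module.finitePresentation_of_finite B B'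
  haveI : Module.Projective B B' := Module.Flat.projective_of_finitePresentation
  obtain ⟨D, _, _, _, _, _, ⟨iX⟩, hs, hsur⟩ := exists_iso_SpA (B := B) X'
  haveI := hs inferInstance
  obtain ⟨W, _, _, F, hW⟩ := exists_wres (R := B) (A := B') D
  obtain ⟨i, hi⟩ := exists_rep hW iX e he
  obtain ⟨h1, h2⟩ := smooth_surjective_Spec_map _ (counit_formallySmooth hW) (counit_finitePresentation hW)
    (counit_surjective hW (hsur inferInstance))
  rw [hi]
  simp only [Over.comp_left, toMor_left]
  constructor <;> infer_instance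

end Groth.Agent.WeilAff
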