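import Groth.Agent.WeilAff.Alg

/-!
Connectedness of the Weil restriction of a smooth geometrically connected affine scheme along a finite extension of
fields: points are joined by lifting paths.
-/

set_option autoImplicit false
set_option backward.isDefEq.respectTransparency false
set_option maxHeartbeats 1000000
set_option synthInstance.maxHeartbeats 200000

universe u

open TensorProduct Polynomial

noncomputable section

namespace Groth.Agent.WeilAff

section Red

variable {k k' : Type u} [Field k] [Field k'] [Algebra k k'] {K : Type u} [Field K] [Algebra k K]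
  (T : Type u) [CommRing T] [Algebra k T] [Algebra K T] [IsScalarTower k K T]

/-- the constants -/
abbrev cmap : K ⊗[k] k' →ₐ[k] T ⊗[k] k' := bcMap (IsScalarTower.toAlgHom k K T)

/-- the reduction to the product over all embeddings -/
def red : T ⊗[k] k' →ₐ[k] ((k' →ₐ[k] K) → T) :=
  AlgHom.pi fun σ => mu ((IsScalarTower.toAlgHom k K T).comp σ)

theorem red_tmul (t : T) (a : k') (σ : k' →ₐ[k] K) : red (K := K) T (t ⊗ₜ[k] a) σ = t * algebraMap K T (σ a) :=
  mu_tmul _ t a

theorem red_cmap (z : K ⊗[k] k') (σ : k' →ₐ[k] K) : red (K := K) T (cmap (K := K) T z) σ = algebraMap K T (red (K := K) K z σ) := by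
  induction z with
  | zero => simp
  | tmul c a =>
    rw [show cmap (K := K) T (c ⊗ₜ[k] a) = algebraMap K T c ⊗ₜ[k] a from Algebra.TensorProduct.map_tmul _ _ c a, red_tmul,
      red_tmul, map_mul, Algebra.algebraMap_self, RingHom.id_apply]
  | add x y hx hy => simp only [map_add, Pi.add_apply, hx, hy]

variable [Module.Finite k k'] [IsAlgClosed K]

/-- the kernel of the reduction is nilpotent -/
theorem isNilpotent_ker_red : IsNilpotent (RingHom.ker (red (k := k) (k' := k') (K := K) K).toRingHom) := by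
  haveI : IsArtinianRing (K ⊗[k] k') := IsArtinianRing.of_finite K _
  obtain ⟨n, hn⟩ := IsNoetherianRing.isNilpotent_nilradical (K ⊗[k] k')
  refine ⟨n, le_bot_iff.1 ((Ideal.pow_right_mono ?_ n).trans hn.le)⟩
  intro z hz
  rw [nilradical_eq_sInf, Submodule.mem_sInf]
  intro p hp
  haveI : Ideal.IsPrime p := hp
  haveI : Ideal.IsMaximal p := IsArtinianRing.isMaximal_of_isPrime p
  have hb : Function.Bijective (algebraMap K ((K ⊗[k] k') ⧸ p)) := IsAlgClosed.algebraMap_bijective_of_isIntegral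
  let μ : K ⊗[k] k' →ₐ[K] K :=
    (AlgEquiv.ofBijective (Algebra.ofId K ((K ⊗[k] k') ⧸ p)) hb).symm.toAlgHom.comp (Ideal.Quotient.mkₐ K p)
  have hμ : (μ.restrictScalars k) = mu ((μ.restrictScalars k).comp Algebra.TensorProduct.includeRight) := by
    refine Algebra.TensorProduct.ext' fun c a => ?_
    rw [mu_tmul]
    show μ (c ⊗ₜ[k] a) = c * μ ((1 : K) ⊗ₜ[k] a)
    rw [← smul_eq_mul, ← map_smul, TensorProduct.smul_tmul', smul_eq_mul, mul_one]
  have h0 : μ z = 0 := by
    have h1 := congrFun (show red (K := K) K z = 0 from hz) ((μ.restrictScalars k).comp Algebra.TensorProduct.includeRight)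
    rw [show red (K := K) K z _ = mu ((IsScalarTower.toAlgHom k K K).comp
      ((μ.restrictScalars k).comp Algebra.TensorProduct.includeRight)) z from rfl] at h1
    rw [show (IsScalarTower.toAlgHom k K K).comp ((μ.restrictScalars k).comp Algebra.TensorProduct.includeRight) =
      (μ.restrictScalars k).comp Algebra.TensorProduct.includeRight from AlgHom.ext fun x => rfl, ← hμ] at h1
    exact h1
  refine Ideal.Quotient.eq_zero_iff_mem.1 ?_
  have h2 : (AlgEquiv.ofBijective (Algebra.ofId K ((K ⊗[k] k') ⧸ p)) hb).symm (Ideal.Quotient.mk p z) = 0 := h0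
  simpa using h2

omit [IsAlgClosed K] in
/-- separating the embeddings -/
theorem exists_sep (σ : k' →ₐ[k] K) :
    ∃ z : K ⊗[k] k', red (K := K) K z σ = 1 ∧ ∀ τ, τ ≠ σ → red (K := K) K z τ = 0 := by
  classical
  haveI : Fintype (k' →ₐ[k] K) := Fintype.ofFinite _
  have h : ∀ τ, τ ≠ σ → ∃ z : K ⊗[k] k', red (K := K) K z σ = 1 ∧ red (K := K) K z τ = 0 := fun τ hτ => by
    obtain ⟨a, ha⟩ : ∃ a, τ a ≠ σ a := by
      by_contra hcon
      simp only [not_exists, not_not] at hcon
      exact hτ (AlgHom.ext hcon)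
    refine ⟨(σ a - τ a)⁻¹ ⊗ₜ[k] a - ((σ a - τ a)⁻¹ * τ a) ⊗ₜ[k] 1, ?_, ?_⟩ <;>
      simp only [map_sub, Pi.sub_apply, red_tmul, map_one, mul_one, Algebra.algebraMap_self, RingHom.id_apply]
    · rw [← mul_sub, inv_mul_cancel₀ (sub_ne_zero.2 (Ne.symm ha))]
    · rw [sub_self]
  choose z hz1 hz2 using h
  refine ⟨∏ τ, if hτ : τ ≠ σ then z τ hτ else 1, ?_, fun τ hτ => ?_⟩
  · rw [map_prod, Finset.prod_apply]
    refine Finset.prod_eq_one fun τ _ => ?_
    split_ifs with hτ
    · exact hz1 τ hτ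
    · simp
  · rw [map_prod, Finset.prod_apply]
    exact Finset.prod_eq_zero (Finset.mem_univ τ) (by rw [dif_pos hτ]; exact hz2 τ hτ)

omit [IsAlgClosed K] in
theorem red_surjective : Function.Surjective (red (k := k) (k' := k') (K := K) T) := by
  classical
  haveI : Fintype (k' →ₐ[k] K) := Fintype.ofFinite _
  choose e he1 he2 using fun σ : k' →ₐ[k] K => exists_sep σ
  intro f
  refine ⟨∑ σ, (f σ ⊗ₜ[k] 1) * cmap (K := K) T (e σ), funext fun τ => ?_⟩
  rw [map_sum, Finset.sum_apply, Finset.sum_eq_single τ]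
  · rw [map_mul, Pi.mul_apply, red_cmap, he1, map_one, mul_one, red_tmul, map_one, map_one, mul_one]
  · intro σ _ hσ
    rw [map_mul, Pi.mul_apply, red_cmap, he2 σ τ (Ne.symm hσ), map_zero, mul_zero]
  · exact fun h => absurd (Finset.mem_univ τ) h

omit [IsAlgClosed K] in
theorem ker_red_le : RingHom.ker (red (k := k) (k' := k') (K := K) T).toRingHom ≤
    (RingHom.ker (red (k := k) (k' := k') (K := K) K).toRingHom).map (cmap (K := K) T).toRingHom := by
  classical
  haveI : Fintype (k' →ₐ[k] K) := Fintype.ofFinite _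
  choose e he1 he2 using fun σ : k' →ₐ[k] K => exists_sep σ
  let r : T ⊗[k] k' → T ⊗[k] k' := fun z => z - ∑ σ, (red (K := K) T z σ ⊗ₜ[k] 1) * cmap (K := K) T (e σ)
  have hr : ∀ z, r z ∈ (RingHom.ker (red (k := k) (k' := k') (K := K) K).toRingHom).map (cmap (K := K) T).toRingHom := by
    intro z
    induction z with
    | zero => simp [r]
    | tmul t a =>
      have hmem : (1 : K) ⊗ₜ[k] a - ∑ σ : k' →ₐ[k] K, (σ a ⊗ₜ[k] 1) * e σ ∈
          RingHom.ker (red (k := k) (k' := k') (K := K) K).toRingHom := by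
        refine funext fun τ => ?_
        show red (K := K) K _ τ = 0
        rw [map_sub, Pi.sub_apply, map_sum, Finset.sum_apply, Finset.sum_eq_single τ]
        · rw [map_mul, Pi.mul_apply, he1, red_tmul, red_tmul]
          simp
        · intro σ _ hσ
          rw [map_mul, Pi.mul_apply, he2 σ τ (Ne.symm hσ), mul_zero]
        · exact fun h => absurd (Finset.mem_univ τ) h
      have h2 : r (t ⊗ₜ[k] a) = (t ⊗ₜ[k] 1) *
          cmap (K := K) T ((1 : K) ⊗ₜ[k] a - ∑ σ : k' →ₐ[k] K, (σ a ⊗ₜ[k] 1) * e σ) := by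
        simp only [r, map_sub, map_sum, map_mul, mul_sub, Finset.mul_sum, red_tmul, Algebra.TensorProduct.map_tmul,
          AlgHom.id_apply, map_one, Algebra.TensorProduct.tmul_mul_tmul, mul_one, one_mul,
          IsScalarTower.coe_toAlgHom']
        simp only [← mul_assoc, Algebra.TensorProduct.tmul_mul_tmul, mul_one]
      rw [h2]
      exact Ideal.mul_mem_left _ _ (Ideal.mem_map_of_mem _ hmem)
    | add x y hx hy =>
      have : r (x + y) = r x + r y := by
        simp only [r, map_add, Pi.add_apply, TensorProduct.add_tmul, add_mul, Finset.sum_add_distrib]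
        abel
      rw [this]
      exact add_mem hx hy
  intro z hz
  have h0 : ∀ σ, red (K := K) T z σ = 0 := fun σ => congrFun (show red (K := K) T z = 0 from hz) σ
  simpa [r, h0] using hr z

theorem isNilpotent_ker_red' : IsNilpotent (RingHom.ker (red (k := k) (k' := k') (K := K) T).toRingHom) := by
  obtain ⟨n, hn⟩ := isNilpotent_ker_red (k := k) (k' := k') (K := K)
  refine ⟨n, le_bot_iff.1 ((Ideal.pow_right_mono (ker_red_le T) n).trans ?_)⟩
  rw [← Ideal.map_pow, hn]
  exact le_of_eq Ideal.map_bot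

end Red

section Points

variable {k k' : Type u} [Field k] [Field k'] [Algebra k k'] [Module.Finite k k'] {K : Type u} [Field K] [Algebra k K]
  [IsAlgClosed K]
  {D : Type u} [CommRing D] [Algebra k D] [Algebra k' D] [IsScalarTower k k' D] [Algebra.FormallySmooth k' D]
  {W : Type u} [CommRing W] [Algebra k W] {F : D →ₐ[k] W ⊗[k] k'}

omit [IsAlgClosed K] [Module.Finite k k'] [Algebra k K] in
/-- a ring morphism lifting gives a point -/
theorem exists_pt {T : Type u} [CommRing T] [Algebra k T] (hW : IsWRes D W F) (φ : D →+* T ⊗[k] k')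
    (hφ : φ.comp (algebraMap k' D) = (Algebra.TensorProduct.includeRight : k' →ₐ[k] T ⊗[k] k').toRingHom) :
    ∃ ψ : W →ₐ[k] T, ∀ d, bcMap ψ (F d) = φ d := by
  let φR : D →ₐ[k] T ⊗[k] k' :=
    { φ with
      commutes' := fun r => by
        show φ (algebraMap k D r) = _
        rw [IsScalarTower.algebraMap_apply k k' D]
        exact (RingHom.congr_fun hφ _).trans ((Algebra.TensorProduct.includeRight : k' →ₐ[k] T ⊗[k] k').commutes r) }
  obtain ⟨ψ, hψ, -⟩ := hW.existsUnique T φR fun a => RingHom.congr_fun hφ a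
  exact ⟨ψ, fun d => AlgHom.congr_fun hψ d⟩

/-- a compatible family on the reduction lifts -/
theorem exists_family {T : Type u} [CommRing T] [Algebra k T] [Algebra K T] [IsScalarTower k K T] (hW : IsWRes D W F)
    (g : (k' →ₐ[k] K) → (D →+* T)) (hg : ∀ σ a, g σ (algebraMap k' D a) = algebraMap K T (σ a)) :
    ∃ ψ : W →ₐ[k] T, ∀ d σ, red (K := K) T (bcMap ψ (F d)) σ = g σ d := by
  obtain ⟨φ, hφA, hφ⟩ := lift_point (A := k') (Algebra.TensorProduct.includeRight : k' →ₐ[k] T ⊗[k] k').toRingHom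
    (red (K := K) T).toRingHom (isNilpotent_ker_red' T) (RingHom.pi g) (RingHom.ext fun a => funext fun σ => by
      show g σ _ = red (K := K) T ((1 : T) ⊗ₜ[k] a) σ
      rw [red_tmul, one_mul, hg]) (fun d => red_surjective T _)
  obtain ⟨ψ, hψ⟩ := exists_pt hW φ hφA
  exact ⟨ψ, fun d σ => by rw [hψ]; exact congrFun (RingHom.congr_fun hφ d) σ⟩

variable (K) in
/-- the `K`-point -/
def pt (ψ : W →ₐ[k] K) : PrimeSpectrum (K ⊗[k] W) :=
  ⟨RingHom.ker (Algebra.TensorProduct.lift (AlgHom.id k K) ψ fun _ _ => Commute.all _ _).toRingHom,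
    RingHom.ker_isPrime _⟩

/-- two points in the same connected component -/
def Joined (ψ ψ' : W →ₐ[k] K) : Prop := connectedComponent (pt K ψ) = connectedComponent (pt K ψ')

omit [IsAlgClosed K] in
/-- members of a connected family are joined -/
theorem joined_of_family {T : Type u} [CommRing T] [Algebra k T] [Algebra K T] [IsScalarTower k K T]
    [PreconnectedSpace (PrimeSpectrum T)] (Ψ : W →ₐ[k] T) (t t' : T →ₐ[K] K) :
    Joined ((t.restrictScalars k).comp Ψ) ((t'.restrictScalars k).comp Ψ) := by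
  let g : K ⊗[k] W →ₐ[k] T := Algebra.TensorProduct.lift (IsScalarTower.toAlgHom k K T) Ψ fun _ _ => Commute.all _ _
  have hmem : ∀ s : T →ₐ[K] K, pt K ((s.restrictScalars k).comp Ψ) ∈ Set.range (PrimeSpectrum.comap g.toRingHom) := fun s => by
    refine ⟨⟨RingHom.ker s.toRingHom, RingHom.ker_isPrime _⟩, PrimeSpectrum.ext ?_⟩
    have h : (s.restrictScalars k).comp g =
        Algebra.TensorProduct.lift (AlgHom.id k K) ((s.restrictScalars k).comp Ψ) fun _ _ => Commute.all _ _ := by
      refine Algebra.TensorProduct.ext' fun c w => ?_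
      simp [g]
    show Ideal.comap g.toRingHom (RingHom.ker s.toRingHom) = RingHom.ker _
    rw [RingHom.comap_ker]
    exact congrArg (fun f : K ⊗[k] W →ₐ[k] K => RingHom.ker f.toRingHom) h
  exact (connectedComponent_eq ((isPreconnected_range (PrimeSpectrum.continuous_comap g.toRingHom)).subset_connectedComponent
    (hmem t) (hmem t')))

/-- deforming a point along a direction -/
theorem exists_deform {T : Type u} [CommRing T] [Algebra k T] [Algebra K T] [IsScalarTower k K T] (hW : IsWRes D W F)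
    (x : T) (N : Ideal (K ⊗[k] k')) (hN : IsNilpotent N) (j : ℕ) (ψ ψ' : W →ₐ[k] K)
    (h : ∀ d, bcMap ψ' (F d) - bcMap ψ (F d) ∈ N ^ (j + 1)) :
    ∃ Ψ : W →ₐ[k] T, ∀ d, bcMap Ψ (F d) - (cmap (K := K) T (bcMap ψ (F d)) +
      (x ⊗ₜ[k] (1 : k')) * cmap (K := K) T (bcMap ψ' (F d) - bcMap ψ (F d))) ∈
        (N ^ (j + 1 + 1)).map (cmap (K := K) T).toRingHom := by
  let c : K ⊗[k] k' →ₐ[k] T ⊗[k] k' := cmap T
  let I : Ideal (T ⊗[k] k') := (N ^ (j + 1 + 1)).map c.toRingHom
  let X1 : T ⊗[k] k' := x ⊗ₜ[k] (1 : k')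
  let δ : D → K ⊗[k] k' := fun d => bcMap ψ' (F d) - bcMap ψ (F d)
  let τf : D → (T ⊗[k] k') ⧸ I := fun d => Ideal.Quotient.mk I (c (bcMap ψ (F d)) + X1 * c (δ d))
  have hI : IsNilpotent I := by
    obtain ⟨n, hn⟩ := hN
    refine ⟨n, le_bot_iff.1 ?_⟩
    rw [show I = (N ^ (j + 1 + 1)).map c.toRingHom from rfl, ← Ideal.map_pow, ← pow_mul]
    refine (Ideal.map_mono (Ideal.pow_le_pow_right (n := (j + 1 + 1) * n) (m := n) ?_)).trans ?_
    · exact Nat.le_mul_of_pos_left _ (by omega)
    · rw [hn]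
      exact le_of_eq Ideal.map_bot
  let τ : D →+* (T ⊗[k] k') ⧸ I :=
    { toFun := τf
      map_one' := by simp only [τf, δ, map_one, sub_self, map_zero, mul_zero, add_zero]
      map_mul' := fun a b => by
        show Ideal.Quotient.mk I _ = Ideal.Quotient.mk I _ * Ideal.Quotient.mk I _
        rw [← map_mul, Ideal.Quotient.eq]
        have e : (c (bcMap ψ (F (a * b))) + X1 * c (δ (a * b))) -
            (c (bcMap ψ (F a)) + X1 * c (δ a)) * (c (bcMap ψ (F b)) + X1 * c (δ b)) =
            (X1 - X1 * X1) * c (δ a * δ b) := by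
          simp only [δ, map_mul, map_sub]
          ring
        rw [e]
        refine Ideal.mul_mem_left _ _ (Ideal.mem_map_of_mem _ ?_)
        exact Ideal.pow_le_pow_right (by omega : j + 1 + 1 ≤ (j + 1) + (j + 1))
          (pow_add N (j + 1) (j + 1) ▸ Ideal.mul_mem_mul (h a) (h b))
      map_zero' := by simp only [τf, δ, map_zero, sub_self, mul_zero, add_zero]
      map_add' := fun a b => by
        show Ideal.Quotient.mk I _ = Ideal.Quotient.mk I _ + Ideal.Quotient.mk I _
        rw [← map_add]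
        congr 1
        simp only [δ, map_sub, map_add]
        ring }
  obtain ⟨φ, hφA, hφ⟩ := lift_point (A := k') (Algebra.TensorProduct.includeRight : k' →ₐ[k] T ⊗[k] k').toRingHom
    (Ideal.Quotient.mk I) (by rwa [Ideal.mk_ker]) τ (RingHom.ext fun a => by
      show Ideal.Quotient.mk I (c (bcMap ψ (F (algebraMap k' D a))) + X1 * c (δ (algebraMap k' D a))) =
        Ideal.Quotient.mk I ((1 : T) ⊗ₜ[k] a)
      simp only [δ]
      rw [show F (algebraMap k' D a) = (1 : W) ⊗ₜ[k] a from hW.isPt a]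
      simp only [c, Algebra.TensorProduct.map_tmul, map_one, AlgHom.id_apply, sub_self, map_zero, mul_zero, add_zero]) (fun d => Ideal.Quotient.mk_surjective _)
  obtain ⟨Ψ, hΨ⟩ := exists_pt hW φ hφA
  refine ⟨Ψ, fun d => ?_⟩
  rw [hΨ]
  exact Ideal.Quotient.eq.1 (RingHom.congr_fun hφ d)

/-- congruent points are joined -/
theorem joined_of_congr (hW : IsWRes D W F) : ∀ (m j : ℕ),
    (RingHom.ker (red (k := k) (k' := k') (K := K) K).toRingHom) ^ (j + 1 + m) = ⊥ → ∀ ψ ψ' : W →ₐ[k] K,
    (∀ d, bcMap ψ' (F d) - bcMap ψ (F d) ∈ (RingHom.ker (red (k := k) (k' := k') (K := K) K).toRingHom) ^ (j + 1)) →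
    Joined ψ ψ' := by
  intro m
  induction m with
  | zero =>
    intro j hn ψ ψ' h
    rw [add_zero] at hn
    have : ψ = ψ' := hW.eq_of (AlgHom.ext fun d => by
      have h1 := h d
      rw [hn, Ideal.mem_bot, sub_eq_zero] at h1
      exact h1.symm)
    rw [this]; rfl
  | succ m ih =>
    intro j hn ψ ψ' h
    let N := RingHom.ker (red (k := k) (k' := k') (K := K) K).toRingHom
    obtain ⟨Ψ, hΨ⟩ := exists_deform (T := Polynomial K) hW Polynomial.X N isNilpotent_ker_red j ψ ψ' h
    have hmid : ∀ (r : K) (d : D),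
        bcMap (((Polynomial.aeval r).restrictScalars k).comp Ψ) (F d) -
          (bcMap ψ (F d) + (r ⊗ₜ[k] (1 : k')) * (bcMap ψ' (F d) - bcMap ψ (F d))) ∈ N ^ (j + 1 + 1) := by
      intro r d
      let ev : Polynomial K ⊗[k] k' →ₐ[k] K ⊗[k] k' := bcMap ((Polynomial.aeval r).restrictScalars k)
      have hevc : ∀ z, ev (cmap (K := K) (Polynomial K) z) = z := fun z => by
        induction z with
        | zero => simp only [map_zero]
        | tmul x a => simp [ev]
        | add x y hx hy => rw [map_add, map_add, hx, hy]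
      have h2 : (N ^ (j + 1 + 1)).map (cmap (K := K) (Polynomial K)).toRingHom ≤ (N ^ (j + 1 + 1)).comap ev.toRingHom :=
        Ideal.map_le_iff_le_comap.2 fun z hz => by
          show ev (cmap (K := K) (Polynomial K) z) ∈ N ^ (j + 1 + 1)
          rw [hevc]; exact hz
      have h3 : ev _ ∈ N ^ (j + 1 + 1) := h2 (hΨ d)
      have h5 : ev ((Polynomial.X : Polynomial K) ⊗ₜ[k] (1 : k')) = r ⊗ₜ[k] (1 : k') := by simp [ev]
      rw [map_sub, map_add, map_mul, hevc, hevc, h5] at h3
      have h4 : bcMap (((Polynomial.aeval r).restrictScalars k).comp Ψ) (F d) = ev (bcMap Ψ (F d)) := by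
        show _ = (ev.comp (bcMap Ψ)) (F d)
        rw [← Algebra.TensorProduct.map_comp, AlgHom.comp_id]
      rw [h4]
      exact h3
    have hn' : N ^ (j + 1 + 1 + m) = ⊥ := by rw [← hn]; congr 1; omega
    have j0 : Joined ψ (((Polynomial.aeval (0 : K)).restrictScalars k).comp Ψ) := ih (j + 1) hn' _ _ fun d => by
      have h1 := hmid 0 d
      rwa [TensorProduct.zero_tmul, zero_mul, add_zero] at h1
    have j1 : Joined (((Polynomial.aeval (1 : K)).restrictScalars k).comp Ψ) ψ' := ih (j + 1) hn' _ _ fun d => by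
      have h1 := hmid 1 d
      rw [← Algebra.TensorProduct.one_def, one_mul, add_sub_cancel] at h1
      rwa [← neg_mem_iff, neg_sub]
    exact (j0.trans (joined_of_family Ψ (Polynomial.aeval 0) (Polynomial.aeval 1))).trans j1

/-- points with the same reduction are joined -/
theorem joined_of_red (hW : IsWRes D W F) (ψ ψ' : W →ₐ[k] K)
    (h : ∀ d σ, red (K := K) K (bcMap ψ (F d)) σ = red (K := K) K (bcMap ψ' (F d)) σ) : Joined ψ ψ' := by
  obtain ⟨n, hn⟩ := isNilpotent_ker_red (k := k) (k' := k') (K := K)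
  refine joined_of_congr hW n 0 (le_bot_iff.1 ((Ideal.pow_le_pow_right (by omega)).trans hn.le)) ψ ψ' fun d => ?_
  rw [pow_one]
  refine funext fun σ => ?_
  show red (K := K) K _ σ = 0
  rw [map_sub, Pi.sub_apply, h, sub_self]

/-- all points are joined -/
theorem joined_all (hW : IsWRes D W F)
    (hD : ∀ σ : k' →ₐ[k] K, letI := σ.toRingHom.toAlgebra; PreconnectedSpace (PrimeSpectrum (K ⊗[k'] D)))
    (ψ ψ' : W →ₐ[k] K) : Joined ψ ψ' := by
  classical
  haveI : Fintype (k' →ₐ[k] K) := Fintype.ofFinite _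
  suffices h : ∀ (S : Finset (k' →ₐ[k] K)) (ψ ψ' : W →ₐ[k] K),
      (∀ σ, σ ∉ S → ∀ d, red (K := K) K (bcMap ψ (F d)) σ = red (K := K) K (bcMap ψ' (F d)) σ) → Joined ψ ψ' from
    h Finset.univ ψ ψ' fun σ hσ => absurd (Finset.mem_univ σ) hσ
  intro S
  induction S using Finset.induction with
  | empty => exact fun ψ ψ' h => joined_of_red hW ψ ψ' fun d σ => h σ (Finset.notMem_empty σ) d
  | @insert σ₀ S _ ih =>
    intro ψ ψ' h
    letI : Algebra k' K := σ₀.toRingHom.toAlgebra
    haveI : IsScalarTower k k' K := IsScalarTower.of_algebraMap_eq fun r => (σ₀.commutes r).symm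
    haveI := hD σ₀
    let x : (k' →ₐ[k] K) → D →+* K := fun σ =>
      ((Pi.evalRingHom (fun _ : k' →ₐ[k] K => K) σ).comp (red (K := K) K).toRingHom).comp ((bcMap ψ).comp F).toRingHom
    let x' : (k' →ₐ[k] K) → D →+* K := fun σ =>
      ((Pi.evalRingHom (fun _ : k' →ₐ[k] K => K) σ).comp (red (K := K) K).toRingHom).comp ((bcMap ψ').comp F).toRingHom
    have hxA : ∀ (ω : W →ₐ[k] K) σ a, red (K := K) K (bcMap ω (F (algebraMap k' D a))) σ = σ a := fun ω σ a => by
      rw [show F (algebraMap k' D a) = (1 : W) ⊗ₜ[k] a from hW.isPt a]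
      simp [red_tmul]
    let g : (k' →ₐ[k] K) → D →+* K ⊗[k'] D := fun σ =>
      if σ = σ₀ then (Algebra.TensorProduct.includeRight : D →ₐ[k'] K ⊗[k'] D).toRingHom
      else (algebraMap K (K ⊗[k'] D)).comp (x σ)
    obtain ⟨Ψ, hΨ⟩ := exists_family (T := K ⊗[k'] D) hW g fun σ a => by
      by_cases hσ : σ = σ₀
      · simp only [g, if_pos hσ]
        show (1 : K) ⊗ₜ[k'] algebraMap k' D a = _
        rw [Algebra.algebraMap_eq_smul_one, TensorProduct.tmul_smul, TensorProduct.smul_tmul', hσ]
        show (σ₀ a * 1) ⊗ₜ[k'] (1 : D) = _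
        rw [mul_one]; rfl
      · simp only [g, if_neg hσ]
        show algebraMap K _ (red (K := K) K (bcMap ψ (F (algebraMap k' D a))) σ) = _
        rw [hxA]
    have hpt : ∀ ω : W →ₐ[k] K, ∃ t : K ⊗[k'] D →ₐ[K] K,
        ∀ d, t ((1 : K) ⊗ₜ[k'] d) = red (K := K) K (bcMap ω (F d)) σ₀ := fun ω => by
      let y : D →ₐ[k'] K :=
        { ((Pi.evalRingHom (fun _ : k' →ₐ[k] K => K) σ₀).comp (red (K := K) K).toRingHom).comp ((bcMap ω).comp F).toRingHom with
          commutes' := fun a => hxA ω σ₀ a }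
      exact ⟨Algebra.TensorProduct.lift (Algebra.ofId K K) y fun _ _ => Commute.all _ _, fun d => by simp [y]⟩
    obtain ⟨t, ht⟩ := hpt ψ
    obtain ⟨t', ht'⟩ := hpt ψ'
    have hev : ∀ (s : K ⊗[k'] D →ₐ[K] K) d σ,
        red (K := K) K (bcMap ((s.restrictScalars k).comp Ψ) (F d)) σ = s (g σ d) := fun s d σ => by
      rw [← hΨ d σ]
      generalize F d = z
      induction z with
      | zero => simp
      | tmul w a =>
        simp only [Algebra.TensorProduct.map_tmul, AlgHom.comp_apply, AlgHom.restrictScalars_apply, AlgHom.id_apply,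
          red_tmul, map_mul, AlgHom.commutes]
      | add p q hp hq => simp only [map_add, Pi.add_apply, hp, hq]
    have j0 : Joined ψ ((t.restrictScalars k).comp Ψ) := joined_of_red hW _ _ fun d σ => by
      rw [hev]
      by_cases hσ : σ = σ₀
      · simp only [g, if_pos hσ]; exact hσ ▸ (ht d).symm
      · simp only [g, if_neg hσ, RingHom.comp_apply, AlgHom.commutes]
        rfl
    have j1 : Joined ((t'.restrictScalars k).comp Ψ) ψ' := ih _ _ fun σ hσ d => by
      rw [hev]
      by_cases hσ' : σ = σ₀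
      · simp only [g, if_pos hσ']; exact hσ' ▸ ht' d
      · simp only [g, if_neg hσ', RingHom.comp_apply, AlgHom.commutes]
        exact h σ (by simp [hσ, hσ']) d
    exact (j0.trans (joined_of_family Ψ t t')).trans j1

/-- a `K`-point exists -/
theorem exists_ptK [Algebra.FiniteType k' D] (hW : IsWRes D W F)
    (hsur : Function.Surjective (PrimeSpectrum.comap (algebraMap k' D))) : Nonempty (W →ₐ[k] K) := by
  choose y hy using fun σ : k' →ₐ[k] K => exists_point (L := K) hsur σ.toRingHom
  obtain ⟨ψ, -⟩ := exists_family (K := K) (T := K) hW y fun σ a => RingHom.congr_fun (hy σ) a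
  exact ⟨ψ⟩

/-- **the Weil restriction is geometrically connected** -/
theorem connectedSpace_wres [Algebra.FiniteType k' D] (hW : IsWRes D W F)
    (hsur : Function.Surjective (PrimeSpectrum.comap (algebraMap k' D)))
    (hD : ∀ σ : k' →ₐ[k] K, letI := σ.toRingHom.toAlgebra; PreconnectedSpace (PrimeSpectrum (K ⊗[k'] D))) :
    ConnectedSpace (PrimeSpectrum (K ⊗[k] W)) := by
  obtain ⟨ψ₀⟩ := exists_ptK (K := K) hW hsur
  haveI := hW.finiteType
  haveI : IsJacobsonRing (K ⊗[k] W) := isJacobsonRing_of_finiteType (A := K)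
  rw [connectedSpace_iff_connectedComponent]
  refine ⟨pt K ψ₀, ?_⟩
  have hcl : closure (closedPoints (PrimeSpectrum (K ⊗[k] W))) = Set.univ := closure_closedPoints
  refine Set.eq_univ_of_univ_subset (hcl ▸ closure_minimal ?_ isClosed_connectedComponent)
  intro x hx
  haveI : x.asIdeal.IsMaximal := PrimeSpectrum.isClosed_singleton_iff_isMaximal x |>.1 hx
  haveI : Algebra.FiniteType K ((K ⊗[k] W) ⧸ x.asIdeal) :=
    Algebra.FiniteType.of_surjective (Ideal.Quotient.mkₐ K x.asIdeal) Ideal.Quotient.mk_surjective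
  letI := Ideal.Quotient.field x.asIdeal
  haveI : Module.Finite K ((K ⊗[k] W) ⧸ x.asIdeal) := finite_of_finite_type_of_isJacobsonRing K _
  have hb : Function.Bijective (algebraMap K ((K ⊗[k] W) ⧸ x.asIdeal)) :=
    IsAlgClosed.algebraMap_bijective_of_isIntegral
  let e := AlgEquiv.ofBijective (Algebra.ofId K ((K ⊗[k] W) ⧸ x.asIdeal)) hb
  let μ : K ⊗[k] W →ₐ[K] K := e.symm.toAlgHom.comp (Ideal.Quotient.mkₐ K x.asIdeal)
  have hker : RingHom.ker μ.toRingHom = x.asIdeal := by
    ext z
    show e.symm (Ideal.Quotient.mk x.asIdeal z) = 0 ↔ _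
    rw [map_eq_zero_iff _ e.symm.injective, Ideal.Quotient.eq_zero_iff_mem]
  have hx' : pt K ((μ.restrictScalars k).comp Algebra.TensorProduct.includeRight) = x := by
    refine PrimeSpectrum.ext ?_
    show RingHom.ker _ = _
    rw [← hker]
    congr 1
    refine congrArg (fun f : K ⊗[k] W →ₐ[k] K => f.toRingHom) (?_ : _ = μ.restrictScalars k)
    refine Algebra.TensorProduct.ext' fun c w => ?_
    rw [Algebra.TensorProduct.lift_tmul]
    show c * μ ((1 : K) ⊗ₜ[k] w) = μ (c ⊗ₜ[k] w)
    rw [← smul_eq_mul, ← map_smul, TensorProduct.smul_tmul', smul_eq_mul, mul_one]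
  rw [← hx']
  rw [joined_all hW hD ψ₀ ((μ.restrictScalars k).comp Algebra.TensorProduct.includeRight)]
  exact mem_connectedComponent

end Points

end Groth.Agent.WeilAff
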