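import Groth.Agent.WeilAff.Geom

/-!
Applications of the affine Weil restriction.
-/

set_option autoImplicit false
set_option backward.isDefEq.respectTransparency false

universe u

open CategoryTheory AlgebraicGeometry TensorProduct

noncomputable section

namespace Groth.Agent.WeilAff

variable {B B' : Type u} [CommRing B] [CommRing B'] [Algebra B B']

/-- the map of spectra over `B'` -/
def saHom {D D' : Type u} [CommRing D] [Algebra B' D] [CommRing D'] [Algebra B' D'] (f : D' →ₐ[B'] D) :
    SpA B' D ⟶ SpA B' D' :=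
  Over.homMk (Spec.map (CommRingCat.ofHom f.toRingHom)) (by
    show Spec.map _ ≫ Spec.map _ = Spec.map _
    rw [← Spec.map_comp, ← CommRingCat.ofHom_comp]
    congr 2
    exact f.comp_algebraMap)

theorem saHom_surjective {D D' : Type u} [CommRing D] [Algebra B' D] [CommRing D'] [Algebra B' D']
    (v : SpA B' D ⟶ SpA B' D') : ∃ f, saHom f = v := by
  obtain ⟨f, hf⟩ := Spec.map_surjective v.left
  have hw : Spec.map f ≫ Spec.map (CommRingCat.ofHom (algebraMap B' D')) = Spec.map (CommRingCat.ofHom (algebraMap B' D)) :=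
    hf ▸ Over.w v
  rw [← Spec.map_comp] at hw
  have hc := congrArg CommRingCat.Hom.hom (Spec.map_injective hw)
  exact ⟨{ f.hom with commutes' := fun r => RingHom.congr_fun hc r }, Over.OverMorphism.ext hf⟩

theorem map_smooth_surjective [IsNoetherianRing B] [IsNoetherianRing B'] [Module.Finite B B'] [Module.Flat B B']
    (X' Y' : Over (Spec (CommRingCat.of B'))) [IsAffine X'.left] [LocallyOfFiniteType X'.hom] [IsAffine Y'.left]
    [LocallyOfFiniteType Y'.hom] (f' : X' ⟶ Y') [Smooth f'.left] [Surjective f'.left]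
    (RX RY : Over (Spec (CommRingCat.of B)))
    (eX : ∀ Z : Over (Spec (CommRingCat.of B)), (Z ⟶ RX) ≃ ((bc B B').obj Z ⟶ X'))
    (heX : ∀ (Z W : Over (Spec (CommRingCat.of B))) (h : Z ⟶ W) (g : W ⟶ RX), eX Z (h ≫ g) = (bc B B').map h ≫ eX W g)
    (eY : ∀ Z : Over (Spec (CommRingCat.of B)), (Z ⟶ RY) ≃ ((bc B B').obj Z ⟶ Y'))
    (heY : ∀ (Z W : Over (Spec (CommRingCat.of B))) (h : Z ⟶ W) (g : W ⟶ RY), eY Z (h ≫ g) = (bc B B').map h ≫ eY W g) :
    Smooth ((eY RX).symm (eX RX (𝟙 RX) ≫ f')).left ∧ Surjective ((eY RX).symm (eX RX (𝟙 RX) ≫ f')).left := by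
  haveI : Module.FinitePresentation B B' := Module.finitePresentation_of_finite B B'
  haveI : Module.Projective B B' := Module.Flat.projective_of_finitePresentation
  obtain ⟨D, _, _, _, _, _, ⟨iX⟩, -, -⟩ := exists_iso_SpA (B := B) X'
  obtain ⟨D', _, _, _, _, _, ⟨iY⟩, -, -⟩ := exists_iso_SpA (B := B) Y'
  obtain ⟨χ, hχ⟩ := saHom_surjective (iX.inv ≫ f' ≫ iY.hom)
  letI : Algebra D' D := χ.toRingHom.toAlgebra
  haveI : IsScalarTower B' D' D := IsScalarTower.of_algebraMap_eq fun a => (χ.commutes a).symm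
  haveI : IsScalarTower B D' D := IsScalarTower.of_algebraMap_eq fun b => by
    rw [IsScalarTower.algebraMap_apply B B' D, IsScalarTower.algebraMap_apply B B' D']
    exact (χ.commutes _).symm
  have hmap : Spec.map (CommRingCat.ofHom (algebraMap D' D)) = iX.inv.left ≫ f'.left ≫ iY.hom.left := by
    show (saHom χ).left = _
    rw [hχ]; rfl
  haveI : Algebra.Smooth D' D := RingHom.smooth_algebraMap.1
    ((HasRingHomProperty.Spec_iff (P := @Smooth)).1 (hmap ▸ inferInstance :
      Smooth (Spec.map (CommRingCat.ofHom (algebraMap D' D)))))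
  haveI : Surjective (Spec.map (CommRingCat.ofHom (algebraMap D' D))) := hmap ▸ inferInstance
  haveI : Algebra.FiniteType D' D := Algebra.FiniteType.of_restrictScalars_finiteType B' D' D
  obtain ⟨W, _, _, F, hW⟩ := exists_wres (R := B) (A := B') D
  obtain ⟨W', _, _, F', hW'⟩ := exists_wres (R := B) (A := B') D'
  obtain ⟨i, hi⟩ := exists_rep hW iX eX heX
  obtain ⟨j, hj⟩ := exists_rep hW' iY eY heY
  let φ : D' →ₐ[B] W ⊗[B] B' := F.comp (IsScalarTower.toAlgHom B D' D)
  have hφ : IsPt D' W φ := fun a => by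
    show F (algebraMap D' D (algebraMap B' D' a)) = _
    rw [← IsScalarTower.algebraMap_apply]; exact hW.isPt a
  obtain ⟨ρ, hρ, -⟩ := hW'.existsUnique W φ hφ
  have hφmor : toMor φ hφ = toMor F hW.isPt ≫ saHom χ := by
    apply Over.OverMorphism.ext
    rw [Over.comp_left, toMor_left, toMor_left, Category.assoc]
    show _ = _ ≫ _ ≫ Spec.map _
    rw [← Spec.map_comp, ← CommRingCat.ofHom_comp]
    rfl
  have key : (eY RX).symm (eX RX (𝟙 RX) ≫ f') = i.hom ≫ spMap ρ ≫ j.inv := by
    rw [Equiv.symm_apply_eq, ← Category.comp_id (i.hom ≫ spMap ρ ≫ j.inv), heY]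
    simp only [Functor.map_comp, Category.assoc, hj, hi]
    rw [← Category.assoc ((bc B B').map j.inv), ← Functor.map_comp, j.inv_hom_id, CategoryTheory.Functor.map_id,
      Category.id_comp, ← Category.assoc ((bc B B').map (spMap ρ)), map_spMap_toMor, toMor_congr hρ (h' := hφ), hφmor, hχ]
    simp
  have hfp : ρ.toRingHom.FinitePresentation := by
    haveI := hW.finiteType
    haveI := hW'.finiteType
    haveI : IsNoetherianRing W' := Algebra.FiniteType.isNoetherianRing B W'
    refine RingHom.FinitePresentation.of_finiteType.1 (RingHom.FiniteType.of_comp_finiteType (f := algebraMap B W') ?_)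
    rw [AlgHom.toRingHom_eq_coe, AlgHom.comp_algebraMap]
    exact RingHom.finiteType_algebraMap.2 inferInstance
  obtain ⟨h1, h2⟩ := smooth_surjective_Spec_map _ (rho_formallySmooth hW hW' ρ hρ) hfp
    (rho_surjective hW hW' ρ hρ (Spec.map (CommRingCat.ofHom (algebraMap D' D))).surjective)
  rw [key]
  simp only [Over.comp_left]
  haveI : Smooth (spMap ρ).left := h1
  haveI : Surjective (spMap ρ).left := h2
  constructor <;> infer_instance

theorem unit_isClosedImmersion [IsNoetherianRing B] [IsNoetherianRing B'] [Module.Finite B B'] [Module.Flat B B']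
    [Surjective (Spec.map (CommRingCat.ofHom (algebraMap B B')))]
    (Y : Over (Spec (CommRingCat.of B))) [IsAffine Y.left] [LocallyOfFiniteType Y.hom]
    (R : Over (Spec (CommRingCat.of B)))
    (e : ∀ Z : Over (Spec (CommRingCat.of B)), (Z ⟶ R) ≃ ((bc B B').obj Z ⟶ (bc B B').obj Y))
    (he : ∀ (Z W : Over (Spec (CommRingCat.of B))) (h : Z ⟶ W) (g : W ⟶ R), e Z (h ≫ g) = (bc B B').map h ≫ e W g) :
    IsClosedImmersion ((e Y).symm (𝟙 ((bc B B').obj Y))).left := by
  haveI : Module.FinitePresentation B B' := Module.finitePresentation_of_finite B B'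
  haveI : Module.Projective B B' := Module.Flat.projective_of_finitePresentation
  haveI : Module.FaithfullyFlat B B' :=
    Module.FaithfullyFlat.of_comap_surjective (Spec.map (CommRingCat.ofHom (algebraMap B B'))).surjective
  haveI : IsAffine ((bc B B').obj Y).left := by
    show IsAffine (Limits.pullback Y.hom (Spec.map (CommRingCat.ofHom (algebraMap B B'))))
    exact isAffine_of_isAffineHom (Limits.pullback.snd Y.hom (Spec.map (CommRingCat.ofHom (algebraMap B B'))))
  haveI : LocallyOfFiniteType ((bc B B').obj Y).hom :=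
    inferInstanceAs (LocallyOfFiniteType (Limits.pullback.snd Y.hom (Spec.map (CommRingCat.ofHom (algebraMap B B')))))
  obtain ⟨D, _, _, _, _, _, ⟨iX⟩, -, -⟩ := exists_iso_SpA (B := B) ((bc B B').obj Y)
  obtain ⟨C, _, _, ⟨iC⟩⟩ := exists_iso_SpR Y
  obtain ⟨W, _, _, F, hW⟩ := exists_wres (R := B) (A := B') D
  obtain ⟨i, hi⟩ := exists_rep hW iX e he
  obtain ⟨φ, hφ, hφmor⟩ := toMor_surjective (D := D) ((bc B B').map iC.inv ≫ iX.hom)
  obtain ⟨ψ, hψ, -⟩ := hW.existsUnique C φ hφ
  haveI : IsIso (toMor φ hφ) := hφmor ▸ inferInstance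
  have hbij : Function.Bijective φ := by
    haveI : IsIso ((bcSpIso B' C).hom ≫ Spec.map (CommRingCat.ofHom φ.toRingHom)) :=
      inferInstanceAs (IsIso ((Over.forget _).map (toMor φ hφ)))
    haveI : IsIso (Spec.map (CommRingCat.ofHom φ.toRingHom)) := IsIso.of_isIso_comp_left (bcSpIso B' C).hom _
    exact (isIso_SpecMap_iff (f := CommRingCat.ofHom φ.toRingHom)).1 inferInstance
  have key : (e Y).symm (𝟙 _) = iC.hom ≫ spMap ψ ≫ i.inv := by
    rw [Equiv.symm_apply_eq, ← Category.comp_id (iC.hom ≫ spMap ψ ≫ i.inv), he]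
    simp only [Functor.map_comp, Category.assoc, hi]
    rw [← Category.assoc ((bc B B').map i.inv), ← Functor.map_comp, i.inv_hom_id, CategoryTheory.Functor.map_id,
      Category.id_comp, ← Category.assoc ((bc B B').map (spMap ψ)), map_spMap_toMor, toMor_congr hψ (h' := hφ), hφmor]
    simp only [Category.assoc, iX.hom_inv_id, Category.comp_id]
    rw [← Functor.map_comp, iC.hom_inv_id, CategoryTheory.Functor.map_id]
  haveI : IsClosedImmersion (spMap ψ).left := IsClosedImmersion.spec_of_surjective _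
    (unit_surjective hW φ (fun c => hbij.2 _) hψ)
  rw [key]
  simp only [Over.comp_left]
  infer_instance

theorem exists_lift_point {k k' : Type u} [Field k] [Field k'] [Algebra k k'] [Module.Finite k k'] [IsPurelyInseparable k k']
    (X' : Over (Spec (CommRingCat.of k'))) [IsAffine X'.left] [Smooth X'.hom] (R : Over (Spec (CommRingCat.of k)))
    (e : ∀ Y : Over (Spec (CommRingCat.of k)), (Y ⟶ R) ≃ ((bc k k').obj Y ⟶ X'))
    (he : ∀ (Y Z : Over (Spec (CommRingCat.of k))) (h : Y ⟶ Z) (g : Z ⟶ R), e Y (h ≫ g) = (bc k k').map h ≫ e Z g)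
    (C : Type u) [CommRing C] [Algebra k' C] (x : SpA k' C ⟶ X') :
    ∃ y : SpA k' C ⟶ (bc k k').obj R, y ≫ e R (𝟙 R) = x := by
  classical
  obtain ⟨D, _, _, _, _, _, ⟨iX⟩, hs, -⟩ := exists_iso_SpA (B := k) X'
  haveI := hs inferInstance
  obtain ⟨W, _, _, F, hW⟩ := exists_wres (R := k) (A := k') D
  obtain ⟨i, hi⟩ := exists_rep hW iX e he
  obtain ⟨x₀, hx₀⟩ := saHom_surjective (x ≫ iX.hom)
  letI : Algebra k C := ((algebraMap k' C).comp (algebraMap k k')).toAlgebra
  let σ : k' →ₐ[k] C := ⟨algebraMap k' C, fun r => rfl⟩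
  have hnil : IsNilpotent (RingHom.ker (mu σ).toRingHom) := by
    let s := Finset.univ.image (Module.finBasis k k')
    let d : k' → C ⊗[k] k' := fun a => (1 : C) ⊗ₜ[k] a - σ a ⊗ₜ[k] (1 : k')
    have hz : ∀ z, z - (mu σ z) ⊗ₜ[k] (1 : k') ∈ Ideal.span ((s.image d : Finset _) : Set (C ⊗[k] k')) := by
      intro z
      induction z with
      | zero => simp
      | tmul c a =>
        have hd : d a = ∑ j, (Module.finBasis k k').repr a j • d (Module.finBasis k k' j) := by
          conv_lhs => rw [← (Module.finBasis k k').sum_repr a]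
          simp only [d, map_sum, map_smul, TensorProduct.tmul_sum, TensorProduct.sum_tmul, TensorProduct.tmul_smul,
            ← TensorProduct.smul_tmul', smul_sub, Finset.sum_sub_distrib]
        have : c ⊗ₜ[k] a - (mu σ (c ⊗ₜ a)) ⊗ₜ[k] (1 : k') = (c ⊗ₜ[k] (1 : k')) * d a := by
          rw [mu_tmul, mul_sub, Algebra.TensorProduct.tmul_mul_tmul, Algebra.TensorProduct.tmul_mul_tmul, mul_one, one_mul, mul_one]
        rw [this, hd]
        refine Ideal.mul_mem_left _ _ (Submodule.sum_mem _ fun j _ => ?_)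
        rw [Algebra.smul_def]
        exact Ideal.mul_mem_left _ _ (Ideal.subset_span (Finset.mem_coe.2 (Finset.mem_image_of_mem d (Finset.mem_image_of_mem _ (Finset.mem_univ j)))))
      | add z w hz hw =>
        rw [map_add, TensorProduct.add_tmul, add_sub_add_comm]
        exact add_mem hz hw
    have hfg : RingHom.ker (mu σ).toRingHom = Ideal.span ((s.image d : Finset _) : Set (C ⊗[k] k')) := by
      refine le_antisymm (fun z hzk => ?_) (Ideal.span_le.2 ?_)
      · have := hz z
        rwa [show mu σ z = 0 from hzk, TensorProduct.zero_tmul, sub_zero] at this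
      · intro z hz'
        obtain ⟨a, -, rfl⟩ := Finset.mem_image.1 (Finset.mem_coe.1 hz')
        show mu σ (d a) = 0
        simp [d, mu_tmul]
    refine (Ideal.FG.isNilpotent_iff_le_nilradical ⟨_, hfg.symm⟩).2 ?_
    rw [hfg, Ideal.span_le]
    intro z hz'
    obtain ⟨a, -, rfl⟩ := Finset.mem_image.1 (Finset.mem_coe.1 hz')
    obtain ⟨q, hq⟩ := ExpChar.exists k
    obtain ⟨m, b, hb⟩ := (isPurelyInseparable_iff_pow_mem k q).1 inferInstance a
    rcases subsingleton_or_nontrivial (C ⊗[k] k') with hT | hT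
    · exact ⟨1, Subsingleton.elim _ _⟩
    haveI : ExpChar (C ⊗[k] k') q :=
      expChar_of_injective_algebraMap (algebraMap k (C ⊗[k] k')).injective q
    refine ⟨q ^ m, ?_⟩
    rw [sub_pow_expChar_pow, Algebra.TensorProduct.tmul_pow, Algebra.TensorProduct.tmul_pow, one_pow, one_pow, ← map_pow, ← hb,
      AlgHom.commutes, Algebra.algebraMap_eq_smul_one, Algebra.algebraMap_eq_smul_one, TensorProduct.tmul_smul,
      TensorProduct.smul_tmul', sub_self]
    exact zero_mem _
  obtain ⟨ψ, hψ⟩ := exists_point_purelyInseparable hW σ hnil x₀.toRingHom x₀.commutes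
  let χ : W ⊗[k] k' →ₐ[k] C := Algebra.TensorProduct.lift ψ σ fun _ _ => Commute.all _ _
  let y₀ : SpA k' C ⟶ (bc k k').obj (SpR k W) := Over.homMk
    (Spec.map (CommRingCat.ofHom χ.toRingHom) ≫ (bcSpIso k' W).inv) (by
      show (_ ≫ _) ≫ Limits.pullback.snd _ _ = Spec.map _
      rw [Category.assoc]
      erw [pullbackSpecIso_inv_snd k W k']
      rw [← Spec.map_comp]
      congr 1
      ext a
      show χ ((1 : W) ⊗ₜ[k] a) = algebraMap k' C a
      rw [Algebra.TensorProduct.lift_tmul, map_one, one_mul]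
      rfl)
  refine ⟨y₀ ≫ (bc k k').map i.inv, ?_⟩
  rw [Category.assoc, hi, ← Category.assoc ((bc k k').map i.inv), ← Functor.map_comp, i.inv_hom_id,
    CategoryTheory.Functor.map_id, Category.id_comp, ← Category.assoc]
  have : y₀ ≫ toMor F hW.isPt = saHom x₀ := by
    apply Over.OverMorphism.ext
    show (_ ≫ _) ≫ _ ≫ _ = _
    rw [Category.assoc, Iso.inv_hom_id_assoc, ← Spec.map_comp, ← CommRingCat.ofHom_comp]
    show Spec.map _ = Spec.map _
    congr 2
    exact RingHom.ext hψ
  rw [this, hx₀, Category.assoc, iX.hom_inv_id, Category.comp_id]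

end Groth.Agent.WeilAff
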