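import Groth.Agent.WeilAff.UnipKer
import Groth.Agent.WeilAff.Conn
import Groth.Agent.Chev.SemiAbelian
import Groth.Agent.SubGen.CommGeom
import Groth.Agent.PerfRad.Main

/-!
The kernel of the counit of a purely inseparable Weil restriction is connected and unipotent.
-/

set_option autoImplicit false
set_option backward.isDefEq.respectTransparency false
set_option maxHeartbeats 1000000
set_option synthInstance.maxHeartbeats 200000
set_option linter.unusedSectionVars false
set_option linter.style.haveILetI false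

universe u

open CategoryTheory MonoidalCategory CartesianMonoidalCategory MonObj GrpObj AlgebraicGeometry TensorProduct

noncomputable section

namespace Groth.Agent.WeilAff

attribute [local instance] Functor.grpObjObj

variable {k k' : Type u} [Field k] [Field k'] [Algebra k k']

/-- the graph of a `k'`-algebra -/
def graph (C : Type u) [CommRing C] [Algebra k C] [Algebra k' C] [IsScalarTower k k' C] :
    SpA k' C ⟶ (bc k k').obj (SpR k C) :=
  Over.homMk (Limits.pullback.lift (𝟙 _) (Spec.map (CommRingCat.ofHom (algebraMap k' C))) (by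
    rw [Category.id_comp]
    show Spec.map _ = Spec.map _ ≫ Spec.map _
    rw [← Spec.map_comp, ← CommRingCat.ofHom_comp, ← IsScalarTower.algebraMap_eq])) (Limits.pullback.lift_snd _ _ _)

theorem graph_left (C : Type u) [CommRing C] [Algebra k C] [Algebra k' C] [IsScalarTower k k' C] :
    (graph (k := k) C).left =
      Spec.map (CommRingCat.ofHom (mu (IsScalarTower.toAlgHom k k' C)).toRingHom) ≫ (bcSpIso k' C).inv := by
  apply Limits.pullback.hom_ext
  · rw [Category.assoc]
    erw [pullbackSpecIso_inv_fst k C k']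
    refine (Limits.pullback.lift_fst _ _ _).trans ?_
    rw [← Spec.map_comp]
    refine (Spec.map_id _).symm.trans ?_
    congr 1
    ext c
    show c = mu (IsScalarTower.toAlgHom k k' C) (c ⊗ₜ[k] 1)
    rw [mu_tmul, map_one, _root_.mul_one]
  · rw [Category.assoc]
    erw [pullbackSpecIso_inv_snd k C k']
    refine (Limits.pullback.lift_snd _ _ _).trans ?_
    rw [← Spec.map_comp]
    congr 1
    ext a
    show algebraMap k' C a = mu (IsScalarTower.toAlgHom k k' C) ((1 : C) ⊗ₜ[k] a)
    rw [mu_tmul, _root_.one_mul]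
    rfl

/-- morphisms into a base change come from the graph -/
theorem exists_eq_graph {C : Type u} [CommRing C] [Algebra k C] [Algebra k' C] [IsScalarTower k k' C]
    {R : Over (Spec (CommRingCat.of k))} (y₀ : SpA k' C ⟶ (bc k k').obj R) :
    ∃ y : SpR k C ⟶ R, y₀ = graph C ≫ (bc k k').map y := by
  refine ⟨Over.homMk (y₀.left ≫ Limits.pullback.fst _ _) ?_, Over.OverMorphism.ext ?_⟩
  · rw [Category.assoc, Limits.pullback.condition, ← Category.assoc]
    have h : y₀.left ≫ Limits.pullback.snd R.hom _ = Spec.map (CommRingCat.ofHom (algebraMap k' C)) := Over.w y₀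
    rw [h]
    show _ = Spec.map _
    rw [← Spec.map_comp, ← CommRingCat.ofHom_comp, ← IsScalarTower.algebraMap_eq]
  · apply Limits.pullback.hom_ext
    · simp only [Over.comp_left, Over.pullback_map_left, Category.assoc]
      erw [Limits.pullback.lift_fst, Limits.pullback.lift_fst_assoc]
      rw [Category.id_comp]
      rfl
    · exact (Over.w y₀).trans (Over.w _).symm

theorem graph_natural {C C' : Type u} [CommRing C] [Algebra k C] [Algebra k' C] [IsScalarTower k k' C] [CommRing C']
    [Algebra k C'] [Algebra k' C'] [IsScalarTower k k' C'] (f : C →ₐ[k'] C') :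
    saHom f ≫ graph C = graph C' ≫ (bc k k').map (spMap (f.restrictScalars k)) := by
  refine Over.OverMorphism.ext ?_
  apply Limits.pullback.hom_ext
  · simp only [Over.comp_left, Over.pullback_map_left, Category.assoc]
    erw [Limits.pullback.lift_fst, Limits.pullback.lift_fst]
    rw [Category.comp_id]
    erw [Limits.pullback.lift_fst_assoc]
    rw [Category.id_comp]
    rfl
  · exact ((Over.w (saHom f ≫ graph C)).trans (Over.w (graph C' ≫ (bc k k').map (spMap (f.restrictScalars k)))).symm)

section Setup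

variable [Module.Finite k k'] [IsPurelyInseparable k k']

theorem isNilpotent_ker_mu (L : Type u) [Field L] [IsAlgClosed L] [Algebra k L] [Algebra k' L] [IsScalarTower k k' L] :
    IsNilpotent (RingHom.ker (mu (IsScalarTower.toAlgHom k k' L)).toRingHom) := by
  obtain ⟨n, hn⟩ := isNilpotent_ker_red (k := k) (k' := k') (K := L)
  refine ⟨n, le_bot_iff.1 ((Ideal.pow_right_mono ?_ n).trans hn.le)⟩
  intro z hz
  refine funext fun σ => ?_
  show red (K := L) L z σ = 0
  rw [show red (K := L) L z σ = mu ((IsScalarTower.toAlgHom k L L).comp σ) z from rfl,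
    Subsingleton.elim ((IsScalarTower.toAlgHom k L L).comp σ) (IsScalarTower.toAlgHom k k' L)]
  exact hz

variable {G' : Over (Spec (CommRingCat.of k'))} [GrpObj G'] [IsAffine G'.left]
  {G : Over (Spec (CommRingCat.of k))} [GrpObj G]
  (e : ∀ Y : Over (Spec (CommRingCat.of k)), (Y ⟶ G) ≃ ((bc k k').obj Y ⟶ G'))
  (he : ∀ (Y Z : Over (Spec (CommRingCat.of k))) (h : Y ⟶ Z) (g : Z ⟶ G), e Y (h ≫ g) = (bc k k').map h ≫ e Z g)
  (hmul : ∀ (Y : Over (Spec (CommRingCat.of k))) (g h : Y ⟶ G), e Y (g * h) = e Y g * e Y h)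

include he hmul in
theorem isMonHom_counit : IsMonHom (e G (𝟙 G)) := by
  have heq : ∀ (Y : Over (Spec (CommRingCat.of k))) (g : Y ⟶ G), e Y g = (bc k k').map g ≫ e G (𝟙 G) := fun Y g => by
    rw [← he Y G g (𝟙 G), Category.comp_id]
  refine ⟨?_, ?_⟩
  · have h1 : e (𝟙_ _) 1 = 1 := by
      have := hmul (𝟙_ _) 1 1
      rw [_root_.mul_one] at this
      exact left_eq_mul.1 this
    rw [heq] at h1
    rw [Functor.obj.η_def, Category.assoc]
    have h2 : (η[G] : 𝟙_ _ ⟶ G) = 1 := by rw [Hom.one_def, toUnit_unique (toUnit _) (𝟙 _), Category.id_comp]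
    rw [h2, h1, MonObj.comp_one, Hom.one_def, toUnit_unique (toUnit _) (𝟙 _), Category.id_comp]
  · have h1 : e (G ⊗ G) μ[G] = e _ (fst G G) * e _ (snd G G) := by
      rw [← hmul, Hom.mul_def, lift_fst_snd, Category.id_comp]
    rw [heq (G ⊗ G) μ[G], heq (G ⊗ G) (fst G G), heq (G ⊗ G) (snd G G)] at h1
    rw [Functor.obj.μ_def, Category.assoc, h1, MonObj.comp_mul, ← Category.assoc, ← Category.assoc,
      Functor.Monoidal.μ_fst, Functor.Monoidal.μ_snd, Hom.mul_def, lift_fst_comp_snd_comp]

include he hmul in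
/-- geometric points of the kernel have bounded order -/
theorem exists_exponent (L : Type u) [Field L] [IsAlgClosed L] [Algebra k L] [Algebra k' L] [IsScalarTower k k' L] :
    ∃ n : ℕ, 0 < n ∧ ∀ y₀ : SpA k' L ⟶ (bc k k').obj G, y₀ ≫ e G (𝟙 G) = 1 → y₀ ^ n = 1 := by
  let f₀ := mu (IsScalarTower.toAlgHom k k' L)
  letI : Algebra k' (L ⊗[k] k') := (Algebra.TensorProduct.includeRight : k' →ₐ[k] L ⊗[k] k').toRingHom.toAlgebra
  let f : L ⊗[k] k' →ₐ[k'] L :=
    { f₀.toRingHom with
      commutes' := fun a => by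
        show f₀ ((1 : L) ⊗ₜ[k] a) = _
        rw [mu_tmul, _root_.one_mul]; rfl }
  let j : SpA k' (L ⊗[k] k') ≅ (bc k k').obj (SpR k L) := Over.isoMk (bcSpIso k' L).symm (by
    exact pullbackSpecIso_inv_snd k L k')
  have hj : saHom f ≫ j.hom = graph L := Over.OverMorphism.ext (graph_left (k := k) (k' := k') L).symm
  obtain ⟨m, hm⟩ := isNilpotent_ker_mu (k := k) (k' := k') L
  obtain ⟨n, hn0, hn⟩ : ∃ n : ℕ, 0 < n ∧ ∀ x : SpA k' (L ⊗[k] k') ⟶ G', saHom f ≫ x = 1 → x ^ n = 1 := by
    obtain ⟨p, hp⟩ := ExpChar.exists k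
    rcases hp with _ | ⟨hp⟩
    · refine ⟨1, one_pos, fun x hx => ?_⟩
      haveI : Algebra.IsSeparable k k' := inferInstance
      have hsur : Function.Surjective (algebraMap k k') :=
        IsPurelyInseparable.surjective_algebraMap_of_isSeparable k k'
      have hb : Function.Bijective f := by
        refine ⟨?_, fun c => ⟨c ⊗ₜ[k] 1, by show f₀ (c ⊗ₜ[k] 1) = c; rw [mu_tmul, map_one, _root_.mul_one]⟩⟩
        have hz : ∀ z : L ⊗[k] k', z = f₀ z ⊗ₜ[k] 1 := fun z => by
          induction z with
          | zero => simp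
          | tmul c a =>
            obtain ⟨r, rfl⟩ := hsur a
            rw [mu_tmul, AlgHom.commutes, ← Algebra.commutes, ← Algebra.smul_def, Algebra.algebraMap_eq_smul_one,
              TensorProduct.tmul_smul, TensorProduct.smul_tmul']
          | add a b ha hb => rw [map_add, TensorProduct.add_tmul, ← ha, ← hb]
        intro a b hab
        rw [hz a, hz b]
        exact congrArg (fun c => c ⊗ₜ[k] (1 : k')) hab
      haveI : IsIso (CommRingCat.ofHom f.toRingHom) := (ConcreteCategory.isIso_iff_bijective _).2 hb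
      haveI : IsIso (saHom f).left := inferInstanceAs (IsIso (Spec.map (CommRingCat.ofHom f.toRingHom)))
      haveI : IsIso (saHom f) := (Over.isoMk (asIso (saHom f).left) (Over.w _)).isIso_hom
      rw [pow_one, ← cancel_epi (saHom f), hx, MonObj.comp_one]
    · refine ⟨p ^ m, pow_pos hp.pos _, fun x hx => pow_eq_one_of_red G' p hp ?_ f m ?_ x hx⟩
      · rw [← map_natCast (algebraMap k (L ⊗[k] k')), CharP.cast_eq_zero, map_zero]
      · exact le_bot_iff.1 ((Ideal.pow_le_pow_right (Nat.lt_pow_self hp.one_lt).le).trans hm.le)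
  refine ⟨n, hn0, fun y₀ hy₀ => ?_⟩
  obtain ⟨y, rfl⟩ := exists_eq_graph y₀
  have heq : e (SpR k L) y = (bc k k').map y ≫ e G (𝟙 G) := by rw [← he _ G y (𝟙 G), Category.comp_id]
  have h1 : (j.hom ≫ e (SpR k L) y) ^ n = 1 := hn _ (by
    rw [← Category.assoc, hj, heq, ← Category.assoc]; exact hy₀)
  have hep : ∀ q : ℕ, e (SpR k L) (y ^ q) = e (SpR k L) y ^ q := by
    intro q
    induction q with
    | zero =>
      have := hmul (SpR k L) 1 1
      rw [_root_.mul_one] at this
      rw [pow_zero, pow_zero]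
      exact left_eq_mul.1 this
    | succ q ih => rw [pow_succ, pow_succ, hmul, ih]
  have hmp : ∀ q : ℕ, (bc k k').map (y ^ q) = ((bc k k').map y) ^ q := by
    intro q
    induction q with
    | zero => rw [pow_zero, pow_zero, Functor.map_one]
    | succ q ih => rw [pow_succ, pow_succ, Functor.map_mul, ih]
  rw [← MonObj.comp_pow] at h1
  have h2 : y ^ n = 1 := by
    refine (e (SpR k L)).injective ?_
    rw [hep, ← pow_zero y, hep, pow_zero, ← cancel_epi j.hom, h1, MonObj.comp_one]
  rw [← MonObj.comp_pow, ← hmp, h2, Functor.map_one, MonObj.comp_one]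

include he hmul in
/-- **the kernel has no subtori** -/
theorem hasNoSubtorus_kernel {K : Over (Spec (CommRingCat.of k'))} [GrpObj K] (iK : K ⟶ (bc k k').obj G) [IsMonHom iK]
    (hK : AlgGrp.IsKernel iK (e G (𝟙 G))) (s : Spec (CommRingCat.of k')) :
    Red.HasNoSubtorus (AlgebraicClosure ((Spec (CommRingCat.of k')).residueField s)) (Red.geomFibre s K) := by
  obtain ⟨alg, -, hpt⟩ := PerfRad.exists_algebra_geomPt s
  let L := AlgebraicClosure ((Spec (CommRingCat.of k')).residueField s)
  letI := alg
  letI : Algebra k L := ((algebraMap k' L).comp (algebraMap k k')).toAlgebra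
  haveI : IsScalarTower k k' L := IsScalarTower.of_algebraMap_eq fun _ => rfl
  haveI : Mono iK := ⟨fun a b h => hK.hom_ext h (toUnit_unique _ _)⟩
  obtain ⟨n, hn0, hn⟩ := exists_exponent e he hmul L
  intro T _ t _ _ hT
  haveI := Chev.smooth_of_isTorus hT
  haveI : IsReduced T.left := SmoothRed.isReduced_of_smooth_scheme T.hom
  haveI : IsSeparated T.hom := GrpField.isSeparated_hom T
  have hpts : ∀ z : 𝟙_ (Over (Spec (CommRingCat.of L))) ⟶ T, z ^ n = 1 := fun z => by
    let E := SubGen.ratEquiv (Red.geomPt s) K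
    obtain ⟨x, hx⟩ : ∃ x, E x = z ≫ t := E.surjective _
    have h1 : (x ≫ iK) ^ n = 1 := by
      have hrel : ∀ (φ : Spec (CommRingCat.of L) ⟶ Spec (CommRingCat.of k')) (x' : Over.mk φ ⟶ K),
          φ = Spec.map (CommRingCat.ofHom (algebraMap k' L)) → (x' ≫ iK) ^ n = 1 := by
        rintro _ x' rfl
        refine hn (x' ≫ iK) ?_
        rw [Category.assoc, hK.w, ← Category.assoc, toUnit_unique (x' ≫ toUnit K) (toUnit _), Hom.one_def]
      exact hrel _ x hpt
    have h2 : x ^ n = 1 := by rw [← cancel_mono iK, MonObj.pow_comp, h1, MonObj.one_comp]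
    rw [← cancel_mono t, MonObj.pow_comp, ← hx, ← map_pow, h2, map_one, MonObj.one_comp]
  refine TorusKilled.isTrivial T hT hn0 (Chev.BorelFixed.hom_ext_rp fun z => ?_)
  rw [MonObj.comp_pow, Category.comp_id, hpts, MonObj.comp_one]

include he hmul in
/-- **the kernel is connected** -/
theorem connectedSpace_kernel [Smooth G'.hom] {K : Over (Spec (CommRingCat.of k'))} [GrpObj K]
    (iK : K ⟶ (bc k k').obj G) [IsMonHom iK] (hK : AlgGrp.IsKernel iK (e G (𝟙 G))) : ConnectedSpace K.left := by
  haveI : Mono iK := ⟨fun a b h => hK.hom_ext h (toUnit_unique _ _)⟩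
  haveI := isMonHom_counit e he hmul
  let q := e G (𝟙 G)
  obtain ⟨D, _, _, _, _, _, ⟨iX⟩, hs, -⟩ := exists_iso_SpA (B := k) G'
  haveI := hs inferInstance
  obtain ⟨W, _, _, F, hW⟩ := exists_wres (R := k) (A := k') D
  obtain ⟨i, hi⟩ := exists_rep hW iX e he
  -- a normalised section of the counit
  obtain ⟨s₀, hs₀⟩ := exists_lift_point G' G e he D iX.inv
  let s₁ : G' ⟶ (bc k k').obj G := iX.hom ≫ s₀
  have hs₁ : s₁ ≫ q = 𝟙 G' := by simp only [s₁, Category.assoc, q, hs₀, Iso.hom_inv_id]
  let s : G' ⟶ (bc k k').obj G := s₁ * (toUnit G' ≫ η[G'] ≫ s₁)⁻¹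
  have hsq : s ≫ q = 𝟙 G' := by
    simp only [s, MonObj.mul_comp, GrpObj.inv_comp, Category.assoc, hs₁, Category.comp_id, ← Hom.one_def, inv_one,
      _root_.mul_one]
  have hs1 : η[G'] ≫ s = 1 := by
    simp only [s, MonObj.comp_mul, GrpObj.comp_inv]
    rw [← Category.assoc _ (toUnit G'), toUnit_unique (η[G'] ≫ toUnit G') (𝟙 _), Category.id_comp, mul_inv_cancel]
  let ρ : (bc k k').obj G ⟶ (bc k k').obj G := 𝟙 _ * (q ≫ s)⁻¹
  let r : (bc k k').obj G ⟶ K := hK.lift ρ (toUnit _) (by
    show ρ ≫ q = toUnit _ ≫ η[G']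
    simp only [ρ, MonObj.mul_comp, GrpObj.inv_comp, Category.assoc, hsq, Category.comp_id, Category.id_comp,
      mul_inv_cancel, Hom.one_def])
  have hr : iK ≫ r = 𝟙 K := by
    rw [← cancel_mono iK, Category.assoc, Category.id_comp]
    erw [hK.lift_fst]
    simp only [ρ, MonObj.comp_mul, GrpObj.comp_inv, Category.comp_id]
    rw [← Category.assoc, show iK ≫ q = toUnit K ≫ η[G'] from hK.w, Category.assoc, hs1, MonObj.comp_one, inv_one,
      _root_.mul_one]
  haveI : Surjective r.left :=
    ⟨fun z => ⟨iK.left z, by rw [← Scheme.Hom.comp_apply, ← Over.comp_left, hr]; rfl⟩⟩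
  -- geometry
  let L := AlgebraicClosure k'
  haveI : IsScalarTower k k' L := inferInstance
  haveI : IsScalarTower k k' (L ⊗[k] W) := inferInstance
  let M : SpA k' (L ⊗[k] W) ⟶ (bc k k').obj G :=
    graph (k := k) (L ⊗[k] W) ≫ (bc k k').map (spMap Algebra.TensorProduct.includeRight ≫ i.inv)
  let m : SpA k' (L ⊗[k] W) ⟶ K := M ≫ r
  -- points
  have hpt : ∀ x : SpA k' L ⟶ K, ∃ ψ : W →ₐ[k] L,
      (∀ d σ, red (K := L) L (bcMap ψ (F d)) σ = mu (IsScalarTower.toAlgHom k k' L) (bcMap ψ (F d))) ∧
      saHom (D' := D) (B' := k') (D := L)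
        { ((mu (IsScalarTower.toAlgHom k k' L)).comp ((bcMap ψ).comp F)).toRingHom with
          commutes' := fun a => by
            show mu _ (bcMap ψ (F (algebraMap k' D a))) = _
            rw [show F (algebraMap k' D a) = (1 : W) ⊗ₜ[k] a from hW.isPt a]
            simp [mu_tmul] } = (1 : SpA k' L ⟶ G') ≫ iX.hom ∧
      x.left (IsLocalRing.closedPoint L) = m.left (pt L ψ) := by
    intro x
    obtain ⟨y, hy⟩ := exists_eq_graph (x ≫ iK)
    obtain ⟨ψ, hψ⟩ := (spMap_bijective W L).2 (y ≫ i.hom)
    have hψ' : (x ≫ iK) = graph L ≫ (bc k k').map (spMap ψ ≫ i.inv) := by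
      rw [hy, hψ, Category.assoc, Iso.hom_inv_id, Category.comp_id]
    refine ⟨ψ, fun d σ => ?_, ?_, ?_⟩
    · rw [show red (K := L) L (bcMap ψ (F d)) σ = mu ((IsScalarTower.toAlgHom k L L).comp σ) (bcMap ψ (F d)) from rfl,
        Subsingleton.elim ((IsScalarTower.toAlgHom k L L).comp σ) (IsScalarTower.toAlgHom k k' L)]
    · have h1 : (x ≫ iK) ≫ q = 1 := by
        rw [Category.assoc, show iK ≫ q = toUnit K ≫ η[G'] from hK.w, ← Category.assoc,
          toUnit_unique (x ≫ toUnit K) (toUnit _), Hom.one_def]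
      rw [hψ'] at h1
      have h2 := congrArg (fun t => t ≫ iX.hom) h1
      simp only [q, hi, Category.assoc, Iso.inv_hom_id, Category.comp_id, ← Functor.map_comp_assoc,
        Iso.inv_hom_id_assoc, map_spMap_toMor] at h2
      rw [← h2]
      refine Over.OverMorphism.ext ?_
      rw [Over.comp_left, toMor_left, graph_left, Category.assoc, Iso.inv_hom_id_assoc]
      show Spec.map _ = Spec.map _ ≫ Spec.map _
      rw [← Spec.map_comp]
      rfl
    · let f : L ⊗[k] W →ₐ[k'] L :=
        { (Algebra.TensorProduct.lift (AlgHom.id k L) ψ fun _ _ => Commute.all _ _).toRingHom with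
          commutes' := fun a => by
            show Algebra.TensorProduct.lift (AlgHom.id k L) ψ (fun _ _ => Commute.all _ _) (algebraMap k' L a ⊗ₜ[k] 1) = _
            rw [Algebra.TensorProduct.lift_tmul, map_one, _root_.mul_one]; rfl }
      have h3 : saHom f ≫ M = x ≫ iK := by
        rw [hψ']
        simp only [M]
        rw [← Category.assoc, graph_natural, Category.assoc, ← Functor.map_comp, ← Category.assoc (spMap _)]
        congr 3
        refine Over.OverMorphism.ext ?_
        show Spec.map _ ≫ Spec.map _ = Spec.map _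
        rw [← Spec.map_comp]
        congr 1
        ext w
        show Algebra.TensorProduct.lift (AlgHom.id k L) ψ (fun _ _ => Commute.all _ _) ((1 : L) ⊗ₜ[k] w) = ψ w
        rw [Algebra.TensorProduct.lift_tmul, map_one, _root_.one_mul]
      have h4 : saHom f ≫ m = x := by
        simp only [m]
        rw [← Category.assoc, h3, Category.assoc, hr, Category.comp_id]
      conv_lhs => rw [← h4, Over.comp_left, Scheme.Hom.comp_apply]
      congr 1
      refine PrimeSpectrum.ext ?_
      show Ideal.comap f.toRingHom (IsLocalRing.maximalIdeal L) = RingHom.ker _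
      rw [IsLocalRing.maximalIdeal_eq_bot]
      rfl
  have hjoin : ∀ x x' : SpA k' L ⟶ K, connectedComponent (x.left (IsLocalRing.closedPoint L)) =
      connectedComponent (x'.left (IsLocalRing.closedPoint L)) := by
    intro x x'
    obtain ⟨ψ, h1, h2, h3⟩ := hpt x
    obtain ⟨ψ', h1', h2', h3'⟩ := hpt x'
    have hJ : Joined ψ ψ' := joined_of_red hW ψ ψ' fun d σ => by
      rw [h1, h1']
      have h5 := congrArg CommaMorphism.left (h2.trans h2'.symm)
      exact RingHom.congr_fun (congrArg CommRingCat.Hom.hom (Spec.map_injective h5)) d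
    rw [h3, h3']
    refine connectedComponent_eq ?_
    have h6 : pt L ψ' ∈ connectedComponent (pt L ψ) := by rw [hJ]; exact mem_connectedComponent
    exact m.left.continuous.image_connectedComponent_subset _ ⟨_, h6, rfl⟩
  haveI : IsClosedImmersion iK.left := MorphismProperty.of_isPullback
    ((hK.map (Over.forget _))).flip (GrpField.isClosedImmersion_eta G')
  haveI : LocallyOfFiniteType G.hom := by
    haveI := hW.finiteType
    rw [← Over.w i.hom]
    haveI : LocallyOfFiniteType (SpR k W).hom :=
      (HasRingHomProperty.Spec_iff (P := @LocallyOfFiniteType)).2 (RingHom.finiteType_algebraMap.2 hW.finiteType)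
    infer_instance
  haveI : LocallyOfFiniteType ((bc k k').obj G).hom := inferInstanceAs (LocallyOfFiniteType (Limits.pullback.snd G.hom _))
  haveI : LocallyOfFiniteType K.hom := by rw [← Over.w iK]; infer_instance
  haveI : JacobsonSpace K.left := LocallyOfFiniteType.jacobsonSpace K.hom
  haveI : IsAffine K.left := by
    haveI : IsAffineHom G.hom := by
      haveI : IsAffine (SpR k W).left := inferInstanceAs (IsAffine (Spec (CommRingCat.of W)))
      haveI : IsIso i.hom.left := inferInstanceAs (IsIso ((Over.forget _).map i.hom))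
      haveI : IsAffine G.left := IsAffine.of_isIso i.hom.left
      exact isAffineHom_of_isAffine G.hom
    haveI : IsAffineHom ((bc k k').obj G).hom := inferInstanceAs (IsAffineHom (Limits.pullback.snd G.hom _))
    haveI : IsAffine ((bc k k').obj G).left := isAffine_of_isAffineHom ((bc k k').obj G).hom
    exact isAffine_of_isAffineHom iK.left
  have hclosed : ∀ z : K.left, IsClosed ({z} : Set K.left) → ∃ x : SpA k' L ⟶ K, x.left (IsLocalRing.closedPoint L) = z := by
    intro z hz
    obtain ⟨A, _, _, _, _, _, ⟨iA⟩, -, -⟩ := exists_iso_SpA (B := k) K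
    haveI : IsIso iA.hom.left := inferInstanceAs (IsIso ((Over.forget _).map iA.hom))
    let w : PrimeSpectrum A := iA.hom.left z
    have hw : IsClosed ({w} : Set (PrimeSpectrum A)) := by
      have := iA.hom.left.homeomorph.isClosedMap _ hz
      rwa [Set.image_singleton] at this
    haveI : w.asIdeal.IsMaximal := (PrimeSpectrum.isClosed_singleton_iff_isMaximal w).1 hw
    haveI : Algebra.FiniteType k' (A ⧸ w.asIdeal) :=
      Algebra.FiniteType.of_surjective (Ideal.Quotient.mkₐ k' w.asIdeal) Ideal.Quotient.mk_surjective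
    letI := Ideal.Quotient.field w.asIdeal
    haveI : Module.Finite k' (A ⧸ w.asIdeal) := finite_of_finite_type_of_isJacobsonRing k' _
    let g : A →ₐ[k'] L := (IsAlgClosed.lift : (A ⧸ w.asIdeal) →ₐ[k'] L).comp (Ideal.Quotient.mkₐ k' w.asIdeal)
    refine ⟨saHom g ≫ iA.inv, ?_⟩
    have hp : (saHom g).left (IsLocalRing.closedPoint L) = w := by
      refine PrimeSpectrum.ext ?_
      show Ideal.comap g.toRingHom (IsLocalRing.maximalIdeal L) = w.asIdeal
      rw [IsLocalRing.maximalIdeal_eq_bot]
      ext a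
      show g a = 0 ↔ _
      simp only [g, AlgHom.comp_apply, Ideal.Quotient.mkₐ_eq_mk]
      rw [map_eq_zero, Ideal.Quotient.eq_zero_iff_mem]
    rw [Over.comp_left, Scheme.Hom.comp_apply, hp]
    show (iA.hom.left ≫ iA.inv.left) z = z
    rw [← Over.comp_left, Iso.hom_inv_id]
    rfl
  let x₀ : SpA k' L ⟶ K := 1
  rw [connectedSpace_iff_connectedComponent]
  refine ⟨x₀.left (IsLocalRing.closedPoint L), Set.eq_univ_of_univ_subset ?_⟩
  rw [← closure_closedPoints]
  refine closure_minimal (fun z hz => ?_) isClosed_connectedComponent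
  obtain ⟨x, rfl⟩ := hclosed z hz
  rw [hjoin x₀ x]
  exact mem_connectedComponent

end Setup

end Groth.Agent.WeilAff
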