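import Mathlib

/-!
Lifting points of smooth and surjective algebras.
-/

set_option autoImplicit false
set_option backward.isDefEq.respectTransparency false

universe u

namespace Groth.Agent.WeilAff

/-- formal smoothness in ring-homomorphism terms -/
theorem lift_point {A D P Q : Type u} [CommRing A] [CommRing D] [Algebra A D] [Algebra.FormallySmooth A D]
    [CommRing P] [CommRing Q] (σ : A →+* P) (f : P →+* Q) (hf : IsNilpotent (RingHom.ker f))
    (τ : D →+* Q) (hA : τ.comp (algebraMap A D) = f.comp σ) (hr : ∀ d, τ d ∈ f.range) :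
    ∃ φ : D →+* P, φ.comp (algebraMap A D) = σ ∧ f.comp φ = τ := by
  letI : Algebra A P := σ.toAlgebra
  let fbar : (P ⧸ RingHom.ker f) →+* Q := RingHom.kerLift f
  have hinj : Function.Injective fbar := RingHom.kerLift_injective f
  choose p hp using hr
  have key : ∀ d, fbar (Ideal.Quotient.mk _ (p d)) = τ d := hp
  let g : D →ₐ[A] P ⧸ RingHom.ker f :=
    { toFun := fun d => Ideal.Quotient.mk _ (p d)
      map_one' := hinj (by rw [key, map_one, map_one])
      map_mul' := fun a b => hinj (by rw [key, map_mul, map_mul fbar, key, key])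
      map_zero' := hinj (by rw [key, map_zero, map_zero])
      map_add' := fun a b => hinj (by rw [key, map_add, map_add fbar, key, key])
      commutes' := fun a => hinj (by
        rw [key]
        exact RingHom.congr_fun hA a) }
  obtain ⟨φ, hφ⟩ := Algebra.FormallySmooth.exists_lift (R := A) (A := D) _ hf g
  refine ⟨φ.toRingHom, φ.comp_algebraMap, RingHom.ext fun d => ?_⟩
  have h := congrArg fbar (AlgHom.congr_fun hφ d)
  exact h.trans (key d)

theorem finite_fiber {L A D : Type u} [Field L] [CommRing A] [CommRing D] [Algebra A D] [Algebra.FiniteType A D]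
    [Algebra A L] (m : Ideal (TensorProduct A L D)) [m.IsMaximal] :
    Module.Finite L (TensorProduct A L D ⧸ m) := by
  letI := Ideal.Quotient.field m
  haveI : Algebra.FiniteType L (TensorProduct A L D ⧸ m) :=
    Algebra.FiniteType.of_surjective (Ideal.Quotient.mkₐ L m) Ideal.Quotient.mk_surjective
  exact finite_of_finite_type_of_isJacobsonRing L _

/-- Nullstellensatz for a surjective algebra of finite type. -/
theorem exists_point {L A D : Type u} [Field L] [IsAlgClosed L] [CommRing A] [CommRing D] [Algebra A D]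
    [Algebra.FiniteType A D] (hsurj : Function.Surjective (PrimeSpectrum.comap (algebraMap A D)))
    (σ : A →+* L) : ∃ x : D →+* L, x.comp (algebraMap A D) = σ := by
  letI : Algebra A L := σ.toAlgebra
  haveI : (RingHom.ker σ).IsPrime := RingHom.ker_isPrime σ
  obtain ⟨q, hq⟩ := hsurj ⟨RingHom.ker σ, RingHom.ker_isPrime σ⟩
  haveI : Nontrivial (TensorProduct A L D) := by
    have := (PrimeSpectrum.nontrivial_iff_mem_rangeComap (R := A) (S := D)
      (⟨RingHom.ker σ, RingHom.ker_isPrime σ⟩ : PrimeSpectrum A)).2 ⟨q, hq⟩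
    let i : (RingHom.ker σ).ResidueField →ₐ[A] L := Ideal.ResidueField.liftₐ (RingHom.ker σ) (Algebra.ofId A L)
      (fun a ha => ha) (fun a ha => isUnit_iff_ne_zero.2 ha)
    letI : Algebra (RingHom.ker σ).ResidueField L := i.toRingHom.toAlgebra
    haveI : IsScalarTower A (RingHom.ker σ).ResidueField L := IsScalarTower.of_algebraMap_eq fun a => (i.commutes a).symm
    exact (Algebra.TensorProduct.cancelBaseChange A (RingHom.ker σ).ResidueField L L D).toEquiv.symm.nontrivial
  obtain ⟨m, hm⟩ := Ideal.exists_maximal (TensorProduct A L D)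
  haveI := finite_fiber (L := L) m
  letI := Ideal.Quotient.field m
  let e := IsAlgClosed.algebraMap_bijective_of_isIntegral (k := L) (K := TensorProduct A L D ⧸ m)
  let r : (TensorProduct A L D ⧸ m) →+* L := (RingEquiv.ofBijective _ e).symm.toRingHom
  refine ⟨r.comp ((Ideal.Quotient.mk m).comp Algebra.TensorProduct.includeRight.toRingHom), RingHom.ext fun a => ?_⟩
  apply (RingEquiv.ofBijective _ e).injective
  show (RingEquiv.ofBijective _ e) ((RingEquiv.ofBijective _ e).symm _) = _
  rw [RingEquiv.apply_symm_apply]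
  show Ideal.Quotient.mk m ((1 : L) ⊗ₜ[A] algebraMap A D a) = Ideal.Quotient.mk m (σ a ⊗ₜ[A] (1 : D))
  rw [Algebra.algebraMap_eq_smul_one, TensorProduct.tmul_smul, TensorProduct.smul_tmul', Algebra.smul_def, mul_one]
  rfl

/-- points over a finite algebra over an algebraically closed field -/
theorem exists_point_finite {K P A D : Type u} [Field K] [IsAlgClosed K] [CommRing P] [Algebra K P]
    [Module.Finite K P] [CommRing A] [CommRing D] [Algebra A D] [Algebra.FiniteType A D]
    [Algebra.FormallySmooth A D] (σ : A →+* P) (μ : P →ₐ[K] K) (x : D →+* K)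
    (hx : x.comp (algebraMap A D) = μ.toRingHom.comp σ)
    (hsurj : Function.Surjective (PrimeSpectrum.comap (algebraMap A D))) :
    ∃ φ : D →+* P, φ.comp (algebraMap A D) = σ ∧ μ.toRingHom.comp φ = x := by
  classical
  haveI : IsArtinianRing P := IsArtinianRing.of_finite K P
  have hbij : ∀ m : MaximalSpectrum P, Function.Bijective (algebraMap K (P ⧸ m.asIdeal)) := fun m => by
    haveI := m.isMaximal
    exact IsAlgClosed.algebraMap_bijective_of_isIntegral
  have hμ : Function.Surjective μ := fun c => ⟨algebraMap K P c, μ.commutes c⟩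
  have hmax : (RingHom.ker μ).IsMaximal := RingHom.ker_isMaximal_of_surjective μ hμ
  have hτ : ∀ m : MaximalSpectrum P, ∃ τ : D →+* P ⧸ m.asIdeal,
      τ.comp (algebraMap A D) = (Ideal.Quotient.mk m.asIdeal).comp σ ∧
      (m.asIdeal = RingHom.ker μ → τ = (algebraMap K (P ⧸ m.asIdeal)).comp x) := by
    intro m
    by_cases h : m.asIdeal = RingHom.ker μ
    · refine ⟨(algebraMap K (P ⧸ m.asIdeal)).comp x, RingHom.ext fun a => ?_, fun _ => rfl⟩
      show algebraMap K (P ⧸ m.asIdeal) (x (algebraMap A D a)) = Ideal.Quotient.mk _ (σ a)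
      rw [show x (algebraMap A D a) = μ (σ a) from RingHom.congr_fun hx a,
        IsScalarTower.algebraMap_apply K P (P ⧸ m.asIdeal)]
      refine Ideal.Quotient.eq.2 ?_
      rw [h, RingHom.mem_ker, map_sub, μ.commutes]
      exact sub_self _
    · let eq := RingEquiv.ofBijective _ (hbij m)
      obtain ⟨y, hy⟩ := exists_point hsurj (eq.symm.toRingHom.comp ((Ideal.Quotient.mk m.asIdeal).comp σ))
      refine ⟨eq.toRingHom.comp y, ?_, fun h' => absurd h' h⟩
      rw [RingHom.comp_assoc, hy]
      ext a
      exact eq.apply_symm_apply _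
  choose τ hτA hτμ using hτ
  let f : P →+* ∀ m : MaximalSpectrum P, P ⧸ m.asIdeal := RingHom.pi fun m => Ideal.Quotient.mk m.asIdeal
  have hker : RingHom.ker f = nilradical P := by
    rw [IsArtinianRing.nilradical_eq_iInf]
    ext a
    simp [f, RingHom.mem_ker, funext_iff, Ideal.Quotient.eq_zero_iff_mem, Submodule.mem_iInf]
  have hfs : Function.Surjective f := by
    haveI : Finite (MaximalSpectrum P) := inferInstance
    intro y
    obtain ⟨r, hr⟩ := Ideal.pi_quotient_surjective (I := fun m : MaximalSpectrum P => m.asIdeal)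
      (fun i j hij => Ideal.isCoprime_iff_sup_eq.2 (i.isMaximal.coprime_of_ne j.isMaximal fun e => hij (MaximalSpectrum.ext e))) y
    exact ⟨r, funext hr⟩
  obtain ⟨φ, hφA, hφ⟩ := lift_point σ f (hker ▸ IsNoetherianRing.isNilpotent_nilradical P)
    (RingHom.pi τ) (RingHom.ext fun a => funext fun m => RingHom.congr_fun (hτA m) a)
    (fun d => hfs _)
  refine ⟨φ, hφA, RingHom.ext fun d => ?_⟩
  have h : Ideal.Quotient.mk (RingHom.ker μ) (φ d) = Ideal.Quotient.mk _ (algebraMap K P (x d)) := by
    have h1 : f (φ d) ⟨_, hmax⟩ = τ ⟨_, hmax⟩ d := congrFun (RingHom.congr_fun hφ d) _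
    rw [hτμ ⟨_, hmax⟩ rfl] at h1
    exact h1
  rw [Ideal.Quotient.eq, RingHom.mem_ker, map_sub, sub_eq_zero, μ.commutes] at h
  exact h

end Groth.Agent.WeilAff
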