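import Groth.Agent.HomRep.WeilRing
import Groth.Agent.WeilAff.Lift

/-!
The algebra of the Weil restriction of an affine scheme of finite type.
-/

set_option autoImplicit false
set_option backward.isDefEq.respectTransparency false

universe u

open TensorProduct

namespace Groth.Agent.WeilAff

open HomRep

variable {R A : Type u} [CommRing R] [CommRing A] [Algebra R A]

/-- the compatibility of a point with the structure maps -/
def IsPt (D : Type u) [CommRing D] [Algebra R D] [Algebra A D] [IsScalarTower R A D] (T : Type u) [CommRing T]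
    [Algebra R T] (φ : D →ₐ[R] T ⊗[R] A) : Prop :=
  ∀ a : A, φ (algebraMap A D a) = (1 : T) ⊗ₜ[R] a

/-- the functoriality in the test ring -/
noncomputable abbrev bcMap {T T' : Type u} [CommRing T] [Algebra R T] [CommRing T'] [Algebra R T']
    (ψ : T →ₐ[R] T') : T ⊗[R] A →ₐ[R] T' ⊗[R] A :=
  Algebra.TensorProduct.map ψ (AlgHom.id R A)

theorem IsPt.map {D : Type u} [CommRing D] [Algebra R D] [Algebra A D] [IsScalarTower R A D] {T T' : Type u}
    [CommRing T] [Algebra R T] [CommRing T'] [Algebra R T'] {φ : D →ₐ[R] T ⊗[R] A} (h : IsPt D T φ)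
    (ψ : T →ₐ[R] T') : IsPt D T' ((bcMap ψ).comp φ) := fun a => by
  rw [AlgHom.comp_apply, h a]
  simp [bcMap]

/-- `W` represents the Weil restriction of `D` -/
structure IsWRes (D : Type u) [CommRing D] [Algebra R D] [Algebra A D] [IsScalarTower R A D] (W : Type u)
    [CommRing W] [Algebra R W] (F : D →ₐ[R] W ⊗[R] A) : Prop where
  isPt : IsPt D W F
  existsUnique : ∀ (T : Type u) [CommRing T] [Algebra R T] (φ : D →ₐ[R] T ⊗[R] A), IsPt D T φ →
    ∃! ψ : W →ₐ[R] T, (bcMap ψ).comp F = φ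
  finiteType : Algebra.FiniteType R W

theorem exists_wres_of_all {n : ℕ} (e : Fin n → A) (s : Fin n → A →ₗ[R] R) (hes : ∀ a, ∑ j, s j a • e j = a)
    (D : Type u) [CommRing D] [Algebra R D] [Algebra A D] [IsScalarTower R A D]
    (W₀ : Type u) [CommRing W₀] [Algebra R W₀] [Algebra.FiniteType R W₀] (F₀ : D →ₐ[R] W₀ ⊗[R] A)
    (hF₀ : ∀ (T : Type u) [CommRing T] [Algebra R T] (φ : D →ₐ[R] T ⊗[R] A),
      ∃! ψ : W₀ →ₐ[R] T, (bcMap ψ).comp F₀ = φ) :
    ∃ (W : Type u) (_ : CommRing W) (_ : Algebra R W) (F : D →ₐ[R] W ⊗[R] A), IsWRes D W F := by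
  classical
  let J : Ideal W₀ := Ideal.span (Set.range fun q : A × Fin n =>
    coord s W₀ q.2 (F₀ (algebraMap A D q.1) - (1 : W₀) ⊗ₜ[R] q.1))
  let π : W₀ →ₐ[R] W₀ ⧸ J := Ideal.Quotient.mkₐ R J
  have hiff : ∀ (T : Type u) [CommRing T] [Algebra R T] (ψ : W₀ →ₐ[R] T) (a : A),
      (bcMap ψ).comp F₀ (algebraMap A D a) = (1 : T) ⊗ₜ[R] a ↔
        ∀ j, ψ (coord s W₀ j (F₀ (algebraMap A D a) - (1 : W₀) ⊗ₜ[R] a)) = 0 := by
    intro T _ _ ψ a
    have h1 : bcMap ψ (F₀ (algebraMap A D a) - (1 : W₀) ⊗ₜ[R] a) =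
        (bcMap ψ).comp F₀ (algebraMap A D a) - (1 : T) ⊗ₜ[R] a := by
      rw [map_sub, AlgHom.comp_apply, Algebra.TensorProduct.map_tmul, map_one, AlgHom.id_apply]
    rw [← sub_eq_zero, ← h1]
    constructor
    · intro h j; rw [← coord_map, h, map_zero]
    · intro h
      rw [← sum_coord e s hes (bcMap ψ (F₀ (algebraMap A D a) - (1 : W₀) ⊗ₜ[R] a))]
      refine Finset.sum_eq_zero fun j _ => ?_
      rw [coord_map, h j, TensorProduct.zero_tmul]
  refine ⟨W₀ ⧸ J, inferInstance, inferInstance, (bcMap π).comp F₀, fun a => ?_, fun T _ _ φ hφ => ?_, ?_⟩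
  · exact (hiff _ π a).2 fun j => Ideal.Quotient.eq_zero_iff_mem.2 (Ideal.subset_span ⟨(a, j), rfl⟩)
  · obtain ⟨ψ₀, hψ₀, huniq⟩ := hF₀ T φ
    have hJ : J ≤ RingHom.ker ψ₀ := by
      rw [Ideal.span_le]
      rintro _ ⟨⟨a, j⟩, rfl⟩
      refine (hiff T ψ₀ a).1 ?_ j
      rw [show (bcMap ψ₀).comp F₀ = φ from hψ₀]; exact hφ a
    refine ⟨Ideal.Quotient.liftₐ J ψ₀ hJ, ?_, fun ψ hψ => ?_⟩
    · show (bcMap _).comp ((bcMap π).comp F₀) = φ
      rw [← AlgHom.comp_assoc, ← Algebra.TensorProduct.map_comp, AlgHom.comp_id, Ideal.Quotient.liftₐ_comp]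
      exact hψ₀
    · refine Ideal.Quotient.algHom_ext _ ?_
      rw [Ideal.Quotient.liftₐ_comp]
      refine huniq _ ?_
      show (bcMap _).comp F₀ = φ
      rw [← hψ]
      show _ = (bcMap ψ).comp ((bcMap π).comp F₀)
      rw [← AlgHom.comp_assoc, ← Algebra.TensorProduct.map_comp, AlgHom.comp_id]
  · exact Algebra.FiniteType.of_surjective π Ideal.Quotient.mk_surjective

theorem exists_wres [Module.Finite R A] [Module.Projective R A] (D : Type u) [CommRing D] [Algebra R D]
    [Algebra A D] [IsScalarTower R A D] [Algebra.FiniteType A D] :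
    ∃ (W : Type u) (_ : CommRing W) (_ : Algebra R W) (F : D →ₐ[R] W ⊗[R] A), IsWRes D W F := by
  classical
  haveI : Algebra.FiniteType R D := Algebra.FiniteType.trans (S := A) inferInstance inferInstance
  obtain ⟨n, f, g, -, -, hfg⟩ := Module.Finite.exists_comp_eq_id_of_projective R A
  let e : Fin n → A := fun j => f (Pi.single j 1)
  let s : Fin n → A →ₗ[R] R := fun j => (LinearMap.proj j).comp g
  have hes : ∀ a, ∑ j, s j a • e j = a := fun a => by
    have h := LinearMap.congr_fun hfg a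
    rw [LinearMap.comp_apply, LinearMap.id_apply] at h
    conv_rhs => rw [← h, pi_eq_sum_univ' (g a)]
    simp [map_sum, map_smul, e, s]
  obtain ⟨ι, _, p, hp⟩ := (Algebra.FiniteType.iff_quotient_mvPolynomial' (R := R) (S := D)).1 inferInstance
  obtain ⟨F₀, hF₀⟩ := exists_of_presentation e s hes (σ := ι) (RingHom.ker p : Set (MvPolynomial ι R)) p hp
    (Ideal.span_eq _).symm
  haveI : Algebra.FiniteType R (WRes e s (RingHom.ker p : Set (MvPolynomial ι R))) := Algebra.FiniteType.of_surjective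
    (Ideal.Quotient.mkₐ R (Ideal.span (eqns e s (RingHom.ker p : Set (MvPolynomial ι R))))) Ideal.Quotient.mk_surjective
  exact exists_wres_of_all e s hes D _ F₀ fun T _ _ φ => hF₀ T φ

/-- contraction of the second factor -/
noncomputable def mu {C : Type u} [CommRing C] [Algebra R C] (σ : A →ₐ[R] C) : C ⊗[R] A →ₐ[R] C :=
  Algebra.TensorProduct.lift (AlgHom.id R C) σ fun _ _ => Commute.all _ _

theorem mu_tmul {C : Type u} [CommRing C] [Algebra R C] (σ : A →ₐ[R] C) (c : C) (a : A) :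
    mu σ (c ⊗ₜ[R] a) = c * σ a := Algebra.TensorProduct.lift_tmul ..

theorem lift_bcMap {C C' : Type u} [CommRing C] [Algebra R C] [CommRing C'] [Algebra R C'] (ψ : C →ₐ[R] C')
    (σ : A →ₐ[R] C') (z : C ⊗[R] A) :
    mu σ (bcMap ψ z) = Algebra.TensorProduct.lift ψ σ (fun _ _ => Commute.all _ _) z := by
  induction z with
  | zero => simp
  | tmul c a => simp [bcMap, mu_tmul]
  | add x y hx hy => simp [hx, hy]

theorem tensor_hom_ext {C C' : Type u} [CommRing C] [Algebra R C] [CommRing C'] [Algebra R C']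
    {f g : C ⊗[R] A →ₐ[R] C'} (h1 : ∀ c, f (c ⊗ₜ 1) = g (c ⊗ₜ 1)) (h2 : ∀ a, f (1 ⊗ₜ a) = g (1 ⊗ₜ a)) : f = g :=
  Algebra.TensorProduct.ext (AlgHom.ext h1) (AlgHom.ext h2)

variable {D : Type u} [CommRing D] [Algebra R D] [Algebra A D] [IsScalarTower R A D]
  {W : Type u} [CommRing W] [Algebra R W] {F : D →ₐ[R] W ⊗[R] A}

theorem IsWRes.eq_of (hW : IsWRes D W F) {T : Type u} [CommRing T] [Algebra R T] {ψ ψ' : W →ₐ[R] T}
    (h : (bcMap ψ).comp F = (bcMap ψ').comp F) : ψ = ψ' :=
  (hW.existsUnique T _ (hW.isPt.map ψ')).unique h rfl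

theorem counit_finitePresentation [IsNoetherianRing A] [Module.Finite R A] [Algebra.FiniteType A D]
    (hW : IsWRes D W F) : F.toRingHom.FinitePresentation := by
  haveI : IsNoetherianRing D := Algebra.FiniteType.isNoetherianRing A D
  refine RingHom.FinitePresentation.of_finiteType.1 ?_
  haveI := hW.finiteType
  haveI : Algebra.FiniteType R (W ⊗[R] A) := Algebra.FiniteType.trans (S := W) inferInstance inferInstance
  refine RingHom.FiniteType.of_comp_finiteType (f := algebraMap R D) ?_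
  rw [AlgHom.toRingHom_eq_coe, AlgHom.comp_algebraMap]
  exact RingHom.finiteType_algebraMap.2 inferInstance

theorem counit_formallySmooth [Algebra.FormallySmooth A D] (hW : IsWRes D W F) :
    F.toRingHom.FormallySmooth := by
  letI : Algebra D (W ⊗[R] A) := F.toRingHom.toAlgebra
  show Algebra.FormallySmooth D (W ⊗[R] A)
  rw [Algebra.FormallySmooth.iff_comp_surjective]
  intro C _ _ I hI g
  letI : Algebra R C := ((algebraMap D C).comp (algebraMap R D)).toAlgebra
  haveI : IsScalarTower R D C := IsScalarTower.of_algebraMap_eq fun _ => rfl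
  let σ : A →ₐ[R] C := (IsScalarTower.toAlgHom R D C).comp (IsScalarTower.toAlgHom R A D)
  have hσ : ∀ a, σ a = algebraMap D C (algebraMap A D a) := fun a => rfl
  let π : C →ₐ[R] C ⧸ I := Ideal.Quotient.mkₐ R I
  let gR : W ⊗[R] A →ₐ[R] C ⧸ I :=
    { g.toRingHom with
      commutes' := fun r => by
        show g (algebraMap R (W ⊗[R] A) r) = _
        rw [← F.commutes r]
        exact (g.commutes (algebraMap R D r)).trans rfl }
  have hgF : ∀ d, gR (F d) = π (algebraMap D C d) := fun d => (g.commutes d).trans rfl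
  let ψ₀ : W →ₐ[R] C ⧸ I := gR.comp Algebra.TensorProduct.includeLeft
  have hg : gR = (mu (π.comp σ)).comp (bcMap ψ₀) := by
    refine tensor_hom_ext (fun c => ?_) fun a => ?_
    · simp [bcMap, mu_tmul, ψ₀]
    · rw [AlgHom.comp_apply, show bcMap ψ₀ ((1 : W) ⊗ₜ[R] a) = (1 : C ⧸ I) ⊗ₜ[R] a by simp [bcMap], mu_tmul,
        one_mul, ← hW.isPt a, hgF]
      rfl
  let Φ : C ⊗[R] A →ₐ[R] ((C ⧸ I) ⊗[R] A) × C := AlgHom.prod (bcMap π) (mu σ)
  let φ₀ : D →ₐ[R] (C ⧸ I) ⊗[R] A := (bcMap ψ₀).comp F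
  let τ : D →+* ((C ⧸ I) ⊗[R] A) × C := RingHom.prod φ₀.toRingHom (algebraMap D C)
  have hπ : Function.Surjective (bcMap π : C ⊗[R] A →ₐ[R] (C ⧸ I) ⊗[R] A) :=
    Algebra.TensorProduct.map_surjective (f := π) (g := AlgHom.id R A) Ideal.Quotient.mk_surjective Function.surjective_id
  have hr : ∀ d, τ d ∈ Φ.toRingHom.range := by
    intro d
    obtain ⟨z, hz⟩ := hπ (φ₀ d)
    have hz2 : algebraMap D C d - mu σ z ∈ I := by
      rw [← Ideal.Quotient.eq]
      show π _ = π (mu σ z)
      have h1 : π (mu σ z) = mu (π.comp σ) (bcMap π z) := by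
        rw [lift_bcMap]
        clear hz
        induction z with
        | zero => simp
        | tmul c a => simp [mu_tmul]
        | add x y hx hy => simp [hx, hy]
      rw [h1, hz, ← hgF, hg]
      rfl
    refine ⟨z + (algebraMap D C d - mu σ z) ⊗ₜ[R] 1, ?_⟩
    refine Prod.ext ?_ ?_
    · show bcMap π (z + _) = φ₀ d
      rw [map_add, hz, Algebra.TensorProduct.map_tmul, show π (algebraMap D C d - mu σ z) = 0 from
        Ideal.Quotient.eq_zero_iff_mem.2 hz2, TensorProduct.zero_tmul, add_zero]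
    · show mu σ (z + _) = algebraMap D C d
      rw [map_add, mu_tmul, map_one, mul_one, add_sub_cancel]
  have hker : IsNilpotent (RingHom.ker Φ.toRingHom) := by
    have hle : RingHom.ker Φ.toRingHom ≤ I.map (Algebra.TensorProduct.includeLeft : C →ₐ[R] C ⊗[R] A) := by
      intro z hz
      have h1 : z ∈ RingHom.ker (bcMap π : C ⊗[R] A →ₐ[R] (C ⧸ I) ⊗[R] A) := congrArg Prod.fst hz
      rw [Algebra.TensorProduct.map_ker π (AlgHom.id R A) Ideal.Quotient.mk_surjective Function.surjective_id] at h1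
      have h2 : RingHom.ker (π : C →ₐ[R] C ⧸ I) = I := Ideal.mk_ker
      have h3 : RingHom.ker (AlgHom.id R A) = ⊥ := (RingHom.injective_iff_ker_eq_bot _).1 Function.injective_id
      rwa [h2, h3, Ideal.map_bot, sup_bot_eq] at h1
    refine ⟨2, le_bot_iff.1 ((Ideal.pow_right_mono hle 2).trans (le_of_eq ?_))⟩
    rw [← Ideal.map_pow, hI, Ideal.map_bot]
  obtain ⟨φ, hφA, hφ⟩ := lift_point (A := A) (Algebra.TensorProduct.includeRight : A →ₐ[R] C ⊗[R] A).toRingHom
    Φ.toRingHom hker τ (RingHom.ext fun a => Prod.ext (by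
      show φ₀ (algebraMap A D a) = bcMap π ((1 : C) ⊗ₜ a)
      rw [show φ₀ (algebraMap A D a) = _ from hW.isPt.map ψ₀ a]; simp [bcMap]) (by
      show algebraMap D C (algebraMap A D a) = mu σ ((1 : C) ⊗ₜ a)
      rw [mu_tmul, one_mul, hσ])) hr
  have hφR : ∀ r, φ (algebraMap R D r) = algebraMap R (C ⊗[R] A) r := fun r => by
    rw [IsScalarTower.algebraMap_apply R A D]
    exact (RingHom.congr_fun hφA _).trans ((Algebra.TensorProduct.includeRight : A →ₐ[R] C ⊗[R] A).commutes r)
  let φR : D →ₐ[R] C ⊗[R] A := { φ with commutes' := hφR }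
  have hpt : IsPt D C φR := fun a => RingHom.congr_fun hφA a
  obtain ⟨ψ, hψ, -⟩ := hW.existsUnique C φR hpt
  let χ : W ⊗[R] A →ₐ[R] C := (mu σ).comp (bcMap ψ)
  have hχF : ∀ d, χ (F d) = algebraMap D C d := fun d => by
    show mu σ ((bcMap ψ).comp F d) = _
    rw [show (bcMap ψ).comp F = φR from hψ]
    exact congrArg Prod.snd (RingHom.congr_fun hφ d)
  refine ⟨{ χ.toRingHom with commutes' := hχF }, AlgHom.ext fun z => ?_⟩
  have h0 : π.comp ψ = ψ₀ := hW.eq_of (by
    rw [show bcMap (π.comp ψ) = (bcMap π).comp (bcMap ψ) by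
      rw [← Algebra.TensorProduct.map_comp, AlgHom.comp_id], AlgHom.comp_assoc,
      show (bcMap ψ).comp F = φR from hψ]
    exact AlgHom.ext fun d => congrArg Prod.fst (RingHom.congr_fun hφ d))
  show π (χ z) = gR z
  rw [hg, ← h0]
  simp only [χ, AlgHom.comp_apply, lift_bcMap]
  induction z with
  | zero => simp
  | tmul c a => simp
  | add x y hx hy => simp [hx, hy]

theorem counit_surjective [Module.Finite R A] [Algebra.FiniteType A D] [Algebra.FormallySmooth A D]
    (hW : IsWRes D W F) (hD : Function.Surjective (PrimeSpectrum.comap (algebraMap A D))) :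
    Function.Surjective (PrimeSpectrum.comap F.toRingHom) := by
  intro q
  let K := AlgebraicClosure q.asIdeal.ResidueField
  let x : D →+* K := (algebraMap q.asIdeal.ResidueField K).comp (algebraMap D q.asIdeal.ResidueField)
  letI : Algebra R K := (x.comp (algebraMap R D)).toAlgebra
  let σ : A →ₐ[R] K := ⟨x.comp (algebraMap A D), fun r => by
    show x (algebraMap A D (algebraMap R A r)) = _
    rw [← IsScalarTower.algebraMap_apply]; rfl⟩
  let μK : K ⊗[R] A →ₐ[K] K :=
    { (mu σ).toRingHom with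
      commutes' := fun c => by
        show mu σ (c ⊗ₜ[R] 1) = c
        rw [mu_tmul, map_one, mul_one] }
  obtain ⟨φ, hφA, hφ⟩ := exists_point_finite (K := K) (P := K ⊗[R] A) (A := A) (D := D)
    (Algebra.TensorProduct.includeRight : A →ₐ[R] K ⊗[R] A).toRingHom μK x (RingHom.ext fun a => by
      show x (algebraMap A D a) = mu σ ((1 : K) ⊗ₜ[R] a)
      rw [mu_tmul, one_mul]; rfl) hD
  let φR : D →ₐ[R] K ⊗[R] A :=
    { φ with
      commutes' := fun r => by
        show φ (algebraMap R D r) = _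
        rw [IsScalarTower.algebraMap_apply R A D]
        exact (RingHom.congr_fun hφA _).trans ((Algebra.TensorProduct.includeRight : A →ₐ[R] K ⊗[R] A).commutes r) }
  obtain ⟨ψ, hψ, -⟩ := hW.existsUnique K φR fun a => RingHom.congr_fun hφA a
  let χ : W ⊗[R] A →+* K := ((mu σ).comp (bcMap ψ)).toRingHom
  refine ⟨⟨RingHom.ker χ, RingHom.ker_isPrime χ⟩, PrimeSpectrum.ext ?_⟩
  show (RingHom.ker χ).comap F.toRingHom = q.asIdeal
  rw [RingHom.comap_ker, show χ.comp F.toRingHom = x from RingHom.ext fun d => by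
    show mu σ ((bcMap ψ).comp F d) = _
    rw [show (bcMap ψ).comp F = φR from hψ]
    exact RingHom.congr_fun hφ d,
    RingHom.ker_comp_of_injective _ (algebraMap q.asIdeal.ResidueField K).injective, Ideal.ker_algebraMap_residueField]

theorem exists_point_purelyInseparable [Algebra.FormallySmooth A D] (hW : IsWRes D W F) {C : Type u} [CommRing C]
    [Algebra R C] (σ : A →ₐ[R] C) (hnil : IsNilpotent (RingHom.ker (mu σ).toRingHom)) (x : D →+* C)
    (hx : ∀ a, x (algebraMap A D a) = σ a) :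
    ∃ ψ : W →ₐ[R] C, ∀ d, Algebra.TensorProduct.lift ψ σ (fun _ _ => Commute.all _ _) (F d) = x d := by
  obtain ⟨φ, hφA, hφ⟩ := lift_point (A := A) (Algebra.TensorProduct.includeRight : A →ₐ[R] C ⊗[R] A).toRingHom
    (mu σ).toRingHom hnil x (RingHom.ext fun a => by
      show x (algebraMap A D a) = mu σ ((1 : C) ⊗ₜ[R] a)
      rw [mu_tmul, one_mul, hx]) (fun d => ⟨x d ⊗ₜ 1, by
        show mu σ (x d ⊗ₜ[R] 1) = x d
        rw [mu_tmul, map_one, mul_one]⟩)
  let φR : D →ₐ[R] C ⊗[R] A :=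
    { φ with
      commutes' := fun r => by
        show φ (algebraMap R D r) = _
        rw [IsScalarTower.algebraMap_apply R A D]
        exact (RingHom.congr_fun hφA _).trans ((Algebra.TensorProduct.includeRight : A →ₐ[R] C ⊗[R] A).commutes r) }
  obtain ⟨ψ, hψ, -⟩ := hW.existsUnique C φR fun a => RingHom.congr_fun hφA a
  refine ⟨ψ, fun d => ?_⟩
  rw [← lift_bcMap]
  show mu σ ((bcMap ψ).comp F d) = _
  rw [show (bcMap ψ).comp F = φR from hψ]
  exact RingHom.congr_fun hφ d

theorem unit_surjective [Module.FaithfullyFlat R A] {C : Type u} [CommRing C] [Algebra R C] (hW : IsWRes D W F)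
    (φ : D →ₐ[R] C ⊗[R] A) (hgen : ∀ c : C, ∃ d, φ d = c ⊗ₜ[R] (1 : A))
    {ψ : W →ₐ[R] C} (hψ : (bcMap ψ).comp F = φ) : Function.Surjective ψ := by
  intro c
  obtain ⟨d, hd⟩ := hgen c
  let S : Submodule R C := LinearMap.range ψ.toLinearMap
  have h1 : ((Submodule.mkQ S).rTensor A) (bcMap ψ (F d)) = 0 := by
    induction F d with
    | zero => simp
    | tmul w a =>
      rw [Algebra.TensorProduct.map_tmul, LinearMap.rTensor_tmul]
      rw [show Submodule.mkQ S (ψ w) = 0 from (Submodule.Quotient.mk_eq_zero _).2 ⟨w, rfl⟩, TensorProduct.zero_tmul]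
    | add x y hx hy => rw [map_add, map_add, hx, hy, add_zero]
  have h2 : bcMap ψ (F d) = c ⊗ₜ[R] (1 : A) := by rw [← hd, ← hψ]; rfl
  rw [h2, LinearMap.rTensor_tmul] at h1
  have h3 : (1 : A) ⊗ₜ[R] Submodule.mkQ S c = 0 := by
    have := congrArg (TensorProduct.comm R _ A) h1
    simpa using this
  have h4 : Submodule.mkQ S c = 0 :=
    Module.FaithfullyFlat.tensorProduct_mk_injective (A := R) (B := A) _ (h3.trans (TensorProduct.tmul_zero _ _).symm)
  obtain ⟨w, hw⟩ := (Submodule.Quotient.mk_eq_zero _).1 h4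
  exact ⟨w, hw⟩

section relative

variable {D' : Type u} [CommRing D'] [Algebra R D'] [Algebra A D'] [IsScalarTower R A D'] [Algebra D' D]
  [IsScalarTower A D' D] [IsScalarTower R D' D] {W' : Type u} [CommRing W'] [Algebra R W']
  {F' : D' →ₐ[R] W' ⊗[R] A}

theorem rho_formallySmooth [Algebra.FormallySmooth D' D] (hW : IsWRes D W F) (hW' : IsWRes D' W' F')
    (ρ : W' →ₐ[R] W) (hρ : (bcMap ρ).comp F' = F.comp (IsScalarTower.toAlgHom R D' D)) :
    ρ.toRingHom.FormallySmooth := by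
  letI : Algebra W' W := ρ.toRingHom.toAlgebra
  show Algebra.FormallySmooth W' W
  rw [Algebra.FormallySmooth.iff_comp_surjective]
  intro C _ _ I hI g
  letI : Algebra R C := ((algebraMap W' C).comp (algebraMap R W')).toAlgebra
  let ψ' : W' →ₐ[R] C := ⟨algebraMap W' C, fun _ => rfl⟩
  let π : C →ₐ[R] C ⧸ I := Ideal.Quotient.mkₐ R I
  let gR : W →ₐ[R] C ⧸ I :=
    { g.toRingHom with
      commutes' := fun r => by
        show g (algebraMap R W r) = _
        rw [← ρ.commutes r]
        exact (g.commutes (algebraMap R W' r)).trans rfl }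
  have hgρ : gR.comp ρ = π.comp ψ' := AlgHom.ext fun w => (g.commutes w).trans rfl
  let φ' : D' →ₐ[R] C ⊗[R] A := (bcMap ψ').comp F'
  let φ₀ : D →ₐ[R] (C ⧸ I) ⊗[R] A := (bcMap gR).comp F
  have hπ : Function.Surjective (bcMap π : C ⊗[R] A →ₐ[R] (C ⧸ I) ⊗[R] A) :=
    Algebra.TensorProduct.map_surjective (f := π) (g := AlgHom.id R A) Ideal.Quotient.mk_surjective Function.surjective_id
  have hker : IsNilpotent (RingHom.ker (bcMap π : C ⊗[R] A →ₐ[R] (C ⧸ I) ⊗[R] A).toRingHom) := by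
    have hle : RingHom.ker (bcMap π : C ⊗[R] A →ₐ[R] (C ⧸ I) ⊗[R] A).toRingHom ≤
        I.map (Algebra.TensorProduct.includeLeft : C →ₐ[R] C ⊗[R] A) := by
      intro z hz
      have h1 : z ∈ RingHom.ker (bcMap π : C ⊗[R] A →ₐ[R] (C ⧸ I) ⊗[R] A) := hz
      rw [Algebra.TensorProduct.map_ker π (AlgHom.id R A) Ideal.Quotient.mk_surjective Function.surjective_id] at h1
      have h2 : RingHom.ker (π : C →ₐ[R] C ⧸ I) = I := Ideal.mk_ker
      have h3 : RingHom.ker (AlgHom.id R A) = ⊥ := (RingHom.injective_iff_ker_eq_bot _).1 Function.injective_id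
      rwa [h2, h3, Ideal.map_bot, sup_bot_eq] at h1
    refine ⟨2, le_bot_iff.1 ((Ideal.pow_right_mono hle 2).trans (le_of_eq ?_))⟩
    rw [← Ideal.map_pow, hI, Ideal.map_bot]
  have hcomm : φ₀.comp (IsScalarTower.toAlgHom R D' D) = (bcMap π).comp φ' := by
    show ((bcMap gR).comp F).comp _ = (bcMap π).comp ((bcMap ψ').comp F')
    rw [AlgHom.comp_assoc, ← hρ, ← AlgHom.comp_assoc, ← AlgHom.comp_assoc, ← Algebra.TensorProduct.map_comp,
      ← Algebra.TensorProduct.map_comp, AlgHom.comp_id, hgρ]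
  obtain ⟨φ, hφA, hφ⟩ := lift_point (A := D') φ'.toRingHom (bcMap π).toRingHom hker φ₀.toRingHom
    (congrArg AlgHom.toRingHom hcomm) (fun d => hπ _)
  let φR : D →ₐ[R] C ⊗[R] A :=
    { φ with
      commutes' := fun r => by
        show φ (algebraMap R D r) = _
        rw [IsScalarTower.algebraMap_apply R D' D]
        exact (RingHom.congr_fun hφA _).trans (φ'.commutes r) }
  have hpt : IsPt D C φR := fun a => by
    show φ (algebraMap A D a) = _
    rw [IsScalarTower.algebraMap_apply A D' D]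
    exact (RingHom.congr_fun hφA _).trans (hW'.isPt.map ψ' a)
  obtain ⟨ψ, hψ, -⟩ := hW.existsUnique C φR hpt
  have h1 : ψ.comp ρ = ψ' := hW'.eq_of (by
    rw [show bcMap (ψ.comp ρ) = (bcMap ψ).comp (bcMap ρ) by
      rw [← Algebra.TensorProduct.map_comp, AlgHom.comp_id], AlgHom.comp_assoc, hρ, ← AlgHom.comp_assoc,
      show (bcMap ψ).comp F = φR from hψ]
    exact AlgHom.ext fun d => RingHom.congr_fun hφA d)
  have h2 : π.comp ψ = gR := hW.eq_of (by
    rw [show bcMap (π.comp ψ) = (bcMap π).comp (bcMap ψ) by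
      rw [← Algebra.TensorProduct.map_comp, AlgHom.comp_id], AlgHom.comp_assoc,
      show (bcMap ψ).comp F = φR from hψ]
    exact AlgHom.ext fun d => RingHom.congr_fun hφ d)
  exact ⟨{ ψ.toRingHom with commutes' := fun w => AlgHom.congr_fun h1 w }, AlgHom.ext fun w => AlgHom.congr_fun h2 w⟩

theorem rho_surjective [Module.Finite R A] [Algebra.FiniteType D' D] [Algebra.FormallySmooth D' D]
    (hW : IsWRes D W F) (hW' : IsWRes D' W' F') (ρ : W' →ₐ[R] W)
    (hρ : (bcMap ρ).comp F' = F.comp (IsScalarTower.toAlgHom R D' D))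
    (hD : Function.Surjective (PrimeSpectrum.comap (algebraMap D' D))) :
    Function.Surjective (PrimeSpectrum.comap ρ.toRingHom) := by
  classical
  intro q
  let K := AlgebraicClosure q.asIdeal.ResidueField
  let y : W' →+* K := (algebraMap q.asIdeal.ResidueField K).comp (algebraMap W' q.asIdeal.ResidueField)
  letI : Algebra R K := (y.comp (algebraMap R W')).toAlgebra
  let ψ' : W' →ₐ[R] K := ⟨y, fun _ => rfl⟩
  let φ' : D' →ₐ[R] K ⊗[R] A := (bcMap ψ').comp F'
  haveI : IsArtinianRing (K ⊗[R] A) := IsArtinianRing.of_finite K _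
  rcases subsingleton_or_nontrivial (K ⊗[R] A) with hT | hT
  · have hpt : IsPt D K ((bcMap ψ').comp F' |> fun _ => (
        { toFun := fun _ => 0, map_one' := Subsingleton.elim _ _, map_mul' := fun _ _ => Subsingleton.elim _ _,
          map_zero' := rfl, map_add' := fun _ _ => Subsingleton.elim _ _,
          commutes' := fun _ => Subsingleton.elim _ _ } : D →ₐ[R] K ⊗[R] A)) := fun _ => Subsingleton.elim _ _
    obtain ⟨ψ, -, -⟩ := hW.existsUnique K _ hpt
    have hψρ : ψ.comp ρ = ψ' := hW'.eq_of (AlgHom.ext fun _ => Subsingleton.elim _ _)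
    refine ⟨⟨RingHom.ker ψ.toRingHom, RingHom.ker_isPrime _⟩, PrimeSpectrum.ext ?_⟩
    show (RingHom.ker ψ.toRingHom).comap ρ.toRingHom = q.asIdeal
    rw [RingHom.comap_ker, show ψ.toRingHom.comp ρ.toRingHom = y from congrArg AlgHom.toRingHom hψρ,
      RingHom.ker_comp_of_injective _ (algebraMap q.asIdeal.ResidueField K).injective, Ideal.ker_algebraMap_residueField]
  obtain ⟨m₀, hm₀⟩ := Ideal.exists_maximal (K ⊗[R] A)
  have hbij : Function.Bijective (algebraMap K ((K ⊗[R] A) ⧸ m₀)) := IsAlgClosed.algebraMap_bijective_of_isIntegral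
  let eq := RingEquiv.ofBijective _ hbij
  let μK : K ⊗[R] A →ₐ[K] K :=
    { eq.symm.toRingHom.comp (Ideal.Quotient.mk m₀) with
      commutes' := fun c => eq.symm_apply_apply c }
  obtain ⟨x, hx⟩ := exists_point hD (μK.toRingHom.comp φ'.toRingHom)
  obtain ⟨φ, hφA, -⟩ := exists_point_finite (K := K) (P := K ⊗[R] A) (A := D') (D := D) φ'.toRingHom μK x hx hD
  let φR : D →ₐ[R] K ⊗[R] A :=
    { φ with
      commutes' := fun r => by
        show φ (algebraMap R D r) = _
        rw [IsScalarTower.algebraMap_apply R D' D]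
        exact (RingHom.congr_fun hφA _).trans (φ'.commutes r) }
  have hpt : IsPt D K φR := fun a => by
    show φ (algebraMap A D a) = _
    rw [IsScalarTower.algebraMap_apply A D' D]
    exact (RingHom.congr_fun hφA _).trans (hW'.isPt.map ψ' a)
  obtain ⟨ψ, hψ, -⟩ := hW.existsUnique K φR hpt
  have hψρ : ψ.comp ρ = ψ' := hW'.eq_of (by
    rw [show bcMap (ψ.comp ρ) = (bcMap ψ).comp (bcMap ρ) by
      rw [← Algebra.TensorProduct.map_comp, AlgHom.comp_id], AlgHom.comp_assoc, hρ, ← AlgHom.comp_assoc,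
      show (bcMap ψ).comp F = φR from hψ]
    exact AlgHom.ext fun d => RingHom.congr_fun hφA d)
  refine ⟨⟨RingHom.ker ψ.toRingHom, RingHom.ker_isPrime _⟩, PrimeSpectrum.ext ?_⟩
  show (RingHom.ker ψ.toRingHom).comap ρ.toRingHom = q.asIdeal
  rw [RingHom.comap_ker, show ψ.toRingHom.comp ρ.toRingHom = y from congrArg AlgHom.toRingHom hψρ,
    RingHom.ker_comp_of_injective _ (algebraMap q.asIdeal.ResidueField K).injective, Ideal.ker_algebraMap_residueField]

end relative

end Groth.Agent.WeilAff
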