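import Groth.Agent.WeilAff.Apps
import Groth.Agent.FinHopf.GrpScheme
import Mathlib.RingTheory.Bialgebra.Convolution

/-!
Points congruent to the unit modulo a nilpotent ideal are killed by a power of the exponential characteristic.
-/

set_option autoImplicit false
set_option backward.isDefEq.respectTransparency false
set_option maxHeartbeats 1000000
set_option synthInstance.maxHeartbeats 200000

universe u

open CategoryTheory MonoidalCategory CartesianMonoidalCategory MonObj GrpObj AlgebraicGeometry TensorProduct WithConv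

noncomputable section

namespace Groth.Agent.WeilAff

section Conv

variable {R A P : Type u} [CommRing R] [CommRing A] [Bialgebra R A] [CommRing P] [Algebra R P]

/-- convolution powers of a linear map valued in an ideal -/
theorem convPow_mem (N : Ideal P) (f : WithConv (A →ₗ[R] P)) (hf : ∀ a, f a ∈ N) :
    ∀ (n : ℕ) (a : A), (f ^ n) a ∈ N ^ n
  | 0, _ => by rw [pow_zero (M := Ideal P), Ideal.one_eq_top]; trivial
  | n + 1, a => by
    rw [pow_succ N, pow_succ f, (Coalgebra.Repr.arbitrary R a).convMul_apply]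
    exact Ideal.sum_mem _ fun i _ => Ideal.mul_mem_mul (convPow_mem N f hf n _) (hf _)

/-- congruent to the unit ⇒ killed by a power of `p` -/
theorem conv_pow_eq_one (p : ℕ) (hp : p.Prime) (hp0 : (p : P) = 0) (N : Ideal P) (m : ℕ) (hN : N ^ (p ^ m) = ⊥)
    (x : WithConv (A →ₐ[R] P)) (h : ∀ a, x a - algebraMap R P (Coalgebra.counit a) ∈ N) :
    x ^ (p ^ m) = 1 := by
  let X : WithConv (A →ₗ[R] P) := toConv x.ofConv.toLinearMap
  let δ : WithConv (A →ₗ[R] P) := X - 1
  obtain ⟨r, hr⟩ := (Commute.one_right δ).exists_add_pow_prime_pow_eq hp m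
  have hpz : ∀ y : WithConv (A →ₗ[R] P), (p : WithConv (A →ₗ[R] P)) * y = 0 := fun y => by
    rw [← nsmul_eq_mul]
    refine WithConv.ofConv_injective (LinearMap.ext fun a => ?_)
    show (p • y.ofConv) a = 0
    rw [LinearMap.smul_apply, nsmul_eq_mul, hp0, zero_mul]
  have hd : δ ^ (p ^ m) = 0 := by
    refine WithConv.ofConv_injective (LinearMap.ext fun a => ?_)
    have h1 := convPow_mem N δ (fun b => by simpa [δ, X] using h b) (p ^ m) a
    rw [hN, Ideal.mem_bot] at h1
    exact h1
  have h2 : X ^ (p ^ m) = 1 := by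
    have h3 : δ + 1 = X := sub_add_cancel _ _
    rw [h3, hd, one_pow, zero_add] at hr
    rw [hr, show (p : WithConv (A →ₗ[R] P)) * δ * 1 * r = (p : WithConv (A →ₗ[R] P)) * (δ * 1 * r) by
      simp only [_root_.mul_assoc], hpz, add_zero]
  refine WithConv.ofConv_injective (AlgHom.ext fun a => ?_)
  have h4 : toConv (x ^ (p ^ m)).ofConv.toLinearMap = X ^ (p ^ m) := AlgHom.toLinearMap_convPow x (p ^ m)
  rw [h2] at h4
  exact LinearMap.congr_fun (congrArg WithConv.ofConv h4) a

end Conv

/-- points of an affine group congruent to the unit along a nilpotent thickening -/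
theorem pow_eq_one_of_red {R P L : Type u} [CommRing R] [CommRing P] [Algebra R P] [CommRing L] [Algebra R L]
    (G' : Over (Spec (CommRingCat.of R))) [GrpObj G'] [IsAffine G'.left] (p : ℕ) (hp : p.Prime) (hp0 : (p : P) = 0)
    (f : P →ₐ[R] L) (m : ℕ) (hN : (RingHom.ker f.toRingHom) ^ (p ^ m) = ⊥) (x : SpA R P ⟶ G')
    (h : saHom f ≫ x = 1) : x ^ (p ^ m) = 1 := by
  obtain ⟨A, _, e, he⟩ := FinHopf.exists_hopf (R := CommRingCat.of R) G'
  haveI := he
  haveI : IsMonHom e.inv := inferInstance
  let Φ := Spec.mapMulEquiv (R := R) (S := (A : Type u)) (T := P)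
  obtain ⟨z, hz⟩ : ∃ z, Φ z = x ≫ e.inv := Φ.surjective (x ≫ e.inv)
  have hz1 : saHom f ≫ Φ z = Spec.mapMulEquiv (R := R) (S := (A : Type u)) (T := L) (toConv (f.comp z.ofConv)) := by
    refine Over.OverMorphism.ext ?_
    show Spec.map _ ≫ Spec.map _ = Spec.map _
    rw [← Spec.map_comp]
    rfl
  have hz2 : toConv (f.comp z.ofConv) = (1 : WithConv ((A : Type u) →ₐ[R] L)) := by
    refine (Spec.mapMulEquiv (R := R) (S := (A : Type u)) (T := L)).injective ?_
    rw [← hz1, hz, map_one, ← Category.assoc, h, MonObj.one_comp]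
  have hz3 : ∀ a, z a - algebraMap R P (Coalgebra.counit a) ∈ RingHom.ker f.toRingHom := fun a => by
    rw [RingHom.mem_ker, map_sub, sub_eq_zero]
    have h5 := AlgHom.congr_fun (congrArg WithConv.ofConv hz2) a
    refine Eq.trans ?_ (f.commutes _).symm
    exact h5
  have h6 := conv_pow_eq_one p hp hp0 _ m hN z hz3
  have h7 := congrArg (fun t => t ≫ e.hom) (congrArg Φ h6)
  simp only [map_pow, hz, map_one, MonObj.one_comp, MonObj.pow_comp, Category.assoc, Iso.inv_hom_id,
    Category.comp_id] at h7
  exact h7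

end Groth.Agent.WeilAff
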